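import Mathlib

/-!
Closed points of fibres, finite type points, and images of quasi-compact morphisms.
-/

universe u

open CategoryTheory Limits AlgebraicGeometry TopologicalSpace

set_option backward.isDefEq.respectTransparency false
set_option linter.style.haveILetI false

namespace Groth.SchemeMorphisms

section Closure

/-- A point in the closure of the image of a quasi-compact morphism is a specialization of an
image point. -/
theorem exists_specializes_of_mem_closure_range {X S : Scheme.{u}} (f : X ⟶ S) [QuasiCompact f]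
    {s : S} (hs : s ∈ closure (Set.range f)) : ∃ x, f x ⤳ s := by
  obtain ⟨_, ⟨U, hU, rfl⟩, hsU, -⟩ :=
    S.isBasis_affineOpens.exists_subset_of_mem_open (Set.mem_univ s) isOpen_univ
  replace hU : IsAffineOpen U := hU
  have hc : IsCompact ((f ⁻¹ᵁ U : X.Opens) : Set X) :=
    QuasiCompact.isCompact_preimage _ U.isOpen hU.isCompact
  obtain ⟨R, g, hg⟩ := isCompact_iff_exists.mp hc
  have hgU : Set.range (g ≫ f) ⊆ Set.range hU.fromSpec := by
    rw [hU.range_fromSpec]
    rintro _ ⟨r, rfl⟩
    exact hg.le (Set.mem_range_self r)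
  obtain ⟨φ, hφ⟩ := Spec.map_surjective (IsOpenImmersion.lift hU.fromSpec (g ≫ f) hgU)
  have hcomp : Spec.map φ ≫ hU.fromSpec = g ≫ f := by rw [hφ, IsOpenImmersion.lift_fac]
  obtain ⟨p, hp⟩ : s ∈ Set.range hU.fromSpec := by rw [hU.range_fromSpec]; exact hsU
  have hmem : p ∈ closure (Set.range (PrimeSpectrum.comap φ.hom)) := by
    rw [mem_closure_iff] at hs ⊢
    intro W hW hpW
    obtain ⟨_, ⟨q, hqW, rfl⟩, x, hx⟩ :=
      hs _ (hU.fromSpec.isOpenEmbedding.isOpenMap W hW) ⟨p, hpW, hp⟩
    obtain ⟨r, rfl⟩ : x ∈ Set.range g := by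
      rw [hg]
      show f x ∈ U
      rw [hx, ← SetLike.mem_coe, ← hU.range_fromSpec]
      exact Set.mem_range_self q
    refine ⟨q, hqW, r, hU.fromSpec.isOpenEmbedding.injective ?_⟩
    rw [← hx]
    exact congrArg (fun h : Spec R ⟶ S => h r) hcomp
  rw [PrimeSpectrum.closure_range_comap, PrimeSpectrum.mem_zeroLocus] at hmem
  obtain ⟨q, hq, hqp⟩ := Ideal.exists_minimalPrimes_le (J := p.asIdeal)
    (I := RingHom.ker φ.hom) hmem
  obtain ⟨r, hr, -, hrq⟩ := Ideal.exists_comap_eq_of_mem_minimalPrimes (I := ⊥) φ.hom q hq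
  refine ⟨g ⟨r, hr⟩, ?_⟩
  rw [← Scheme.Hom.comp_apply, ← hcomp, Scheme.Hom.comp_apply, ← hp]
  refine Specializes.map ?_ hU.fromSpec.continuous
  refine (PrimeSpectrum.le_iff_specializes _ p).mp ?_
  change r.comap φ.hom ≤ p.asIdeal
  rw [hrq]; exact hqp

/-- `closure {η}` is an irreducible component iff `η` has no proper generalization. -/
theorem closure_mem_irreducibleComponents_iff {S : Type*} [TopologicalSpace S] [QuasiSober S]
    [T0Space S] (η : S) :
    closure {η} ∈ irreducibleComponents S ↔ ∀ t, t ⤳ η → t = η := by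
  constructor
  · intro h t ht
    have hle : closure ({η} : Set S) ⊆ closure {t} :=
      closure_minimal (Set.singleton_subset_iff.mpr ht.mem_closure) isClosed_closure
    have hge : closure ({t} : Set S) ⊆ closure {η} :=
      h.2 isIrreducible_singleton.closure hle
    exact (((specializes_iff_mem_closure.mpr (hge (subset_closure rfl))).antisymm ht).eq).symm
  · intro h
    refine ⟨isIrreducible_singleton.closure, fun Z hZ hle => ?_⟩
    have hg := hZ.isGenericPoint_genericPoint_closure
    have : hZ.genericPoint = η :=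
      h _ (hg.specializes (subset_closure (hle (subset_closure rfl))))
    rw [← this, hg.def]
    exact subset_closure

end Closure

section Fibre

variable {X S : Scheme.{u}}

/-- A point in a locally Noetherian, sober space that is closed and has no proper generalization
is isolated. -/
theorem isOpen_singleton_of_isClosed_of_forall_specializes (X : Scheme.{u}) [IsLocallyNoetherian X]
    (x : X) (hc : IsClosed {x}) (hg : ∀ y, y ⤳ x → y = x) : IsOpen {x} := by
  obtain ⟨_, ⟨U, hU, rfl⟩, hxU, -⟩ :=
    X.isBasis_affineOpens.exists_subset_of_mem_open (Set.mem_univ x) isOpen_univ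
  replace hU : IsAffineOpen U := hU
  have : QuasiSober ↥U := U.isOpen.isOpenEmbedding_subtypeVal.quasiSober
  have : IsNoetherianRing Γ(X, U) := IsLocallyNoetherian.component_noetherian ⟨U, hU⟩
  have : NoetherianSpace ↥U := by
    have : NoetherianSpace (Spec Γ(X, U)) :=
      inferInstanceAs (NoetherianSpace (PrimeSpectrum Γ(X, U)))
    exact (noetherianSpace_iff_of_homeomorph (Scheme.homeoOfIso hU.isoSpec)).mpr this
  have hfin : (irreducibleComponents ↥U).Finite := NoetherianSpace.finite_irreducibleComponents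
  let W : Set ↥U := ⋃₀ {Z | Z ∈ irreducibleComponents ↥U ∧ (⟨x, hxU⟩ : ↥U) ∉ Z}
  have hW : IsClosed W := by
    rw [show W = _ from Set.sUnion_eq_biUnion]
    exact Set.Finite.isClosed_biUnion (hfin.subset fun Z h => h.1)
      fun Z hZ => isClosed_of_mem_irreducibleComponents Z hZ.1
  have : ({⟨x, hxU⟩} : Set ↥U) = Wᶜ := by
    ext y
    constructor
    · rintro rfl ⟨Z, ⟨-, hZ⟩, hyZ⟩
      exact hZ hyZ
    · intro hy
      obtain ⟨Z, hZ, hyZ⟩ : ∃ Z ∈ irreducibleComponents ↥U, y ∈ Z :=
        ⟨irreducibleComponent y, irreducibleComponent_mem_irreducibleComponents y,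
          mem_irreducibleComponent⟩
      have hxZ : (⟨x, hxU⟩ : ↥U) ∈ Z := by
        by_contra hxZ
        exact hy ⟨Z, ⟨hZ, hxZ⟩, hyZ⟩
      have hgen := hZ.1.isGenericPoint_genericPoint_closure
      rw [(isClosed_of_mem_irreducibleComponents Z hZ).closure_eq] at hgen
      have h1 : hZ.1.genericPoint.1 = x :=
        hg _ ((hgen.specializes hxZ).map continuous_subtype_val)
      have h2 : x ⤳ y.1 := h1 ▸ (hgen.specializes hyZ).map continuous_subtype_val
      have h3 : y.1 = x := by simpa [hc.closure_eq] using h2.mem_closure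
      exact Subtype.ext h3
  have hopen : IsOpen ({⟨x, hxU⟩} : Set ↥U) := this ▸ hW.isOpen_compl
  simpa using U.isOpen.isOpenMap_subtype_val _ hopen

theorem isLocallyNoetherian_fiber (f : X ⟶ S) [LocallyOfFiniteType f] (s : S) :
    IsLocallyNoetherian (f.fiber s) := by
  have : LocallyOfFiniteType (f.fiberToSpecResidueField s) :=
    inferInstanceAs (LocallyOfFiniteType (pullback.snd f _))
  exact LocallyOfFiniteType.isLocallyNoetherian (f.fiberToSpecResidueField s)

/-- A point is closed in its fibre iff the residue field extension is finite. -/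
theorem isClosed_asFiber_iff_finite (f : X ⟶ S) [LocallyOfFiniteType f] (x : X) :
    IsClosed ({f.asFiber x} : Set (f.fiber (f x))) ↔ (f.residueFieldMap x).hom.Finite := by
  have hπ : LocallyOfFiniteType (f.fiberToSpecResidueField (f x)) :=
    inferInstanceAs (LocallyOfFiniteType (pullback.snd f _))
  have key : IsFinite (Spec.map (f.residueFieldMap x)) ↔
      LocallyOfFiniteType (f.asFiberHom x) := by
    rw [isFinite_iff_locallyOfFiniteType_of_jacobsonSpace,
      ← f.asFiberHom_fiberToSpecResidueField x]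
    exact ⟨fun h => locallyOfFiniteType_of_comp _ (f.fiberToSpecResidueField (f x)),
      fun h => inferInstance⟩
  rw [← IsFinite.SpecMap_iff, key]
  constructor
  · intro h
    have : IsClosedImmersion (f.asFiberHom x) :=
      .of_isPreimmersion _ (by rw [f.range_asFiberHom]; exact h)
    infer_instance
  · intro h
    have := (f.asFiberHom x).closePoints_subset_preimage_closedPoints
      (IsLocalRing.isClosed_singleton_closedPoint _)
    have h' : IsClosed {f.asFiberHom x (IsLocalRing.closedPoint _)} := this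
    simpa only [Scheme.Hom.asFiberHom_apply] using h'

theorem quasiFiniteAt_iff_closed_noGen (f : X ⟶ S) [LocallyOfFiniteType f] (x : X) :
    f.QuasiFiniteAt x ↔
      (IsClosed ({f.asFiber x} : Set (f.fiber (f x))) ∧
        ∀ x' : f.fiber (f x), x' ⤳ f.asFiber x → x' = f.asFiber x) := by
  constructor
  · intro h
    refine ⟨h.isClopen_singleton_asFiber.isClosed, fun x' hx' => ?_⟩
    exact hx'.mem_open h.isClopen_singleton_asFiber.isOpen rfl
  · rintro ⟨hc, hg⟩
    have := isLocallyNoetherian_fiber f (f x)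
    exact Scheme.Hom.quasiFiniteAt_iff_isOpen_singleton_asFiber.mpr
      (isOpen_singleton_of_isClosed_of_forall_specializes _ _ hc hg)

end Fibre

section FiniteTypePoints

/-- A finite type algebra over a ring that is a field makes the kernel prime a locally closed
point. -/
theorem exists_notMem_forall_isUnit_of_finiteType_field {A k : Type*} [CommRing A] [Field k]
    (φ : A →+* k) (h : φ.FiniteType) :
    ∃ a : A, φ a ≠ 0 ∧ ∀ b : A, φ b ≠ 0 → ∃ (c : A) (n : ℕ), φ (b * c) = φ a ^ n := by
  classical
  let R := φ.range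
  have hψ : (R.subtype : R →+* k).FiniteType := by
    refine RingHom.FiniteType.of_comp_finiteType (f := φ.rangeRestrict) ?_
    exact h
  let K := FractionRing R
  letI : Algebra R k := R.subtype.toAlgebra
  have : FaithfulSMul R k := (faithfulSMul_iff_algebraMap_injective R k).mpr Subtype.val_injective
  letI : Algebra K k := FractionRing.liftAlgebra R k
  have : Algebra.FiniteType R k := hψ
  have : Algebra.FiniteType K k := Algebra.FiniteType.of_restrictScalars_finiteType R K k
  have : Module.Finite K k := finite_of_finite_type_of_isJacobsonRing K k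
  obtain ⟨t, ht⟩ := (Algebra.FiniteType.out : (⊤ : Subalgebra R k).FG)
  have hm : ∀ x : k, ∃ m : nonZeroDivisors R, IsIntegral R (m • x) := fun x =>
    IsIntegral.exists_multiple_integral_of_isLocalization (nonZeroDivisors R) x
      (Algebra.IsIntegral.isIntegral (R := K) x)
  choose m hm using hm
  let d : R := ∏ x ∈ t, (m x : R)
  obtain ⟨a, ha⟩ := d.2
  have hd0 : (d : k) ≠ 0 := by
    have : d ≠ 0 := Finset.prod_ne_zero_iff.mpr fun x _ => nonZeroDivisors.ne_zero (m x).2
    exact fun h0 => this (Subtype.ext h0)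
  refine ⟨a, ha ▸ hd0, fun b hb => ?_⟩
  let B : Subalgebra R k := integralClosure R k
  have hN : ∀ y : k, ∃ n : ℕ, (d : k) ^ n * y ∈ B := by
    intro y
    have hy : y ∈ Algebra.adjoin R (t : Set k) := ht ▸ Algebra.mem_top
    induction hy using Algebra.adjoin_induction with
    | mem z hz =>
        refine ⟨1, ?_⟩
        obtain ⟨e, he⟩ : (m z : R) ∣ d := Finset.dvd_prod_of_mem _ hz
        have : (d : k) ^ 1 * z = (e : k) * ((m z) • z) := by
          rw [he, pow_one, Submonoid.smul_def, Algebra.smul_def]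
          change ((m z : R) : k) * (e : k) * z = (e : k) * (((m z : R) : k) * z)
          ring
        rw [this]
        exact mul_mem (B.algebraMap_mem e) (hm z)
    | algebraMap r => exact ⟨0, by simpa using B.algebraMap_mem r⟩
    | add y z _ _ hy hz =>
        obtain ⟨n, hn⟩ := hy
        obtain ⟨l, hl⟩ := hz
        refine ⟨n + l, ?_⟩
        have : (d : k) ^ (n + l) * (y + z) =
            (d : k) ^ l * ((d : k) ^ n * y) + (d : k) ^ n * ((d : k) ^ l * z) := by ring
        rw [this]
        exact add_mem (mul_mem (pow_mem (B.algebraMap_mem d) _) hn)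
          (mul_mem (pow_mem (B.algebraMap_mem d) _) hl)
    | mul y z _ _ hy hz =>
        obtain ⟨n, hn⟩ := hy
        obtain ⟨l, hl⟩ := hz
        refine ⟨n + l, ?_⟩
        have : (d : k) ^ (n + l) * (y * z) =
            ((d : k) ^ n * y) * ((d : k) ^ l * z) := by ring
        rw [this]
        exact mul_mem hn hl
  -- `1 / b` times a power of `d` is integral, hence lies in `R` up to a power of `d`
  obtain ⟨n, hn⟩ := hN (φ b)⁻¹
  obtain ⟨p, hpm, hp⟩ := hn
  let β : R := ⟨φ b, b, rfl⟩
  have hne : (β : k) ≠ 0 := hb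
  have hsum : (β : k) ^ p.natDegree * Polynomial.aeval ((d : k) ^ n * (φ b)⁻¹) p =
      ∑ i ∈ Finset.range (p.natDegree + 1),
        (p.coeff i : k) * ((d : k) ^ n) ^ i * (β : k) ^ (p.natDegree - i) := by
    rw [Polynomial.aeval_eq_sum_range, Finset.mul_sum]
    refine Finset.sum_congr rfl fun i hi => ?_
    have hi' : i ≤ p.natDegree := Nat.lt_succ_iff.mp (Finset.mem_range.mp hi)
    obtain ⟨j, hj⟩ : ∃ j, p.natDegree = i + j := ⟨p.natDegree - i, by omega⟩
    rw [hj, Algebra.smul_def, Nat.add_sub_cancel_left, pow_add, mul_pow, inv_pow]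
    change (β : k) ^ i * (β : k) ^ j * ((p.coeff i : k) * (((d : k) ^ n) ^ i * ((β : k) ^ i)⁻¹)) = _
    field_simp
  rw [Polynomial.aeval_def, hp, mul_zero] at hsum
  rw [Finset.sum_range_succ, hpm.coeff_natDegree, Nat.sub_self, pow_zero] at hsum
  let c : R := -∑ i ∈ Finset.range p.natDegree,
    p.coeff i * (d ^ n) ^ i * β ^ (p.natDegree - i - 1)
  obtain ⟨c', hc'⟩ := c.2
  refine ⟨c', n * p.natDegree, ?_⟩
  rw [map_mul, hc', ha, pow_mul]
  have : ∀ i ∈ Finset.range p.natDegree, (φ b) * ((p.coeff i : k) * ((d : k) ^ n) ^ i *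
      (β : k) ^ (p.natDegree - i - 1)) = (p.coeff i : k) * ((d : k) ^ n) ^ i *
      (β : k) ^ (p.natDegree - i) := by
    intro i hi
    have hi' := Finset.mem_range.mp hi
    rw [show p.natDegree - i = p.natDegree - i - 1 + 1 by omega, pow_succ]
    simp only [Nat.add_sub_cancel, β]
    ring
  simp only [c, NegMemClass.coe_neg, AddSubmonoidClass.coe_finsetSum, MulMemClass.coe_mul,
    SubmonoidClass.coe_pow]
  rw [mul_neg, Finset.mul_sum, Finset.sum_congr rfl this]
  simp only [OneMemClass.coe_one, one_mul, mul_one] at hsum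
  linear_combination hsum

/-- A morphism from the spectrum of a field that is locally of finite type has a locally closed
image point. -/
theorem exists_affineOpen_isClosed_of_locallyOfFiniteType {S : Scheme.{u}} {k : Type u} [Field k]
    (f : Spec (CommRingCat.of k) ⟶ S) [LocallyOfFiniteType f] :
    ∃ U : S.Opens, IsAffineOpen U ∧ ∃ hu : f (IsLocalRing.closedPoint k) ∈ U,
      IsClosed ({⟨f (IsLocalRing.closedPoint k), hu⟩} : Set ↥U) := by
  set x := IsLocalRing.closedPoint k with hx
  obtain ⟨_, ⟨V, hV, rfl⟩, huV, -⟩ :=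
    S.isBasis_affineOpens.exists_subset_of_mem_open (Set.mem_univ (f x)) isOpen_univ
  replace hV : IsAffineOpen V := hV
  have hr : Set.range f ⊆ Set.range hV.fromSpec := by
    rw [hV.range_fromSpec]
    rintro _ ⟨y, rfl⟩
    rwa [show y = x from Subsingleton.elim (α := PrimeSpectrum k) _ _]
  obtain ⟨φ, hφ⟩ := Spec.map_surjective (IsOpenImmersion.lift hV.fromSpec f hr)
  have hcomp : Spec.map φ ≫ hV.fromSpec = f := by rw [hφ, IsOpenImmersion.lift_fac]
  have hft : φ.hom.FiniteType := by
    have : LocallyOfFiniteType (Spec.map φ ≫ hV.fromSpec) := by rw [hcomp]; infer_instance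
    have := locallyOfFiniteType_of_comp (Spec.map φ) hV.fromSpec
    exact HasRingHomProperty.Spec_iff.mp this
  obtain ⟨a, ha, hb⟩ := exists_notMem_forall_isUnit_of_finiteType_field φ.hom hft
  let p : Spec Γ(S, V) := Spec.map φ x
  have hpu : hV.fromSpec p = f x := by rw [← Scheme.Hom.comp_apply, hcomp]
  have hp : ∀ b, b ∈ p.asIdeal ↔ φ.hom b = 0 := by
    intro b
    change φ.hom b ∈ IsLocalRing.maximalIdeal k ↔ _
    rw [IsLocalRing.maximalIdeal_eq_bot]; simp
  have hpa : f x ∈ S.basicOpen a := by
    rw [← hpu, ← Scheme.Hom.mem_preimage, hV.fromSpec_preimage_basicOpen]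
    exact fun h => ha ((hp a).mp h)
  refine ⟨S.basicOpen a, hV.basicOpen a, hpa, ?_⟩
  rw [isClosed_iff_clusterPt]
  intro y hy
  have hy' : f x ⤳ y.1 := by
    have : y ∈ closure ({⟨f x, hpa⟩} : Set ↥(S.basicOpen a)) := mem_closure_iff_clusterPt.mpr hy
    exact (specializes_iff_mem_closure.mpr this).map continuous_subtype_val
  obtain ⟨q, hq⟩ : y.1 ∈ Set.range hV.fromSpec := by
    rw [hV.range_fromSpec]; exact S.basicOpen_le a y.2
  have hqa : a ∉ q.asIdeal := by
    have := y.2
    rw [← hq, ← Scheme.Hom.mem_preimage, hV.fromSpec_preimage_basicOpen] at this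
    exact this
  have hle : p.asIdeal ≤ q.asIdeal := by
    rw [← hpu, ← hq] at hy'
    exact (PrimeSpectrum.le_iff_specializes p q).mpr
      (hV.fromSpec.isOpenEmbedding.isInducing.specializes_iff.mp hy')
  have : q = p := by
    refine PrimeSpectrum.ext (le_antisymm (fun b hbq => ?_) hle)
    by_contra hbp
    obtain ⟨c, n, hcn⟩ := hb b (fun h => hbp ((hp b).mpr h))
    have h1 : b * c - a ^ n ∈ p.asIdeal := (hp _).mpr (by simp [map_mul] at hcn ⊢; simp [hcn])
    have h2 := q.asIdeal.sub_mem (q.asIdeal.mul_mem_right c hbq) (hle h1)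
    rw [sub_sub_cancel] at h2
    exact hqa (q.isPrime.mem_of_pow_mem n h2)
  exact Subtype.ext (by rw [← hq, this, hpu])

theorem locallyOfFiniteType_fromSpecResidueField_of_isClosed {S : Scheme.{u}} (s : S)
    (U : S.Opens) (hs : s ∈ U) (hc : IsClosed ({⟨s, hs⟩} : Set ↥U)) :
    LocallyOfFiniteType (S.fromSpecResidueField s) := by
  have hr : Set.range (S.fromSpecResidueField s) ⊆ Set.range U.ι := by
    simp [Scheme.range_fromSpecResidueField, hs]
  let g := IsOpenImmersion.lift U.ι (S.fromSpecResidueField s) hr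
  have hg : g ≫ U.ι = S.fromSpecResidueField s := IsOpenImmersion.lift_fac _ _ _
  have : IsPreimmersion (g ≫ U.ι) := hg ▸ inferInstance
  have : IsPreimmersion g := .of_comp g U.ι
  have hrange : Set.range g = {⟨s, hs⟩} := by
    refine Set.eq_singleton_iff_nonempty_unique_mem.mpr ⟨Set.range_nonempty _, ?_⟩
    rintro _ ⟨y, rfl⟩
    exact Subtype.ext (show U.ι (g y) = s by simp [← Scheme.Hom.comp_apply, hg])
  have : IsClosedImmersion g := .of_isPreimmersion _ (hrange ▸ hc)
  rw [← hg]; infer_instance

theorem finiteTypePoint_iff {S : Scheme.{u}} (s : S) :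
    LocallyOfFiniteType (S.fromSpecResidueField s) ↔
      ∃ U : S.Opens, IsAffineOpen U ∧ ∃ hs : s ∈ U, IsClosed ({⟨s, hs⟩} : Set ↥U) := by
  constructor
  · intro h
    obtain ⟨U, hU, hu, hc⟩ := exists_affineOpen_isClosed_of_locallyOfFiniteType
      (k := S.residueField s) (S.fromSpecResidueField s)
    have e : S.fromSpecResidueField s (IsLocalRing.closedPoint (S.residueField s)) = s :=
      S.fromSpecResidueField_apply s _
    refine ⟨U, hU, e ▸ hu, ?_⟩
    convert! hc using 2
    exact Subtype.ext e.symm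
  · rintro ⟨U, -, hs, hc⟩
    exact locallyOfFiniteType_fromSpecResidueField_of_isClosed s U hs hc

theorem finiteTypePoint_of_spec_field {S : Scheme.{u}} {k : Type u} [Field k]
    (f : Spec (CommRingCat.of k) ⟶ S) [LocallyOfFiniteType f] :
    LocallyOfFiniteType (S.fromSpecResidueField (f (IsLocalRing.closedPoint k))) :=
  (finiteTypePoint_iff _).mpr (exists_affineOpen_isClosed_of_locallyOfFiniteType f)

theorem finiteTypePoint_map {T S : Scheme.{u}} (f : T ⟶ S) [LocallyOfFiniteType f] (t : T)
    [LocallyOfFiniteType (T.fromSpecResidueField t)] :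
    LocallyOfFiniteType (S.fromSpecResidueField (f t)) := by
  have h := finiteTypePoint_of_spec_field (k := T.residueField t) (T.fromSpecResidueField t ≫ f)
  have e : (T.fromSpecResidueField t ≫ f) (IsLocalRing.closedPoint (T.residueField t)) = f t :=
    congrArg f (T.fromSpecResidueField_apply t _)
  exact e ▸ h

end FiniteTypePoints

end Groth.SchemeMorphisms
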