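import Groth.Agent.SchemeMorphisms.Decomp

/-!
Associated points and lengths of stalks under restriction to an open subscheme.
-/

universe u

open CategoryTheory Limits AlgebraicGeometry TopologicalSpace Opposite

set_option backward.isDefEq.respectTransparency false
set_option linter.style.haveILetI false

namespace Groth.SchemeMorphisms

variable {X Y : Scheme.{u}}

theorem germ_common {M : X.Modules} {x : X} (z : M.presheaf.stalk x) (a : X.presheaf.stalk x) :
    ∃ (W : X.Opens) (hx : x ∈ W) (s : Γ(M, W)) (r : Γ(X, W)),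
      M.presheaf.germ W x hx s = z ∧ X.presheaf.germ W x hx r = a := by
  obtain ⟨U, hxU, s, rfl⟩ := TopCat.Presheaf.exists_germ_eq M.presheaf z
  obtain ⟨V, hxV, r, rfl⟩ := TopCat.Presheaf.exists_germ_eq X.presheaf a
  exact ⟨U ⊓ V, ⟨hxU, hxV⟩, M.presheaf.map (homOfLE inf_le_left).op s,
    X.presheaf.map (homOfLE inf_le_right).op r, TopCat.Presheaf.germ_res_apply ..,
    TopCat.Presheaf.germ_res_apply ..⟩

theorem stalkMap_smul {M N : X.Modules} (φ : M ⟶ N) {x : X} (a : X.presheaf.stalk x)
    (z : M.presheaf.stalk x) :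
    (Groth.QCohMod.stalk x).map φ (a • z) =
      a • (show N.presheaf.stalk x from (Groth.QCohMod.stalk x).map φ z) := by
  obtain ⟨W, hx, s, r, rfl, rfl⟩ := germ_common z a
  rw [← Groth.Divisors.germ_smul_mod]
  erw [Groth.QCohMod.stalk_map_germ, Groth.QCohMod.stalk_map_germ]
  rw [show φ.app W (r • s) = r • φ.app W s from map_smul (φ.val.app (op W)).hom r s]
  exact Groth.Divisors.germ_smul_mod ..

section Transfer

variable {R S : Type u} [CommRing R] [CommRing S] {A B : Type u} [AddCommGroup A] [Module R A]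
  [AddCommGroup B] [Module S B] (φ : R ≃+* S) (e : A ≃+ B)

theorem length_eq_of_semilinear (h : ∀ (r : R) (a : A), e (r • a) = φ r • e a) :
    Module.length R A = Module.length S B := by
  letI := RingHomInvPair.of_ringEquiv φ
  letI := RingHomInvPair.symm (φ : R →+* S) (φ.symm : S →+* R)
  let e' : A ≃ₛₗ[(φ : R →+* S)] B := { e with map_smul' := h }
  refine WithBot.coe_injective ?_
  rw [Module.coe_length, Module.coe_length]
  exact Order.krullDim_eq_of_orderIso (Submodule.orderIsoMapComap e')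

end Transfer

variable (f : X ⟶ Y) [IsOpenImmersion f] (M : Y.Modules)

/-- The stalk of a restriction. -/
noncomputable def restrictStalkEquiv (x : X) :
    ((Scheme.Modules.restrictFunctor f).obj M).presheaf.stalk x ≃+ M.presheaf.stalk (f x) :=
  ((Scheme.Modules.restrictStalkNatIso f x).app M).addCommGroupIsoToAddEquiv

theorem restrictStalkEquiv_germ (x : X) {W : X.Opens} (hx : x ∈ W)
    (s : Γ((Scheme.Modules.restrictFunctor f).obj M, W)) :
    restrictStalkEquiv f M x (((Scheme.Modules.restrictFunctor f).obj M).presheaf.germ W x hx s) =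
      M.presheaf.germ (f ''ᵁ W) (f x) ⟨x, hx, rfl⟩ s :=
  congr($(Scheme.Modules.germ_restrictStalkNatIso_hom_app f x M hx) s)

theorem restrictStalkEquiv_smul (x : X) (a : X.presheaf.stalk x)
    (z : ((Scheme.Modules.restrictFunctor f).obj M).presheaf.stalk x) :
    restrictStalkEquiv f M x (a • z) =
      (inv (f.stalkMap x)) a • restrictStalkEquiv f M x z := by
  obtain ⟨W, hx, s, r, rfl, rfl⟩ := germ_common z a
  rw [← Groth.Divisors.germ_smul_mod, restrictStalkEquiv_germ, restrictStalkEquiv_germ]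
  have hr : f.stalkMap x (Y.presheaf.germ (f ''ᵁ W) (f x) ⟨x, hx, rfl⟩ ((f.appIso W).inv r)) =
      X.presheaf.germ W x hx r := by
    rw [Scheme.Hom.germ_stalkMap_apply,
      ← TopCat.Presheaf.germ_res_apply X.presheaf (homOfLE (f.preimage_image_eq W).ge) x hx]
    congr 1
    have h := congr($(Scheme.Hom.appIso_inv_app f W) r)
    simp only [CommRingCat.comp_apply] at h
    erw [h]
    rw [← CommRingCat.comp_apply, ← X.presheaf.map_comp]
    exact congr($(X.presheaf.map_id (op W)) r)
  rw [← hr, ← CommRingCat.comp_apply (f.stalkMap x), IsIso.hom_inv_id, CommRingCat.id_apply,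
    ← Groth.Divisors.germ_smul_mod]
  rfl

/-- The stalk of the pullback along an open immersion. -/
noncomputable def pullbackStalkEquiv (x : X) :
    ((Scheme.Modules.pullback f).obj M).presheaf.stalk x ≃+ M.presheaf.stalk (f x) :=
  ((Groth.QCohMod.stalk x).mapIso
    ((Scheme.Modules.restrictFunctorIsoPullback f).app M).symm).addCommGroupIsoToAddEquiv.trans
    (restrictStalkEquiv f M x)

theorem pullbackStalkEquiv_smul (x : X) (a : X.presheaf.stalk x)
    (z : ((Scheme.Modules.pullback f).obj M).presheaf.stalk x) :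
    pullbackStalkEquiv f M x (a • z) =
      (asIso (f.stalkMap x)).commRingCatIsoToRingEquiv.symm a • pullbackStalkEquiv f M x z := by
  have h := stalkMap_smul ((Scheme.Modules.restrictFunctorIsoPullback f).app M).inv a z
  exact (congrArg (restrictStalkEquiv f M x) h).trans (restrictStalkEquiv_smul f M x a _)

theorem isWeakAssPoint_pullback_iff (x : X) :
    Curv2.IsWeakAssPoint ((Scheme.Modules.pullback f).obj M) x ↔ Curv2.IsWeakAssPoint M (f x) := by
  set φ := (asIso (f.stalkMap x)).commRingCatIsoToRingEquiv.symm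
  set e := pullbackStalkEquiv f M x
  have he : ∀ a z, e (a • z) = φ a • e z := pullbackStalkEquiv_smul f M x
  have hz : ∀ (a : X.presheaf.stalk x) z, a • z = 0 ↔ φ a • e z = 0 := fun a z => by
    rw [← he, e.map_eq_zero_iff]
  rw [Groth.Divisors.isWeakAssPoint_iff, Groth.Divisors.isWeakAssPoint_iff]
  constructor
  · rintro ⟨z, h1, h2⟩
    refine ⟨e z, fun a ha hu => ?_, fun a ha => ?_⟩
    · obtain ⟨b, rfl⟩ := φ.surjective a
      exact h1 b ((hz b z).mpr ha) ((isUnit_map_iff φ b).mp hu)
    · obtain ⟨b, rfl⟩ := φ.surjective a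
      obtain ⟨n, hn⟩ := h2 b fun hu => ha (hu.map φ)
      exact ⟨n, by rw [← map_pow, ← hz]; exact hn⟩
  · rintro ⟨w, h1, h2⟩
    obtain ⟨z, rfl⟩ := e.surjective w
    refine ⟨z, fun a ha hu => h1 (φ a) ((hz a z).mp ha) (hu.map φ), fun a ha => ?_⟩
    obtain ⟨n, hn⟩ := h2 (φ a) fun hu => ha ((isUnit_map_iff φ a).mp hu)
    exact ⟨n, by rw [hz, map_pow]; exact hn⟩

theorem mem_ass_pullback_iff (x : X) :
    x ∈ AssSch.Ass ((Scheme.Modules.pullback f).obj M) ↔ f x ∈ AssSch.Ass M := by
  rw [mem_ass_iff_weak, mem_ass_iff_weak, isWeakAssPoint_pullback_iff]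

theorem length_stalk_pullback (x : X) :
    Module.length (X.presheaf.stalk x) (((Scheme.Modules.pullback f).obj M).presheaf.stalk x) =
      Module.length (Y.presheaf.stalk (f x)) (M.presheaf.stalk (f x)) :=
  length_eq_of_semilinear _ _ (pullbackStalkEquiv_smul f M x)

/-- Associated points of a module without embedded points lie in any open dense in the support. -/
theorem ass_subset_of_dense [IsLocallyNoetherian Y] {F : Y.Modules} (hF : Coh.IsCoh F)
    (hne : AssSch.NoEmbedded F) {U : Y.Opens}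
    (hd : CohB1.support F ⊆ closure ((U : Set Y) ∩ CohB1.support F)) :
    AssSch.Ass F ⊆ (U : Set Y) := by
  intro x hx
  obtain ⟨_, ⟨V, hV, rfl⟩, hxV, -⟩ :=
    Y.isBasis_affineOpens.exists_subset_of_mem_open (Set.mem_univ x) isOpen_univ
  replace hV : IsAffineOpen V := hV
  have hfin : {a : Y | a ∈ AssSch.Ass F ∧ a ∈ V ∧ a ≠ x}.Finite :=
    (finite_ass_inter hF hV).subset fun a ha => ⟨ha.1, ha.2.1⟩
  obtain ⟨z, hzO, hzU, hzs⟩ := mem_closure_iff.mp (hd (ass_subset_support hx))
    ((V : Set Y) ∩ ⋂ a ∈ {a : Y | a ∈ AssSch.Ass F ∧ a ∈ V ∧ a ≠ x}, (closure ({a} : Set Y))ᶜ)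
    (V.isOpen.inter (hfin.isOpen_biInter fun a _ => isClosed_closure.isOpen_compl))
    ⟨hxV, Set.mem_iInter₂.mpr fun a ha hax => ha.2.2
      (hne x hx a ha.1 (specializes_iff_mem_closure.mpr hax)).symm⟩
  obtain ⟨a, ha, haz⟩ := exists_ass_specializes hF.1 hzs
  by_cases hax : a = x
  · exact hax ▸ haz.mem_open U.isOpen hzU
  · exact absurd (specializes_iff_mem_closure.mp haz)
      (Set.mem_iInter₂.mp hzO.2 a ⟨ha, haz.mem_open V.isOpen hzO.1, hax⟩)

end Groth.SchemeMorphisms
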