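import Groth.Agent.Divisors.AssocMore
import Groth.Agent.QCohMod.QCQS
import Groth.Agent.QCohMod.FiniteType
import Groth.Agent.QCohMod.Coherent
import Groth.Agent.QCohMod.Affine
import Groth.Agent.S2507
import Groth.Prelude.Def_FDesc

/-!
Associated points of quasi-coherent modules on locally Noetherian schemes.
-/

universe u

open CategoryTheory Limits AlgebraicGeometry TopologicalSpace Opposite

set_option backward.isDefEq.respectTransparency false
set_option linter.style.haveILetI false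

namespace Groth.SchemeMorphisms

variable {X Y : Scheme.{u}}

theorem mem_ass_iff_weak {F : X.Modules} {x : X} :
    x ∈ AssSch.Ass F ↔ Curv2.IsWeakAssPoint F x :=
  Groth.Divisors.isAssPoint_iff_weak

theorem isNoetherianRing_section [IsLocallyNoetherian X] {U : X.Opens} (hU : IsAffineOpen U) :
    IsNoetherianRing Γ(X, U) :=
  IsLocallyNoetherian.component_noetherian ⟨U, hU⟩

/-- Associated points and associated primes of the sections over an affine open. -/
theorem mem_ass_iff [IsLocallyNoetherian X] {F : X.Modules} (hF : Coh.IsQCoh F) {U : X.Opens}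
    (hU : IsAffineOpen U) {x : X} (hx : x ∈ U) :
    x ∈ AssSch.Ass F ↔
      (hU.primeIdealOf ⟨x, hx⟩).asIdeal ∈ associatedPrimes Γ(X, U) Γ(F, U) := by
  have := isNoetherianRing_section hU
  rw [mem_ass_iff_weak, Groth.Divisors.isWeakAssPoint_iff_weakAss hF hU hx,
    Groth.Calg5.weakAss_eq_associatedPrimes]

theorem fromSpec_mem {U : X.Opens} (hU : IsAffineOpen U) (q : Spec Γ(X, U)) : hU.fromSpec q ∈ U :=
  hU.opensRange_fromSpec.le ⟨q, rfl⟩

theorem primeIdealOf_fromSpec {U : X.Opens} (hU : IsAffineOpen U) (q : Spec Γ(X, U)) :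
    hU.primeIdealOf ⟨hU.fromSpec q, fromSpec_mem hU q⟩ = q :=
  hU.fromSpec.isOpenEmbedding.injective (hU.fromSpec_primeIdealOf ⟨_, fromSpec_mem hU q⟩)

theorem fromSpec_mem_ass [IsLocallyNoetherian X] {F : X.Modules} (hF : Coh.IsQCoh F)
    {U : X.Opens} (hU : IsAffineOpen U) (q : Spec Γ(X, U))
    (hq : q.asIdeal ∈ associatedPrimes Γ(X, U) Γ(F, U)) : hU.fromSpec q ∈ AssSch.Ass F := by
  rw [mem_ass_iff hF hU (fromSpec_mem hU q), primeIdealOf_fromSpec]
  exact hq

theorem ass_subset_support {F : X.Modules} {x : X} (hx : x ∈ AssSch.Ass F) :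
    x ∈ CohB1.support F := by
  intro h
  obtain ⟨z, h1, -⟩ := Groth.Divisors.isWeakAssPoint_iff.mp (mem_ass_iff_weak.mp hx)
  exact h1 1 (Subsingleton.elim _ _) isUnit_one

theorem exists_ass_specializes {F : X.Modules} (hF : Coh.IsQCoh F) {y : X}
    (hy : y ∈ CohB1.support F) : ∃ x ∈ AssSch.Ass F, x ⤳ y := by
  obtain ⟨z, hz⟩ : ∃ z : F.presheaf.stalk y, z ≠ 0 := by
    by_contra hne
    simp only [not_exists, not_not] at hne
    exact hy ⟨fun a b => by rw [hne a, hne b]⟩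
  obtain ⟨W, hyW, s, rfl⟩ := TopCat.Presheaf.exists_germ_eq F.presheaf z
  obtain ⟨x, -, hsp, hwa, -⟩ := Groth.Divisors.exists_weakAss_germ_ne_zero hF s hyW hz
  exact ⟨x, mem_ass_iff_weak.mpr hwa, hsp⟩

theorem maximal_ass_iff_maximal_support {F : X.Modules} (hF : Coh.IsQCoh F) (x : X) :
    (x ∈ AssSch.Ass F ∧ ∀ y ∈ AssSch.Ass F, y ⤳ x → y = x) ↔
      (x ∈ CohB1.support F ∧ ∀ y ∈ CohB1.support F, y ⤳ x → y = x) := by
  constructor
  · rintro ⟨hx, h⟩
    refine ⟨ass_subset_support hx, fun y hy hyx => ?_⟩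
    obtain ⟨z, hz, hzy⟩ := exists_ass_specializes hF hy
    have hzx := h z hz (hzy.trans hyx)
    rw [hzx] at hzy
    exact (hyx.antisymm hzy).eq
  · rintro ⟨hx, h⟩
    exact ⟨mem_ass_iff_weak.mpr (Groth.Divisors.weakAss_of_maximal_support hF hx h),
      fun y hy hyx => h y (ass_subset_support hy) hyx⟩

/-- Sections over `U ∩ V` detect sections over `V` iff the associated points lie in `U`. -/
theorem ass_subset_of_injective [IsLocallyNoetherian X] {F : X.Modules} (hF : Coh.IsQCoh F)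
    (U : X.Opens)
    (h : ∀ (V : X.Opens), IsAffineOpen V → ∀ s : Γ(F, V),
      F.presheaf.map (homOfLE (inf_le_left : V ⊓ U ≤ V)).op s = 0 → s = 0) :
    AssSch.Ass F ⊆ (U : Set X) := by
  intro x hx
  by_contra hxU
  obtain ⟨_, ⟨V, hV, rfl⟩, hxV, -⟩ :=
    X.isBasis_affineOpens.exists_subset_of_mem_open (Set.mem_univ x) isOpen_univ
  replace hV : IsAffineOpen V := hV
  have := isNoetherianRing_section hV
  obtain ⟨hp, s, hs⟩ := isAssociatedPrime_iff.mp ((mem_ass_iff hF hV hxV).mp hx)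
  have hmem : ∀ r : Γ(X, V), r ∈ (hV.primeIdealOf ⟨x, hxV⟩).asIdeal ↔ r • s = 0 := fun r => by
    rw [hs, Submodule.mem_colon_singleton, Submodule.mem_bot]
  have h0 : s = 0 := by
    refine h V hV s (TopCat.Presheaf.section_ext ⟨F.presheaf, F.isSheaf⟩ _ _ 0 fun y hy => ?_)
    erw [map_zero]
    rw [TopCat.Presheaf.germ_res_apply, Groth.Divisors.germ_eq_zero_iff hV hy.1 hF]
    have hle : ¬ (hV.primeIdealOf ⟨x, hxV⟩).asIdeal ≤ (hV.primeIdealOf ⟨y, hy.1⟩).asIdeal := by
      intro hle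
      have hsp := ((PrimeSpectrum.le_iff_specializes _ _).mp hle).map hV.fromSpec.continuous
      rw [hV.fromSpec_primeIdealOf, hV.fromSpec_primeIdealOf] at hsp
      exact hxU (hsp.mem_open U.isOpen hy.2)
    obtain ⟨e, he, he'⟩ := SetLike.not_le_iff_exists.mp hle
    exact ⟨e, (Groth.Divisors.isUnit_germ_iff hV hy.1 e).mpr he', (hmem e).mp he⟩
  exact hp.ne_top ((Ideal.eq_top_iff_one _).mpr ((hmem 1).mpr (by rw [h0, smul_zero])))

section Push

variable [IsLocallyNoetherian X] [IsLocallyNoetherian Y] (f : X ⟶ Y) {M : X.Modules}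

theorem ass_push_subset [QuasiCompact f] [QuasiSeparated f] (hM : Coh.IsQCoh M) :
    AssSch.Ass ((Coh.push f).obj M) ⊆ f '' AssSch.Ass M := by
  classical
  intro y hy
  have : M.IsQuasicoherent := hM
  have hP : Coh.IsQCoh ((Coh.push f).obj M) := Groth.QCohMod.isQCoh_pushforward (M := M) f
  obtain ⟨_, ⟨V, hV, rfl⟩, hyV, -⟩ :=
    Y.isBasis_affineOpens.exists_subset_of_mem_open (Set.mem_univ y) isOpen_univ
  replace hV : IsAffineOpen V := hV
  have := isNoetherianRing_section hV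
  obtain ⟨hp, s, hs⟩ := isAssociatedPrime_iff.mp ((mem_ass_iff hP hV hyV).mp hy)
  let s' : Γ(M, f ⁻¹ᵁ V) := Groth.QCohMod.pushEquiv f M V s
  obtain ⟨S, hSfin, hS⟩ := isCompact_and_isOpen_iff_finite_and_eq_biUnion_affineOpens.mp
    ⟨f.isCompact_preimage hV.isCompact, (f ⁻¹ᵁ V).isOpen⟩
  have hle : ∀ U : S, U.1.1 ≤ f ⁻¹ᵁ V := fun U z hz => by
    rw [← SetLike.mem_coe, hS]; exact Set.mem_biUnion U.2 hz
  have := hSfin.fintype
  let I : S → Ideal Γ(Y, V) := fun U =>
    ((⊥ : Submodule Γ(X, U.1.1) Γ(M, U.1.1)).colon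
      {M.presheaf.map (homOfLE (hle U)).op s'}).comap (f.appLE V U.1.1 (hle U)).hom
  have hmemI : ∀ (U : S) (r : Γ(Y, V)), r ∈ I U ↔
      M.presheaf.map (homOfLE (hle U)).op (f.app V r • s') = 0 := by
    intro U r
    rw [show I U = _ from rfl, Ideal.mem_comap, Submodule.mem_colon_singleton, Submodule.mem_bot,
      Scheme.Modules.map_smul]
    rfl
  have heq : (hV.primeIdealOf ⟨y, hyV⟩).asIdeal = Finset.univ.inf I := by
    ext r
    rw [Submodule.mem_finsetInf, hs, Submodule.mem_colon_singleton, Submodule.mem_bot,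
      ← (Groth.QCohMod.pushEquiv f M V).map_eq_zero_iff, Groth.QCohMod.pushEquiv_smul]
    constructor
    · intro h U _
      rw [hmemI, h, map_zero]
    · intro h
      refine TopCat.Presheaf.section_ext ⟨M.presheaf, M.isSheaf⟩ _ _ 0 fun z hz => ?_
      erw [map_zero]
      obtain ⟨U, hU, hzU⟩ := Set.mem_iUnion₂.mp (hS.le hz)
      have := congrArg (M.presheaf.germ U.1 z hzU).hom ((hmemI ⟨U, hU⟩ r).mp (h _ (Finset.mem_univ _)))
      rw [map_zero] at this
      rw [← this]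
      exact (TopCat.Presheaf.germ_res_apply M.presheaf (homOfLE (hle ⟨U, hU⟩)) z hzU _).symm
  obtain ⟨U, -, hU⟩ := (Ideal.IsPrime.inf_le' hp).mp heq.ge
  have hpU : (hV.primeIdealOf ⟨y, hyV⟩).asIdeal = I U :=
    le_antisymm (heq.le.trans (Finset.inf_le (Finset.mem_univ U))) hU
  letI := (f.appLE V U.1.1 (hle U)).hom.toAlgebra
  letI : Module Γ(Y, V) Γ(M, U.1.1) := Module.compHom _ (f.appLE V U.1.1 (hle U)).hom
  have : IsScalarTower Γ(Y, V) Γ(X, U.1.1) Γ(M, U.1.1) :=
    IsScalarTower.of_algebraMap_smul fun _ _ => rfl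
  have := isNoetherianRing_section U.1.2
  have hass : (hV.primeIdealOf ⟨y, hyV⟩).asIdeal ∈ associatedPrimes Γ(Y, V) Γ(M, U.1.1) := by
    refine isAssociatedPrime_iff.mpr ⟨hp, M.presheaf.map (homOfLE (hle U)).op s', ?_⟩
    rw [hpU]
    ext r
    rw [show I U = _ from rfl, Ideal.mem_comap, Submodule.mem_colon_singleton,
      Submodule.mem_colon_singleton]
    exact Iff.rfl
  rw [Groth.Agent.S2507.result (B := Γ(X, U.1.1))] at hass
  obtain ⟨q, hq, hqy⟩ := hass
  let q' : Spec Γ(X, U.1.1) := ⟨q, hq.isPrime⟩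
  refine ⟨U.1.2.fromSpec q', fromSpec_mem_ass hM U.1.2 q' hq, ?_⟩
  have h1 := IsAffineOpen.comap_primeIdealOf_appLE (f := f) V hV U.1.1 U.1.2 (hle U)
    (fromSpec_mem U.1.2 q')
  rw [primeIdealOf_fromSpec] at h1
  have h2 : hV.primeIdealOf ⟨f (U.1.2.fromSpec q'), hle U (fromSpec_mem U.1.2 q')⟩ =
      hV.primeIdealOf ⟨y, hyV⟩ := by
    rw [← h1]; exact PrimeSpectrum.ext hqy
  have := congrArg hV.fromSpec h2
  rwa [hV.fromSpec_primeIdealOf, hV.fromSpec_primeIdealOf] at this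

theorem image_mem_ass_push [QuasiCompact f] [QuasiSeparated f] (hM : Coh.IsQCoh M) {x : X}
    (hx : x ∈ AssSch.Ass M) {V : Y.Opens} (hV : IsAffineOpen V) (hxV : f x ∈ V)
    (hpre : IsAffineOpen (f ⁻¹ᵁ V)) : f x ∈ AssSch.Ass ((Coh.push f).obj M) := by
  have : M.IsQuasicoherent := hM
  have hP : Coh.IsQCoh ((Coh.push f).obj M) := Groth.QCohMod.isQCoh_pushforward (M := M) f
  rw [mem_ass_iff hP hV hxV]
  letI := (f.app V).hom.toAlgebra
  letI : Module Γ(Y, V) Γ(M, f ⁻¹ᵁ V) := Module.compHom _ (f.app V).hom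
  have : IsScalarTower Γ(Y, V) Γ(X, f ⁻¹ᵁ V) Γ(M, f ⁻¹ᵁ V) :=
    IsScalarTower.of_algebraMap_smul fun _ _ => rfl
  have := isNoetherianRing_section hpre
  let e : Γ((Coh.push f).obj M, V) ≃ₗ[Γ(Y, V)] Γ(M, f ⁻¹ᵁ V) :=
    { Groth.QCohMod.pushEquiv f M V with map_smul' := fun r s => rfl }
  rw [LinearEquiv.AssociatedPrimes.eq e, Groth.Agent.S2507.result (B := Γ(X, f ⁻¹ᵁ V))]
  refine ⟨_, (mem_ass_iff hM hpre (x := x) hxV).mp hx, ?_⟩
  have h1 := IsAffineOpen.comap_primeIdealOf_appLE (f := f) V hV (f ⁻¹ᵁ V) hpre le_rfl hxV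
  rw [Scheme.Hom.appLE_eq_app] at h1
  exact congrArg PrimeSpectrum.asIdeal h1

theorem ass_push_of_isAffineHom [IsAffineHom f] (hM : Coh.IsQCoh M) :
    AssSch.Ass ((Coh.push f).obj M) = f '' AssSch.Ass M := by
  refine (ass_push_subset f hM).antisymm ?_
  rintro _ ⟨x, hx, rfl⟩
  obtain ⟨_, ⟨V, hV, rfl⟩, hxV, -⟩ :=
    Y.isBasis_affineOpens.exists_subset_of_mem_open (Set.mem_univ (f x)) isOpen_univ
  exact image_mem_ass_push f hM hx hV hxV (IsAffineHom.isAffine_preimage _ hV)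

theorem ass_push_of_isOpenImmersion [IsOpenImmersion f] (hM : Coh.IsQCoh M) :
    AssSch.Ass ((Coh.push f).obj M) = f '' AssSch.Ass M := by
  refine (ass_push_subset f hM).antisymm ?_
  rintro _ ⟨x, hx, rfl⟩
  obtain ⟨_, ⟨V, hV, rfl⟩, hxV, hVr⟩ :=
    Y.isBasis_affineOpens.exists_subset_of_mem_open (show f x ∈ f.opensRange from ⟨x, rfl⟩)
      f.opensRange.isOpen
  exact image_mem_ass_push f hM hx hV hxV (IsAffineOpen.preimage_of_isOpenImmersion hV f hVr)

/-- Two points of an integral morphism with the same image, one specializing to the other, agree. -/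
theorem eq_of_specializes_of_isIntegralHom {X Y : Scheme.{u}} (f : X ⟶ Y) [IsIntegralHom f]
    {x x' : X} (h : x' ⤳ x) (he : f x' = f x) : x' = x := by
  obtain ⟨_, ⟨V, hV, rfl⟩, hxV, -⟩ :=
    Y.isBasis_affineOpens.exists_subset_of_mem_open (Set.mem_univ (f x)) isOpen_univ
  replace hV : IsAffineOpen V := hV
  have hpre := IsAffineHom.isAffine_preimage (f := f) V hV
  have hx'V : x' ∈ f ⁻¹ᵁ V := h.mem_open (f ⁻¹ᵁ V).isOpen hxV
  have hint : (f.app V).hom.IsIntegral := IsIntegralHom.isIntegral_app f V hV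
  have hsp : hpre.primeIdealOf ⟨x', hx'V⟩ ⤳ hpre.primeIdealOf ⟨x, hxV⟩ := by
    refine hpre.fromSpec.isOpenEmbedding.isInducing.specializes_iff.mp ?_
    rw [hpre.fromSpec_primeIdealOf, hpre.fromSpec_primeIdealOf]; exact h
  have hle := (PrimeSpectrum.le_iff_specializes _ _).mpr hsp
  letI := (f.app V).hom.toAlgebra
  have : Algebra.IsIntegral Γ(Y, V) Γ(X, f ⁻¹ᵁ V) := ⟨hint⟩
  have heq : hpre.primeIdealOf ⟨x', hx'V⟩ = hpre.primeIdealOf ⟨x, hxV⟩ := by
    refine (hle.eq_or_lt).resolve_right fun hlt => ?_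
    replace hlt := (PrimeSpectrum.asIdeal_lt_asIdeal _ _).mpr hlt
    refine (Ideal.IsIntegral.comap_lt_comap (R := Γ(Y, V)) hlt).ne ?_
    have e1 := IsAffineOpen.comap_primeIdealOf_appLE (f := f) V hV (f ⁻¹ᵁ V) hpre le_rfl hx'V
    have e2 := IsAffineOpen.comap_primeIdealOf_appLE (f := f) V hV (f ⁻¹ᵁ V) hpre le_rfl hxV
    have : (⟨f x', hx'V⟩ : (V : Set Y)) = ⟨f x, hxV⟩ := Subtype.ext he
    rw [Scheme.Hom.appLE_eq_app, this] at e1
    rw [Scheme.Hom.appLE_eq_app] at e2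
    exact congrArg PrimeSpectrum.asIdeal (e1.trans e2.symm)
  have := congrArg hpre.fromSpec heq
  rwa [hpre.fromSpec_primeIdealOf, hpre.fromSpec_primeIdealOf] at this

end Push

/-- Associated points along a short exact sequence. -/
theorem ass_shortExact [IsLocallyNoetherian X] {S : ShortComplex X.Modules} (hS : S.ShortExact)
    (h₁ : Coh.IsQCoh S.X₁) (h₂ : Coh.IsQCoh S.X₂) (h₃ : Coh.IsQCoh S.X₃) :
    AssSch.Ass S.X₁ ⊆ AssSch.Ass S.X₂ ∧ AssSch.Ass S.X₂ ⊆ AssSch.Ass S.X₁ ∪ AssSch.Ass S.X₃ := by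
  have := hS.mono_f
  have hexact : ∀ U : X.Opens,
      Function.Injective (Groth.QCohMod.appₗ S.f U) ∧
        Function.Exact (Groth.QCohMod.appₗ S.f U) (Groth.QCohMod.appₗ S.g U) := by
    refine fun U => ⟨Groth.QCohMod.app_injective_of_mono S.f U, fun m => ⟨fun hm => ?_, ?_⟩⟩
    · exact Groth.QCohMod.exists_app_eq_of_mono_exact hS.exact U m hm
    · rintro ⟨a, rfl⟩
      exact congrArg (fun φ : S.X₁ ⟶ S.X₃ => φ.app U a) S.zero
  refine ⟨fun x hx => ?_, fun x hx => ?_⟩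
  all_goals
    obtain ⟨_, ⟨U, hU, rfl⟩, hxU, -⟩ :=
      X.isBasis_affineOpens.exists_subset_of_mem_open (Set.mem_univ x) isOpen_univ
    replace hU : IsAffineOpen U := hU
  · exact (mem_ass_iff h₂ hU hxU).mpr
      (associatedPrimes.subset_of_injective (hexact U).1 ((mem_ass_iff h₁ hU hxU).mp hx))
  · exact (associatedPrimes.subset_union_of_exact (hexact U).1 (hexact U).2
      ((mem_ass_iff h₂ hU hxU).mp hx)).imp (mem_ass_iff h₁ hU hxU).mpr (mem_ass_iff h₃ hU hxU).mpr

theorem isSMulRegular_iff_ass_subset [IsLocallyNoetherian X] {F : X.Modules} (hF : Coh.IsQCoh F)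
    (f : Γ(X, ⊤)) :
    (∀ x : X, IsSMulRegular (F.presheaf.stalk x) (X.presheaf.germ ⊤ x trivial f)) ↔
      AssSch.Ass F ⊆ (X.basicOpen f : Set X) := by
  constructor
  · intro h x hx
    by_contra hxf
    obtain ⟨z, h1, h2⟩ := Groth.Divisors.isWeakAssPoint_iff.mp (mem_ass_iff_weak.mp hx)
    obtain ⟨n, hn⟩ := h2 (X.presheaf.germ ⊤ x trivial f)
      (fun hu => hxf ((X.mem_basicOpen_top f x).mpr hu))
    have hz : z = 0 := ((h x).pow n).right_eq_zero_of_smul hn
    exact h1 1 (by rw [hz, smul_zero]) isUnit_one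
  · intro h y
    refine isSMulRegular_iff_right_eq_zero_of_smul.mpr fun z hz => ?_
    by_contra hne
    obtain ⟨W, hyW, s, rfl⟩ := TopCat.Presheaf.exists_germ_eq F.presheaf z
    have hz' : F.presheaf.germ W y hyW ((X.presheaf.map (homOfLE (le_top : W ≤ ⊤)).op f) • s) =
        F.presheaf.germ W y hyW 0 := by
      rw [map_zero, Groth.Divisors.germ_smul_mod]
      rwa [TopCat.Presheaf.germ_res_apply]
    obtain ⟨W', hyW', i₁, i₂, he⟩ := F.presheaf.germ_eq y _ _ _ _ hz'
    rw [map_zero] at he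
    obtain ⟨x, hxW', -, hwa, hx0⟩ := Groth.Divisors.exists_weakAss_germ_ne_zero hF
      (F.presheaf.map i₁.op s) hyW' (by rwa [TopCat.Presheaf.germ_res_apply])
    refine hx0 ?_
    have hu : IsUnit (X.presheaf.germ ⊤ x trivial f) :=
      (X.mem_basicOpen_top f x).mp (h (mem_ass_iff_weak.mpr hwa))
    have h0 := congrArg (F.presheaf.germ W' x hxW').hom he
    rw [map_zero, TopCat.Presheaf.germ_res_apply, Groth.Divisors.germ_smul_mod,
      TopCat.Presheaf.germ_res_apply] at h0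
    rw [TopCat.Presheaf.germ_res_apply]
    exact hu.smul_eq_zero.mp h0

/-- In a locally Noetherian scheme a dense open contains every point without generization. -/
theorem mem_of_dense_of_maximal [IsLocallyNoetherian X] {U : X.Opens} (hU : Dense (U : Set X))
    {x : X} (hmax : ∀ y, y ⤳ x → y = x) : x ∈ U := by
  obtain ⟨_, ⟨V, hV, rfl⟩, hxV, -⟩ :=
    X.isBasis_affineOpens.exists_subset_of_mem_open (Set.mem_univ x) isOpen_univ
  replace hV : IsAffineOpen V := hV
  have := isNoetherianRing_section hV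
  have : NoetherianSpace (V : Set X) := noetherianSpace_of_isAffineOpen V hV
  let x' : (V : Set X) := ⟨x, hxV⟩
  have hcomp : closure {x'} ∈ irreducibleComponents (V : Set X) := by
    refine ⟨isIrreducible_singleton.closure, fun Z hZ hle => ?_⟩
    have hq : QuasiSober (V : Set X) := V.isOpen.isOpenEmbedding_subtypeVal.quasiSober
    have hg := hZ.isGenericPoint_genericPoint_closure
    have : hZ.genericPoint = x' := Subtype.ext (hmax _
      ((hg.specializes (subset_closure (hle (subset_closure rfl)))).map continuous_subtype_val))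
    rw [← this, hg.def]
    exact subset_closure
  obtain ⟨o, ho, hne, hsub⟩ :=
    NoetherianSpace.exists_isOpen_nonempty_subset_irreducibleComponent _ hcomp
  obtain ⟨_, ⟨z, hz, rfl⟩, hzU⟩ := dense_iff_inter_open.mp hU _
    (V.isOpen.isOpenMap_subtype_val o ho) (hne.image _)
  exact ((specializes_iff_mem_closure.mpr (hsub hz)).map continuous_subtype_val).mem_open U.isOpen hzU

theorem isReduced_of_dense_open [IsLocallyNoetherian X] (U : X.Opens) (hU : Dense (U : Set X))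
    [IsReduced (U : Scheme)] (h : AssSch.NoEmbedded (Coh.structureModule X)) : IsReduced X := by
  have hQ := Groth.Divisors.isQCoh_structureModule X
  have hass : AssSch.Ass (Coh.structureModule X) ⊆ (U : Set X) := by
    intro x hx
    refine mem_of_dense_of_maximal hU fun y hy => ?_
    obtain ⟨_, ⟨V, hV, rfl⟩, hxV, -⟩ :=
      X.isBasis_affineOpens.exists_subset_of_mem_open (Set.mem_univ x) isOpen_univ
    replace hV : IsAffineOpen V := hV
    have hyV := hy.mem_open V.isOpen hxV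
    obtain ⟨q, hq, hqy⟩ := Ideal.exists_minimalPrimes_le
      (bot_le : ⊥ ≤ (hV.primeIdealOf ⟨y, hyV⟩).asIdeal)
    let q' : Spec Γ(X, V) := ⟨q, hq.1.1⟩
    have hsp := ((PrimeSpectrum.le_iff_specializes q' _).mp hqy).map hV.fromSpec.continuous
    rw [hV.fromSpec_primeIdealOf] at hsp
    have hmax : ∀ z, z ⤳ hV.fromSpec q' → z = hV.fromSpec q' := by
      rw [← Groth.Divisors.primeIdealOf_minimal_iff hV (fromSpec_mem hV q'), primeIdealOf_fromSpec]
      exact hq
    have hq'x : hV.fromSpec q' = x :=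
      (h x hx _ (mem_ass_iff_weak.mpr (Groth.Divisors.weakAss_structure_of_maximal hmax))
        (hsp.trans hy)).symm
    rw [hq'x] at hsp
    exact (hy.antisymm hsp).eq
  refine ⟨fun W => ⟨fun s hs => ?_⟩⟩
  have hinj := Groth.Divisors.restrict_injective hQ (inf_le_left : W ⊓ U ≤ W)
    (fun x hxW hx => ⟨hxW, hass (mem_ass_iff_weak.mpr hx)⟩)
  refine hinj ?_
  rw [map_zero]
  change X.presheaf.map (homOfLE (inf_le_left : W ⊓ U ≤ W)).op s = 0
  have hred : _root_.IsReduced Γ(X, W ⊓ U) := by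
    have h1 : U.ι ''ᵁ U.ι ⁻¹ᵁ (W ⊓ U) = W ⊓ U := by
      rw [Scheme.Hom.image_preimage_eq_opensRange_inf, Scheme.Opens.opensRange_ι]
      exact inf_eq_right.mpr inf_le_right
    let e : Γ(X, W ⊓ U) ≅ Γ((U : Scheme), U.ι ⁻¹ᵁ (W ⊓ U)) :=
      X.presheaf.mapIso (eqToIso h1).op ≪≫ U.ι.appIso _
    exact isReduced_of_injective e.hom.hom e.commRingCatIsoToRingEquiv.injective
  exact (hs.map (X.presheaf.map (homOfLE (inf_le_left : W ⊓ U ≤ W)).op).hom).eq_zero

end Groth.SchemeMorphisms
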