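import Groth.Agent.SchemeMorphisms.Ass

/-!
Maximal points of the support of a coherent module are the points with finite length stalk.
-/

universe u

open CategoryTheory Limits AlgebraicGeometry TopologicalSpace Opposite

set_option backward.isDefEq.respectTransparency false
set_option linter.style.haveILetI false

namespace Groth.SchemeMorphisms

/-- A finite module over a local Noetherian ring all of whose elements are killed by powers of the
nonunits has finite length. -/
theorem isFiniteLength_of_torsion {R M : Type*} [CommRing R] [IsLocalRing R] [IsNoetherianRing R]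
    [AddCommGroup M] [Module R M] [Module.Finite R M]
    (h : ∀ a : R, ¬ IsUnit a → ∀ z : M, ∃ n : ℕ, a ^ n • z = 0) : IsFiniteLength R M := by
  classical
  obtain ⟨T, hT⟩ := Module.Finite.fg_top (R := R) (M := M)
  have hrad : IsLocalRing.maximalIdeal R ≤ (Module.annihilator R M).radical := by
    intro a ha
    choose n hn using h a ha
    refine ⟨T.sup n, Module.mem_annihilator.mpr fun z => ?_⟩
    induction (hT.ge (Submodule.mem_top : z ∈ ⊤)) using Submodule.span_induction with
    | mem x hx =>
      rw [← Nat.sub_add_cancel (Finset.le_sup (f := n) hx), pow_add, mul_smul, hn, smul_zero]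
    | zero => exact smul_zero _
    | add x y _ _ hx hy => rw [smul_add, hx, hy, add_zero]
    | smul c x _ hx => rw [smul_comm, hx, smul_zero]
  refine isFiniteLength_iff_isNoetherian_isArtinian.mpr ⟨inferInstance, ?_⟩
  have : Ring.KrullDimLE 0 (R ⧸ Module.annihilator R M) := by
    refine Ring.KrullDimLE.mk₀ fun P hP => ?_
    have hmax : IsLocalRing.maximalIdeal R ≤ P.comap (Ideal.Quotient.mk _) :=
      hrad.trans ((Ideal.IsPrime.radical_le_iff inferInstance).mpr fun a ha => by
        rw [Ideal.mem_comap, Ideal.Quotient.eq_zero_iff_mem.mpr ha]; exact P.zero_mem)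
    have heq := (IsLocalRing.maximalIdeal.isMaximal R).eq_of_le (Ideal.IsPrime.ne_top inferInstance) hmax
    rw [← Ideal.map_comap_of_surjective _ Ideal.Quotient.mk_surjective P, ← heq]
    exact Ideal.IsMaximal.map_of_surjective_of_ker_le Ideal.Quotient.mk_surjective
      (heq ▸ Ideal.ker_le_comap _)
  have : IsArtinianRing (R ⧸ Module.annihilator R M) := isArtinianRing_iff_krullDimLE_zero.mpr this
  letI : Module (R ⧸ Module.annihilator R M) M :=
    (Module.isTorsionBySet_annihilator R M).module
  have : IsScalarTower R (R ⧸ Module.annihilator R M) M :=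
    (Module.isTorsionBySet_annihilator R M).isScalarTower
  have : Module.Finite (R ⧸ Module.annihilator R M) M := Module.Finite.of_restrictScalars_finite R _ _
  exact isArtinian_of_surjective_algebraMap (R := R ⧸ Module.annihilator R M) Ideal.Quotient.mk_surjective

/-- In a module of finite length over a local ring, powers of a nonunit kill every element. -/
theorem torsion_of_isFiniteLength {R M : Type*} [CommRing R] [IsLocalRing R] [AddCommGroup M]
    [Module R M] (h : IsFiniteLength R M) {a : R} (ha : ¬ IsUnit a) (z : M) :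
    ∃ n : ℕ, a ^ n • z = 0 := by
  have := (isFiniteLength_iff_isNoetherian_isArtinian.mp h).2
  obtain ⟨n, ⟨y, hy⟩, hn⟩ := IsArtinian.exists_pow_succ_smul_dvd (M := Submodule.span R {z}) a
    ⟨z, Submodule.mem_span_singleton_self z⟩
  obtain ⟨b, rfl⟩ := Submodule.mem_span_singleton.mp hy
  have hn : a ^ n.succ • b • z = a ^ n • z := congrArg Subtype.val hn
  have hu : IsUnit (1 - a * b) := IsLocalRing.isUnit_one_sub_self_of_mem_nonunits _
    (mul_mem_nonunits_left ha)
  refine ⟨n, hu.smul_eq_zero.mp ?_⟩
  rw [sub_smul, one_smul, sub_eq_zero]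
  conv_lhs => rw [← hn]
  simp only [smul_smul, pow_succ]
  ring_nf

variable {X : Scheme.{u}}

theorem finite_stalk {F : X.Modules} (hF : Coh.IsCoh F) (x : X) :
    Module.Finite (X.presheaf.stalk x) (F.presheaf.stalk x) := by
  classical
  have : F.IsQuasicoherent := hF.1
  obtain ⟨_, ⟨U, hU, rfl⟩, hxU, -⟩ :=
    X.isBasis_affineOpens.exists_subset_of_mem_open (Set.mem_univ x) isOpen_univ
  replace hU : IsAffineOpen U := hU
  obtain ⟨T, hT⟩ := (Groth.QCohMod.finite_sections F hF.2 hU).fg_top
  refine ⟨⟨T.image (F.presheaf.germ U x hxU), eq_top_iff.mpr fun z _ => ?_⟩⟩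
  obtain ⟨c, s, hc, hs⟩ := Groth.Divisors.exists_smul_eq_germ hU hxU hF.1 z
  have hmem : ∀ t : Γ(F, U), F.presheaf.germ U x hxU t ∈
      Submodule.span (X.presheaf.stalk x) (T.image (F.presheaf.germ U x hxU) : Set _) := by
    intro t
    induction (hT.ge (Submodule.mem_top : t ∈ ⊤)) using Submodule.span_induction with
    | mem y hy => exact Submodule.subset_span (Finset.mem_coe.mpr (Finset.mem_image_of_mem _ hy))
    | zero => rw [map_zero]; exact zero_mem _
    | add y w _ _ hy hw => rw [map_add]; exact add_mem hy hw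
    | smul r y _ hy => rw [Groth.Divisors.germ_smul_mod]; exact Submodule.smul_mem _ _ hy
  exact (Submodule.smul_mem_iff_of_isUnit _ hc).mp (hs ▸ hmem s)

theorem maximal_support_iff_isFiniteLength [IsLocallyNoetherian X] {F : X.Modules}
    (hF : Coh.IsCoh F) {x : X} :
    (∀ y ∈ CohB1.support F, y ⤳ x → y = x) ↔
      IsFiniteLength (X.presheaf.stalk x) (F.presheaf.stalk x) := by
  obtain ⟨_, ⟨U, hU, rfl⟩, hxU, -⟩ :=
    X.isBasis_affineOpens.exists_subset_of_mem_open (Set.mem_univ x) isOpen_univ
  replace hU : IsAffineOpen U := hU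
  have := finite_stalk hF x
  set p := (hU.primeIdealOf ⟨x, hxU⟩).asIdeal with hp
  constructor
  · intro h
    refine isFiniteLength_of_torsion fun a ha z => ?_
    obtain ⟨d, s, hd, hs⟩ := Groth.Divisors.exists_smul_eq_germ hU hxU hF.1 z
    obtain ⟨r, e, he, hre⟩ := Groth.Divisors.exists_germ_mul_eq hU hxU a
    have hr : r ∈ p := by
      by_contra hr
      have := (Groth.Divisors.isUnit_germ_iff hU hxU r).mpr hr
      rw [← hre] at this
      exact ha (isUnit_of_mul_isUnit_left this)
    obtain ⟨c, n, hc, hn⟩ : ∃ (c : Γ(X, U)) (n : ℕ), c ∉ p ∧ (c * r ^ n) • s = 0 := by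
      by_contra hne
      simp only [not_exists, not_and] at hne
      obtain ⟨q, hq, hle, hdisj⟩ := Ideal.exists_le_prime_disjoint
        ((⊥ : Submodule Γ(X, U) Γ(F, U)).colon {s}) (p.primeCompl ⊔ Submonoid.powers r) <| by
        refine Set.disjoint_left.mpr fun t ht hts => ?_
        obtain ⟨c, hc, _, ⟨n, rfl⟩, rfl⟩ := Submonoid.mem_sup.mp hts
        exact hne c n hc (by simpa [Submodule.mem_colon_singleton] using ht)
      let y := hU.fromSpec ⟨q, hq⟩
      have hyU : y ∈ U := fromSpec_mem hU _
      have hpy : hU.primeIdealOf ⟨y, hyU⟩ = ⟨q, hq⟩ := primeIdealOf_fromSpec hU _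
      have hqp : q ≤ p := fun t ht => by
        by_contra htp
        exact Set.disjoint_left.mp hdisj ht (Submonoid.mem_sup_left htp)
      have hsp := ((PrimeSpectrum.le_iff_specializes (⟨q, hq⟩ : PrimeSpectrum Γ(X, U))
        (hU.primeIdealOf ⟨x, hxU⟩)).mp hqp).map hU.fromSpec.continuous
      rw [hU.fromSpec_primeIdealOf] at hsp
      have hys : y ∈ CohB1.support F := by
        intro hsub
        obtain ⟨c, hc, hc0⟩ := (Groth.Divisors.germ_eq_zero_iff hU hyU hF.1 s).mp
          (hsub.elim _ _)
        rw [Groth.Divisors.isUnit_germ_iff hU hyU, hpy] at hc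
        exact hc (hle (by simpa [Submodule.mem_colon_singleton] using hc0))
      have hyx : hU.primeIdealOf ⟨y, hyU⟩ = hU.primeIdealOf ⟨x, hxU⟩ :=
        congrArg _ (Subtype.ext (h y hys hsp))
      rw [hpy] at hyx
      exact Set.disjoint_left.mp hdisj ((congrArg PrimeSpectrum.asIdeal hyx).ge hr)
        (Submonoid.mem_sup_right ⟨1, pow_one r⟩)
    refine ⟨n, ?_⟩
    have h0 := congrArg (F.presheaf.germ U x hxU).hom hn
    rw [map_zero, Groth.Divisors.germ_smul_mod, map_mul, map_pow, mul_smul,
      ((Groth.Divisors.isUnit_germ_iff hU hxU c).mpr hc).smul_eq_zero, ← hre, ← hs, smul_smul,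
      mul_pow] at h0
    refine ((he.pow n).mul hd).smul_eq_zero.mp ?_
    rw [smul_smul, ← h0]
    ring_nf
  · intro h y hy hyx
    by_contra hne
    have hyU : y ∈ U := hyx.mem_open U.isOpen hxU
    have hle : (hU.primeIdealOf ⟨y, hyU⟩).asIdeal ≤ p := by
      refine (PrimeSpectrum.le_iff_specializes (hU.primeIdealOf ⟨y, hyU⟩) _).mpr
        (hU.fromSpec.isOpenEmbedding.isInducing.specializes_iff.mp ?_)
      rw [hU.fromSpec_primeIdealOf, hU.fromSpec_primeIdealOf]
      exact hyx
    obtain ⟨r, hr, hr'⟩ := SetLike.not_le_iff_exists.mp (fun hge : p ≤ _ => hne (by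
      have := congrArg hU.fromSpec (PrimeSpectrum.ext (le_antisymm hle hge))
      rwa [hU.fromSpec_primeIdealOf, hU.fromSpec_primeIdealOf] at this))
    refine hy ⟨fun a b => sub_eq_zero.mp ?_⟩
    obtain ⟨d, s, hd, hs⟩ := Groth.Divisors.exists_smul_eq_germ hU hyU hF.1 (a - b)
    obtain ⟨n, hn⟩ := torsion_of_isFiniteLength h
      (mt (Groth.Divisors.isUnit_germ_iff hU hxU r).mp (not_not.mpr hr))
      (F.presheaf.germ U x hxU s)
    rw [← map_pow, ← Groth.Divisors.germ_smul_mod] at hn
    obtain ⟨c, hc, hc0⟩ := (Groth.Divisors.germ_eq_zero_iff hU hxU hF.1 _).mp hn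
    rw [Groth.Divisors.isUnit_germ_iff hU hxU] at hc
    have hu : IsUnit (X.presheaf.germ U y hyU (c * r ^ n)) := by
      rw [map_mul, map_pow]
      exact ((Groth.Divisors.isUnit_germ_iff hU hyU c).mpr fun hcy => hc (hle hcy)).mul
        (((Groth.Divisors.isUnit_germ_iff hU hyU r).mpr hr').pow n)
    have h0 := congrArg (F.presheaf.germ U y hyU).hom hc0
    rw [← mul_smul, map_zero, Groth.Divisors.germ_smul_mod, hu.smul_eq_zero, ← hs,
      hd.smul_eq_zero] at h0
    exact h0

end Groth.SchemeMorphisms
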