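import Mathlib.RingTheory.Ideal.AssociatedPrime.Finiteness
import Groth.Agent.SchemeMorphisms.MaxSupp

/-!
Families of quotients with one associated point each.
-/

universe u

open CategoryTheory Limits AlgebraicGeometry TopologicalSpace Opposite

set_option backward.isDefEq.respectTransparency false
set_option linter.style.haveILetI false

namespace Groth.SchemeMorphisms

variable {X : Scheme.{u}}

/-- A jointly monomorphic family is jointly injective on sections. -/
theorem app_eq_zero_of_jointlyMono {M : X.Modules} {ι : Type u} {G : ι → X.Modules}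
    (q : ∀ i, M ⟶ G i) (hm : ∀ (T : X.Modules) (a b : T ⟶ M), (∀ i, a ≫ q i = b ≫ q i) → a = b)
    {W : X.Opens} (s : Γ(M, W)) (h : ∀ i, (q i).app W s = 0) : s = 0 := by
  have : Mono (Pi.lift q) := ⟨fun a b hab => hm _ a b fun i => by
    simpa [Category.assoc] using congrArg (· ≫ Pi.π G i) hab⟩
  refine Groth.QCohMod.app_injective_of_mono (Pi.lift q) W ?_
  rw [map_zero]
  refine Concrete.isLimit_ext _
    (isLimitOfPreserves (Groth.QCohMod.sec W) (limit.isLimit (Discrete.functor G))) _ _ ?_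
  rintro ⟨i⟩
  have h1 := congrArg (fun φ : M ⟶ G i => φ.app W s) (Pi.lift_π q i)
  change (Pi.π G i).app W ((Pi.lift q).app W s) = (Pi.π G i).app W 0
  rw [map_zero]
  exact h1.trans (h i)

theorem finite_ass_inter [IsLocallyNoetherian X] {F : X.Modules} (hF : Coh.IsCoh F) {U : X.Opens}
    (hU : IsAffineOpen U) : (AssSch.Ass F ∩ (U : Set X)).Finite := by
  have : F.IsQuasicoherent := hF.1
  have := isNoetherianRing_section hU
  have := Groth.QCohMod.finite_sections F hF.2 hU
  refine (((associatedPrimes.finite Γ(X, U) Γ(F, U)).preimage (f := PrimeSpectrum.asIdeal)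
    (fun a _ b _ hab => PrimeSpectrum.ext hab)).image hU.fromSpec).subset ?_
  rintro x ⟨hx, hxU⟩
  exact ⟨hU.primeIdealOf ⟨x, hxU⟩, (mem_ass_iff hF.1 hU hxU).mp hx, hU.fromSpec_primeIdealOf _⟩

theorem specializes_of_germ_ne_zero {G : X.Modules} (hG : Coh.IsQCoh G) {x y : X}
    (hA : AssSch.Ass G = {x}) {W : X.Opens} (hy : y ∈ W) {t : Γ(G, W)}
    (ht : G.presheaf.germ W y hy t ≠ 0) : x ⤳ y := by
  obtain ⟨z, hz, hsp⟩ := exists_ass_specializes hG (y := y) fun hsub => ht (hsub.elim _ _)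
  rw [hA] at hz
  exact (Set.mem_singleton_iff.mp hz) ▸ hsp

variable [IsLocallyNoetherian X] {M : X.Modules} {G : ↥(AssSch.Ass M) → X.Modules}
  (q : ∀ x, M ⟶ G x)

/-- Without embedded points the kernel of the `x`-component consists of the sections with trivial
germ at `x`. -/
theorem app_eq_zero_iff_germ (hM : Coh.IsCoh M) (hne : AssSch.NoEmbedded M)
    (hG : ∀ x, Coh.IsQCoh (G x)) (hA : ∀ x, AssSch.Ass (G x) = {x.1})
    (hm : ∀ (T : X.Modules) (a b : T ⟶ M), (∀ x, a ≫ q x = b ≫ q x) → a = b)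
    (x : ↥(AssSch.Ass M)) {W : X.Opens} (s : Γ(M, W)) :
    (q x).app W s = 0 ↔ ∀ hx : x.1 ∈ W, M.presheaf.germ W x.1 hx s = 0 := by
  classical
  constructor
  · intro h hx
    obtain ⟨_, ⟨U, hU, rfl⟩, hxU, hUW⟩ :=
      X.isBasis_affineOpens.exists_subset_of_mem_open hx W.isOpen
    replace hU : IsAffineOpen U := hU
    have hfin : {y : ↥(AssSch.Ass M) | y.1 ∈ U ∧ y ≠ x}.Finite :=
      ((finite_ass_inter hM hU).preimage Subtype.val_injective.injOn).subset
        fun y hy => ⟨y.2, hy.1⟩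
    -- an open neighbourhood of `x` avoiding the other associated points near `x`
    let V : X.Opens := ⟨(U : Set X) ∩ ⋂ y ∈ {y : ↥(AssSch.Ass M) | y.1 ∈ U ∧ y ≠ x},
      (closure ({y.1} : Set X))ᶜ, U.isOpen.inter
        (hfin.isOpen_biInter fun y _ => isClosed_closure.isOpen_compl)⟩
    have hxV : x.1 ∈ V := ⟨hxU, Set.mem_iInter₂.mpr fun y hy hyx => hy.2 <| Subtype.ext
      (hne x.1 x.2 y.1 y.2 (specializes_iff_mem_closure.mpr hyx)).symm⟩
    have hVW : V ≤ W := fun z hz => hUW hz.1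
    have h0 : M.presheaf.map (homOfLE hVW).op s = 0 := by
      refine app_eq_zero_of_jointlyMono q hm _ fun y => ?_
      rw [show (q y).app V (M.presheaf.map (homOfLE hVW).op s) =
          (G y).presheaf.map (homOfLE hVW).op ((q y).app W s) from
        congr($((q y).mapPresheaf.naturality (homOfLE hVW).op) s)]
      by_cases hyx : y = x
      · subst hyx
        rw [h, map_zero]
      refine TopCat.Presheaf.section_ext ⟨(G y).presheaf, (G y).isSheaf⟩ _ _ 0 fun z hz => ?_
      erw [map_zero]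
      by_contra hne0
      have hsp := specializes_of_germ_ne_zero (hG y) (hA y) hz hne0
      exact Set.mem_iInter₂.mp hz.2 y ⟨hsp.mem_open U.isOpen hz.1, hyx⟩
        (specializes_iff_mem_closure.mp hsp)
    have := congrArg (M.presheaf.germ V x.1 hxV).hom h0
    rwa [TopCat.Presheaf.germ_res_apply, map_zero] at this
  · intro h
    refine Groth.Divisors.eq_zero_of_germ_weakAss (hG x) _ fun z hz hwa => ?_
    have hzx : z = x.1 := Set.mem_singleton_iff.mp ((hA x).le (mem_ass_iff_weak.mpr hwa))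
    subst hzx
    rw [show (G x).presheaf.germ W x.1 hz ((q x).app W s) =
        (Groth.QCohMod.stalk x.1).map (q x) (M.presheaf.germ W x.1 hz s) from
      (Groth.QCohMod.stalk_map_germ (q x) x.1 hz s).symm, h hz, map_zero]

/-- Reduced decompositions without embedded points are unique. -/
theorem exists_iso_of_decompositions (hM : Coh.IsCoh M) (hne : AssSch.NoEmbedded M)
    {G' : ↥(AssSch.Ass M) → X.Modules} (q' : ∀ x, M ⟶ G' x)
    (hq : ∀ x, Epi (q x)) (hq' : ∀ x, Epi (q' x))
    (hG : ∀ x, Coh.IsQCoh (G x)) (hG' : ∀ x, Coh.IsQCoh (G' x))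
    (hA : ∀ x, AssSch.Ass (G x) = {x.1}) (hA' : ∀ x, AssSch.Ass (G' x) = {x.1})
    (hm : ∀ (T : X.Modules) (a b : T ⟶ M), (∀ x, a ≫ q x = b ≫ q x) → a = b)
    (hm' : ∀ (T : X.Modules) (a b : T ⟶ M), (∀ x, a ≫ q' x = b ≫ q' x) → a = b)
    (x : ↥(AssSch.Ass M)) : ∃ e : G x ≅ G' x, q x ≫ e.hom = q' x := by
  have := hq x
  have := hq' x
  have hiff : ∀ (W : X.Opens) (s : Γ(M, W)), (q x).app W s = 0 ↔ (q' x).app W s = 0 := fun W s =>
    (app_eq_zero_iff_germ q hM hne hG hA hm x s).trans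
      (app_eq_zero_iff_germ q' hM hne hG' hA' hm' x s).symm
  have h1 : kernel.ι (q x) ≫ q' x = 0 := by
    ext W s
    exact (hiff W _).mp (congr($(congr(Scheme.Modules.Hom.app $(kernel.condition (q x)) W)) s))
  have h2 : kernel.ι (q' x) ≫ q x = 0 := by
    ext W s
    exact (hiff W _).mpr (congr($(congr(Scheme.Modules.Hom.app $(kernel.condition (q' x)) W)) s))
  refine ⟨⟨Abelian.epiDesc (q x) (q' x) h1, Abelian.epiDesc (q' x) (q x) h2, ?_, ?_⟩,
    Abelian.comp_epiDesc _ _ _⟩
  · rw [← cancel_epi (q x), ← Category.assoc, Abelian.comp_epiDesc, Abelian.comp_epiDesc,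
      Category.comp_id]
  · rw [← cancel_epi (q' x), ← Category.assoc, Abelian.comp_epiDesc, Abelian.comp_epiDesc,
      Category.comp_id]

end Groth.SchemeMorphisms
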