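import Mathlib
import Groth.Agent.SchemeMorphisms.Points

/-!
Closed and isolated points of fibres under base change.
-/

universe u

open CategoryTheory Limits AlgebraicGeometry TopologicalSpace

set_option backward.isDefEq.respectTransparency false

namespace Groth.SchemeMorphisms

variable {X S X' S' : Scheme.{u}}

theorem exists_fiber_map (f : X ⟶ S) (g : S' ⟶ S) (g' : X' ⟶ X) (f' : X' ⟶ S')
    (hsq : IsPullback g' f' f g) (x' : X') :
    ∃ h : f'.fiber (f' x') ⟶ f.fiber (g (f' x')),
      IsPullback h (f'.fiberToSpecResidueField (f' x'))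
        (f.fiberToSpecResidueField (g (f' x'))) (Spec.map (g.residueFieldMap (f' x'))) ∧
      f.fiberι _ (h (f'.asFiber x')) = g' x' := by
  refine ⟨_, isPullback_fiberToSpecResidueField_of_isPullback hsq (f' x'), ?_⟩
  rw [← Scheme.Hom.comp_apply]
  refine Eq.trans (congrArg (fun k : f'.fiber (f' x') ⟶ X => k (f'.asFiber x'))
    (pullback.lift_fst _ _ _)) ?_
  rw [Scheme.Hom.comp_apply]
  exact congrArg g' (f'.fiberι_asFiber x')

theorem fiber_point_eq_asFiber_iff (f : X ⟶ S) (s : S) (z : f.fiber s) (x : X)
    (hz : f.fiberι s z = x) (P : ∀ s, f.fiber s → Prop) : P s z ↔ P (f x) (f.asFiber x) := by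
  have hs : f x = s := by rw [← hz]; exact (f.fiberHomeo s z).2
  subst hs
  have : z = f.asFiber x :=
    (f.fiberι _).isEmbedding.injective (hz.trans (f.fiberι_asFiber x).symm)
  rw [this]

/-- A point over a closed (resp. isolated) point under a field extension of a locally finite
type scheme is closed (resp. isolated). -/
theorem isClosed_and_isOpen_of_fieldExtension {F F' : Scheme.{u}} {k k' : Type u}
    [Field k] [Field k'] (π : F ⟶ Spec (CommRingCat.of k)) [LocallyOfFiniteType π]
    (π' : F' ⟶ Spec (CommRingCat.of k')) (ψ : Spec (CommRingCat.of k') ⟶ Spec (CommRingCat.of k)) (h : F' ⟶ F) (hpb : IsPullback h π' π ψ) (z' : F')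
    (hz : IsClosed ({h z'} : Set F)) :
    IsClosed ({z'} : Set F') ∧ (IsOpen ({h z'} : Set F) → IsOpen ({z'} : Set F')) := by
  let i := F.fromSpecResidueField (h z')
  have : IsClosedImmersion i := isClosed_singleton_iff_isClosedImmersion.mp hz
  have : IsFinite (i ≫ π) :=
    isFinite_iff_locallyOfFiniteType_of_jacobsonSpace.mpr inferInstance
  let P := pullback i h
  have hP : IsPullback (pullback.fst i h) (pullback.snd i h ≫ π') (i ≫ π) ψ :=
    (IsPullback.of_hasPullback i h).paste_vert hpb
  have : IsFinite (pullback.snd i h ≫ π') :=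
    MorphismProperty.of_isPullback (P := @IsFinite) hP inferInstance
  have : IsLocallyArtinian P := .of_locallyQuasiFinite (pullback.snd i h ≫ π')
  have : DiscreteTopology P := IsLocallyArtinian.discreteTopology
  have hrange : Set.range (pullback.snd i h) = h ⁻¹' {h z'} := by
    rw [Scheme.Pullback.range_snd, F.range_fromSpecResidueField]
  obtain ⟨p, hp⟩ : z' ∈ Set.range (pullback.snd i h) := by rw [hrange]; exact Set.mem_singleton _
  refine ⟨?_, fun ho => ?_⟩
  · simpa [hp] using (pullback.snd i h).isClosedEmbedding.isClosedMap _ (isClosed_discrete {p})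
  · have hopen : IsOpen (Set.range (pullback.snd i h)) := hrange ▸ ho.preimage h.continuous
    have hemb : Topology.IsOpenEmbedding (pullback.snd i h) :=
      ⟨(pullback.snd i h).isEmbedding, hopen⟩
    simpa [hp] using hemb.isOpenMap _ (isOpen_discrete {p})

variable (f : X ⟶ S) [LocallyOfFiniteType f] (g : S' ⟶ S) (g' : X' ⟶ X) (f' : X' ⟶ S')
  (hsq : IsPullback g' f' f g) (x' : X')

include hsq in
theorem isClosed_asFiber_baseChange (hx : IsClosed ({f.asFiber (g' x')} : Set (f.fiber (f (g' x'))))) :
    IsClosed ({f'.asFiber x'} : Set (f'.fiber (f' x'))) := by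
  obtain ⟨h, hpb, hh⟩ := exists_fiber_map f g g' f' hsq x'
  have : LocallyOfFiniteType (f.fiberToSpecResidueField (g (f' x'))) :=
    inferInstanceAs (LocallyOfFiniteType (pullback.snd f _))
  refine (isClosed_and_isOpen_of_fieldExtension (k := S.residueField (g (f' x'))) (k' := S'.residueField (f' x')) _ _ _ h hpb _ ?_).1
  exact (fiber_point_eq_asFiber_iff f _ _ _ hh (fun _ z => IsClosed {z})).mpr hx

include hsq in
theorem quasiFiniteAt_baseChange_iff :
    f'.QuasiFiniteAt x' ↔ f.QuasiFiniteAt (g' x') := by
  have : LocallyOfFiniteType f' := MorphismProperty.of_isPullback hsq inferInstance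
  obtain ⟨h, hpb, hh⟩ := exists_fiber_map f g g' f' hsq x'
  have : LocallyOfFiniteType (f.fiberToSpecResidueField (g (f' x'))) :=
    inferInstanceAs (LocallyOfFiniteType (pullback.snd f _))
  rw [Scheme.Hom.quasiFiniteAt_iff_isOpen_singleton_asFiber,
    Scheme.Hom.quasiFiniteAt_iff_isOpen_singleton_asFiber,
    ← fiber_point_eq_asFiber_iff f _ _ _ hh (fun _ z => IsOpen {z})]
  constructor
  · intro hz'
    have : UniversallyOpen (Spec.map (g.residueFieldMap (f' x'))) := inferInstance
    have : UniversallyOpen h := MorphismProperty.of_isPullback hpb.flip this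
    simpa using h.isOpenMap _ hz'
  · intro hz
    exact (isClosed_and_isOpen_of_fieldExtension (k := S.residueField (g (f' x'))) (k' := S'.residueField (f' x')) _ _ _ h hpb _
      (isClosed_singleton_of_isLocallyClosed_singleton hz.isLocallyClosed)).2 hz

end Groth.SchemeMorphisms
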