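/-
A blow-up in an ideal of finite type is projective: the exceptional divisor gives polarisation data.
-/
import Groth.Agent.Ega2Proj.PolData
import Groth.Agent.RefRank.BlowUpCharts
import Groth.Agent.PicAux.EffCartierLine

set_option autoImplicit false

universe u

open CategoryTheory CategoryTheory.Limits AlgebraicGeometry Opposite TopologicalSpace

set_option backward.isDefEq.respectTransparency.types false

noncomputable section

namespace Groth.SchemeMorphisms.BlowUpProj

open Groth.PicAux Groth.Ega2Proj Groth.RefRank.BlowChart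

variable {X X' : Scheme.{u}} (b : X' ⟶ X) (I : X.IdealSheafData)

/-- The exceptional ideal as a module. -/
abbrev LL : X'.Modules := ClSub.idealMod (I.comap b)

/-- The section as a function. -/
def fn {A : X.Opens} (t : PSec b (ClSub.idealMod (I.comap b)) A) : Γ(X', b ⁻¹ᵁ A) :=
  OmegaSh.idealSect (I.comap b) (b ⁻¹ᵁ A) t

theorem fn_def {A : X.Opens} (t : PSec b (ClSub.idealMod (I.comap b)) A) :
    fn b I t = OmegaSh.idealSect (I.comap b) (b ⁻¹ᵁ A) (up b t) := rfl

theorem fn_injective (A : X.Opens) : Function.Injective (fn b I (A := A)) := fun s t h => by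
  rw [fn_def, fn_def] at h
  exact Groth.OmegaSheaf.idealSect_injective (I.comap b) (b ⁻¹ᵁ A) h

theorem fn_pres {A D : X.Opens} (h : D ≤ A) (t : PSec b (LL b I) A) :
    fn b I (pres b (LL b I) h t) = resX X' (b.preimage_mono h) (fn b I t) :=
  idealSect_res' (I.comap b) (b.preimage_mono h) (up b t)

theorem fn_smul {A : X.Opens} (a : Γ(X, A)) (t : PSec b (LL b I) A) :
    fn b I (a • t) = b.app A a * fn b I t :=
  Groth.OmegaSheaf.idealSect_smul _ _ (b.app A a) (up b t)

theorem exists_sec [QuasiCompact b] (A : X.affineOpens) {x : Γ(X, A.1)} (hx : x ∈ I.ideal A) :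
    ∃ t : PSec b (LL b I) A.1, fn b I t = b.app A.1 x := by
  refine Groth.OmegaSheaf.exists_idealSect_eq (I.comap b) (b ⁻¹ᵁ A.1) (b.app A.1 x) ?_
  have h : x ∈ ((I.comap b).subschemeι ≫ b).ker.ideal A := I.le_map_comap b A hx
  rw [Scheme.Hom.ker_apply, RingHom.mem_ker] at h
  exact h

/-- Elements of the ideal as sections of the direct image of the exceptional ideal. -/
def sec [QuasiCompact b] (A : X.affineOpens) : I.ideal A →ₗ[Γ(X, A.1)] PSec b (LL b I) A.1 where
  toFun x := (exists_sec b I A x.2).choose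
  map_add' x y := by
    refine fn_injective b I A.1 ?_
    rw [(exists_sec b I A (x + y).2).choose_spec]
    refine Eq.trans ?_ (map_add _ _ _).symm
    refine (map_add (b.app A.1).hom x.1 y.1).trans ?_
    exact (congrArg₂ (· + ·) (exists_sec b I A x.2).choose_spec (exists_sec b I A y.2).choose_spec).symm
  map_smul' a x := by
    refine fn_injective b I A.1 ?_
    rw [(exists_sec b I A (a • x).2).choose_spec, RingHom.id_apply, fn_smul,
      (exists_sec b I A x.2).choose_spec]
    exact map_mul (b.app A.1).hom a x.1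

theorem fn_sec [QuasiCompact b] (A : X.affineOpens) (x : I.ideal A) :
    fn b I (sec b I A x) = b.app A.1 x.1 :=
  (exists_sec b I A x.2).choose_spec

theorem span_sec_image [QuasiCompact b] (A : X.affineOpens) {G : Set Γ(X, A.1)}
    (hG : Submodule.span Γ(X, A.1) G = I.ideal A) :
    Submodule.span Γ(X, A.1) (sec b I A '' (Subtype.val ⁻¹' G)) = LinearMap.range (sec b I A) := by
  rw [Submodule.span_image, ← Submodule.map_top]
  congr 1
  refine Submodule.map_injective_of_injective (f := (I.ideal A).subtype) Subtype.val_injective ?_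
  rw [Submodule.map_span, Submodule.map_top, Submodule.range_subtype, Submodule.coe_subtype]
  refine Eq.trans (congrArg _ (Set.image_preimage_eq_of_subset fun g hg => ?_)) hG
  exact ⟨⟨g, hG ▸ Submodule.subset_span hg⟩, rfl⟩

theorem coeff_ideal_pow {A W : Type u} [CommRing A] [CommRing W] (φ : A →+* W) (R : Subring W)
    (hφ : ∀ a, φ a ∈ R) (J : Ideal A) (G : Set A) (hG : Ideal.span G = J) (g : W)
    (hg : ∀ x ∈ G, ∃ r ∈ R, φ x = g * r) (m : ℕ) {c : A} (hc : c ∈ J ^ m) :
    ∃ r ∈ R, φ c = g ^ m * r := by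
  let K : ℕ → Ideal A := fun k =>
    { carrier := {c | ∃ r ∈ R, φ c = g ^ k * r}
      zero_mem' := ⟨0, R.zero_mem, by simp⟩
      add_mem' := by
        rintro a b ⟨r, hr, hr'⟩ ⟨s, hs, hs'⟩
        exact ⟨r + s, R.add_mem hr hs, by rw [map_add, hr', hs', mul_add]⟩
      smul_mem' := by
        rintro a b ⟨r, hr, hr'⟩
        exact ⟨φ a * r, R.mul_mem (hφ a) hr, by rw [smul_eq_mul, map_mul, hr']; ring⟩ }
  suffices h : J ^ m ≤ K m from h hc
  clear hc
  induction m with
  | zero => exact fun c _ => ⟨φ c, hφ c, by simp⟩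
  | succ k ih =>
    rw [pow_succ]
    refine Ideal.mul_le.2 fun a ha x hx => ?_
    obtain ⟨r, hr, hr'⟩ := ih ha
    have hJ : J ≤ K 1 := by
      rw [← hG, Ideal.span_le]
      intro y hy
      obtain ⟨s, hs, hs'⟩ := hg y hy
      exact ⟨s, hs, by rw [pow_one, hs']⟩
    obtain ⟨s, hs, hs'⟩ := hJ hx
    exact ⟨r * s, R.mul_mem hr hs, by rw [map_mul, hr', hs', pow_one, pow_succ]; ring⟩

theorem exists_pol {X X' : Scheme.{u}} {b : X' ⟶ X} {I : X.IdealSheafData} [QuasiCompact b]
    (hb : BlowUp.IsBlowUp b I) (hI : ∀ U : X.affineOpens, (I.ideal U).FG) : Nonempty (Pol b) := by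
  classical
  choose G hG using hI
  have hGI : ∀ (A : X.affineOpens), ∀ g ∈ G A, g ∈ I.ideal A := fun A g hg =>
    (hG A).le (Submodule.subset_span hg)
  let T : ∀ A : X.Opens, IsAffineOpen A → Set (PSec b (LL b I) A) := fun A hA =>
    sec b I ⟨A, hA⟩ '' (Subtype.val ⁻¹' (↑(G ⟨A, hA⟩) : Set Γ(X, A)))
  refine ⟨{
    L := LL b I
    inv := isInvertible_idealMod hb.1
    T := T
    fin := fun A hA => ((G ⟨A, hA⟩).finite_toSet.preimage Subtype.val_injective.injOn).image _
    compat := fun A hA r => ?_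
    chart := fun A hA z hz => ?_ }⟩
  · let U : X.affineOpens := ⟨A, hA⟩
    let D : X.affineOpens := ⟨X.basicOpen r, hA.basicOpen r⟩
    have hle : D.1 ≤ U.1 := X.basicOpen_le r
    let ρ := (X.presheaf.map (homOfLE hle).op).hom
    have hmap : (I.ideal U).map ρ = I.ideal D := I.map_ideal (U := D) (V := U) hle
    let G' : Set Γ(X, D.1) := ρ '' ↑(G U)
    have hG' : Submodule.span Γ(X, D.1) G' = I.ideal D := by
      rw [← hmap, ← hG U]
      exact (Ideal.map_span ρ _).symm
    have key : pres b (LL b I) hle '' T A hA = sec b I D '' (Subtype.val ⁻¹' G') := by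
      have e : ∀ (x : I.ideal U), pres b (LL b I) hle (sec b I U x) =
          sec b I D ⟨ρ x.1, hmap ▸ Ideal.mem_map_of_mem ρ x.2⟩ := by
        intro x
        refine fn_injective b I D.1 ?_
        rw [fn_pres, fn_sec, fn_sec]
        exact congr($(b.naturality (homOfLE hle).op) x.1).symm
      ext t
      constructor
      · rintro ⟨_, ⟨x, hx, rfl⟩, rfl⟩
        exact ⟨_, ⟨x.1, hx, rfl⟩, (e x).symm⟩
      · rintro ⟨⟨_, hy⟩, ⟨x, hx, rfl⟩, rfl⟩
        exact ⟨_, ⟨⟨x, hGI U x hx⟩, hx, rfl⟩, e _⟩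
    rw [key, span_sec_image b I D hG']
    exact (span_sec_image b I D (hG D)).symm
  · let U : X.affineOpens := ⟨A, hA⟩
    obtain ⟨W, hW, hch, hcov, hov⟩ := exists_charts hb U
    obtain ⟨a, hza⟩ := hcov z hz
    let φ : ∀ a : I.ideal U, Γ(X, A) →+* Γ(X', (W a).1) := fun a => (b.appLE A (W a).1 (hW a)).hom
    have hres : ∀ (a : I.ideal U) (y : I.ideal U),
        OmegaSh.idealSect (I.comap b) (W a).1 (Groth.PicAux.res (LL b I) (hW a) (up b (sec b I U y))) = φ a y.1 := by
      intro a y
      rw [idealSect_res']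
      exact congrArg (resX X' (hW a)) (fn_sec b I U y)
    have hgen : ∀ a : I.ideal U, Gen (LL b I) (W a).1 (Groth.PicAux.res (LL b I) (hW a) (up b (sec b I U a))) := by
      intro a
      refine gen_idealMod (W a) ?_ ?_
      · rw [hres]
        exact Groth.Divisors.isNzdSec_of_mem (W a).2 (hch a).nzd
      · rw [hres, Groth.Divisors.ideal_comap_affine I b U (W a) (hW a)]
        exact (hch a).span_eq
    obtain ⟨g, hgG, hzg⟩ : ∃ g : I.ideal U, g.1 ∈ G U ∧ z ∈ (W g).1 := by
      by_contra hcon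
      push Not at hcon
      let P : Ideal Γ(X', (W a).1) :=
        (IsLocalRing.maximalIdeal (X'.presheaf.stalk z)).comap (X'.presheaf.germ (W a).1 z hza).hom
      have hle : I.ideal U ≤ Ideal.comap (φ a) (Ideal.span {φ a a.1} * P) := by
        refine (hG U).ge.trans (Ideal.span_le.2 fun g hg => ?_)
        obtain ⟨γ, hγ, hγW⟩ := hov ⟨g, hGI U g hg⟩ a
        refine Ideal.mem_comap.2 (Ideal.mem_span_singleton_mul.2 ⟨γ, fun hu => ?_, ?_⟩)
        · exact hcon ⟨g, hGI U g hg⟩ hg (hγW ((X'.mem_basicOpen γ z hza).2 hu))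
        · exact (mul_comm _ _).trans hγ.symm
      obtain ⟨p, hp, hpe⟩ := Ideal.mem_span_singleton_mul.1 (hle a.2)
      have h1 : (p - 1) * φ a a.1 = 0 := by rw [sub_mul, one_mul, mul_comm p, hpe, sub_self]
      rw [(sub_eq_zero.1 ((hch a).nzd.2 _ h1) : p = 1)] at hp
      exact (Ideal.comap_ne_top _ (IsLocalRing.maximalIdeal.isMaximal _).ne_top) ((Ideal.eq_top_iff_one _).2 hp)
    refine ⟨sec b I U g, ⟨g, hgG, rfl⟩, (W g).1, hW g, hzg, (W g).2, hgen g, ?_, ?_⟩
    · intro V hV hVg y hy
      obtain ⟨c, hyc⟩ := hcov y (hV hy)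
      obtain ⟨γ, hγ, hγW⟩ := hov g c
      let V' := V ⊓ (W c).1
      obtain ⟨δ, hδ⟩ := (hVg.res (inf_le_left : V' ≤ V)).exists_coeff le_rfl
        (Groth.PicAux.res (LL b I) ((inf_le_right : V' ≤ (W c).1).trans (hW c)) (up b (sec b I U c)))
      have h1 : Groth.PicAux.res (LL b I) (hW c) (up b (sec b I U g)) =
          γ • Groth.PicAux.res (LL b I) (hW c) (up b (sec b I U c)) := by
        refine Groth.OmegaSheaf.idealSect_injective _ _ ?_
        rw [Groth.OmegaSheaf.idealSect_smul, hres, hres]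
        exact hγ
      have h2 := congrArg (Groth.PicAux.res (LL b I) (inf_le_right : V' ≤ (W c).1)) h1
      rw [Groth.PicAux.res_smul, Groth.PicAux.res_res, Groth.PicAux.res_res] at h2
      simp only [Groth.PicAux.res_res] at hδ
      rw [h2, ← mul_smul] at hδ
      have h3 : (1 : Γ(X', V')) = δ * resX X' (inf_le_right : V' ≤ (W c).1) γ := by
        refine ((hgen c).res (inf_le_right : V' ≤ (W c).1)).smul_inj le_rfl ?_
        simp only [Groth.PicAux.res_res, one_smul]
        exact hδ
      refine hγW ((X'.mem_basicOpen γ y hyc).2 ?_)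
      have hu : IsUnit (resX X' (inf_le_right : V' ≤ (W c).1) γ) := IsUnit.of_mul_eq_one_right _ h3.symm
      have := hu.map (X'.presheaf.germ V' y ⟨hy, hyc⟩).hom
      rwa [resX, TopCat.Presheaf.germ_res_apply] at this
    · obtain ⟨R, hR⟩ : ∃ R, R = Subring.closure (Set.range (b.appLE A (W g).1 (hW g)) ∪
          {c | ∃ t' ∈ T A hA, c • Groth.PicAux.res (LL b I) (hW g) (up b (sec b I U g)) =
            Groth.PicAux.res (LL b I) (hW g) (up b t')}) := ⟨_, rfl⟩
      rw [← hR]
      refine (Subring.eq_top_iff' R).2 fun x => ?_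
      obtain ⟨m, c, hc, he⟩ := (hch g).surj x
      obtain ⟨r, hr, hr'⟩ := coeff_ideal_pow (φ g) R
        (fun a => hR ▸ Subring.subset_closure (Or.inl ⟨a, rfl⟩)) (I.ideal U) (↑(G U)) (hG U) (φ g g.1)
        (fun y hy => by
          obtain ⟨r, hr⟩ := (hgen g).exists_coeff le_rfl
            (Groth.PicAux.res (LL b I) (hW g) (up b (sec b I U ⟨y, hGI U y hy⟩)))
          rw [Groth.PicAux.res_self] at hr
          refine ⟨r, hR ▸ Subring.subset_closure (Or.inr ⟨_, ⟨_, hy, rfl⟩, hr.symm⟩), ?_⟩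
          have h := congrArg (OmegaSh.idealSect (I.comap b) (W g).1) hr
          rw [Groth.OmegaSheaf.idealSect_smul, hres, hres] at h
          rw [h, mul_comm]) m hc
      have hn := Submonoid.pow_mem _ (hch g).nzd m
      rw [(mul_cancel_left_mem_nonZeroDivisors hn).1 (he.symm.trans hr')]
      exact hr

/-- A blow-up in an ideal of finite type is projective. -/
theorem isProjective_of_isBlowUp {X X' : Scheme.{u}} {b : X' ⟶ X} {I : X.IdealSheafData}
    (hb : BlowUp.IsBlowUp b I) (hI : ∀ U : X.affineOpens, (I.ideal U).FG) :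
    RelProj.IsProjective b := by
  have : IsProper b := Groth.HTopHyper.isProper_of_isBlowUp hb hI
  obtain ⟨D⟩ := exists_pol hb hI
  exact D.isProjective

end Groth.SchemeMorphisms.BlowUpProj
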