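import Groth.Agent.SchemeMorphisms.Decomp
import Groth.Agent.QCohMod.SubMod
import Groth.Agent.QCohMod.SupportPullback
import Groth.Agent.QCohMod.ClosedImm
import Mathlib.RingTheory.Filtration
import Mathlib.RingTheory.Localization.AtPrime.Basic

/-!
Subsheaves cut out by submodules of finitely many stalks: primary decomposition of coherent modules and
filtrations with coprimary quotients.
-/

universe u

open CategoryTheory Limits AlgebraicGeometry TopologicalSpace Opposite

set_option backward.isDefEq.respectTransparency false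
set_option linter.style.haveILetI false

namespace Groth.SchemeMorphisms

open Groth.QCohMod (SubMod res resFun res_res res_self res_smul)

variable {X : Scheme.{u}} {M : X.Modules}

/-- A submodule whose quotient is locally nilpotent for the maximal ideal. -/
def IsCofiniteSub {R N : Type u} [CommRing R] [IsLocalRing R] [AddCommGroup N] [Module R N]
    (L : Submodule R N) : Prop :=
  ∀ a ∈ IsLocalRing.maximalIdeal R, ∀ z : N, ∃ n : ℕ, a ^ n • z ∈ L

/-- The sections with germ in the prescribed submodules at the points of a set. -/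
noncomputable def stalkSub (M : X.Modules) (S : Set X)
    (L : ∀ x : X, Submodule (X.presheaf.stalk x) (M.presheaf.stalk x)) : SubMod M where
  mem W :=
    { carrier := {s | ∀ x ∈ S, ∀ hx : x ∈ W, Groth.QCohMod.germ M x hx s ∈ L x}
      add_mem' := fun {s t} hs ht x hxS hx => by
        rw [map_add]; exact add_mem (hs x hxS hx) (ht x hxS hx)
      zero_mem' := fun x _ hx => by rw [map_zero]; exact zero_mem _
      smul_mem' := fun r s hs x hxS hx => by
        rw [Groth.QCohMod.germ_smul]; exact Submodule.smul_mem _ _ (hs x hxS hx) }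
  res_mem {W W'} h s hs x hxS hx := by
    rw [Groth.QCohMod.germ_res]; exact hs x hxS (h hx)
  local_mem {W} s hs x hxS hx := by
    obtain ⟨W', h, hxW', hs'⟩ := hs x hx
    have := hs' x hxS hxW'
    rwa [Groth.QCohMod.germ_res] at this

theorem mem_stalkSub {S : Set X} {L : ∀ x : X, Submodule (X.presheaf.stalk x) (M.presheaf.stalk x)}
    {W : X.Opens} (s : Γ(M, W)) :
    s ∈ (stalkSub M S L).mem W ↔ ∀ x ∈ S, ∀ hx : x ∈ W, Groth.QCohMod.germ M x hx s ∈ L x :=
  Iff.rfl

/-- The inclusion of the subsheaf of a larger set of points into that of a smaller one. -/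
noncomputable def stalkSubIncl {S T : Set X} (h : T ⊆ S)
    (L : ∀ x : X, Submodule (X.presheaf.stalk x) (M.presheaf.stalk x)) :
    (stalkSub M S L).toMod ⟶ (stalkSub M T L).toMod :=
  ⟨PresheafOfModules.homMk
    { app := fun W => AddCommGrpCat.ofHom
        (AddMonoidHom.mk' (fun s => ⟨s.1, fun x hx => s.2 x (h hx)⟩) fun _ _ => rfl)
      naturality := fun _ _ _ => rfl }
    (fun _ _ _ => rfl)⟩

theorem stalkSubIncl_ι {S T : Set X} (h : T ⊆ S)
    (L : ∀ x : X, Submodule (X.presheaf.stalk x) (M.presheaf.stalk x)) :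
    stalkSubIncl h L ≫ (stalkSub M T L).ι = (stalkSub M S L).ι := by
  ext W s
  rfl

instance {S T : Set X} (h : T ⊆ S)
    (L : ∀ x : X, Submodule (X.presheaf.stalk x) (M.presheaf.stalk x)) : Mono (stalkSubIncl h L) :=
  mono_of_mono_fac (stalkSubIncl_ι h L)

/-- Submodules of finite colength at each point of a finite set cut out a coherent subsheaf. -/
theorem isCoh_stalkSub [IsLocallyNoetherian X] (hM : Coh.IsCoh M) {S : Set X} (hS : S.Finite)
    {L : ∀ x : X, Submodule (X.presheaf.stalk x) (M.presheaf.stalk x)}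
    (hL : ∀ x ∈ S, IsCofiniteSub (L x)) :
    Coh.IsCoh (stalkSub M S L).toMod := by
  classical
  have := hM.1
  refine SubMod.isQCoh_toMod fun x _ => ?_
  obtain ⟨_, ⟨A, hA, rfl⟩, hxA, -⟩ :=
    X.isBasis_affineOpens.exists_subset_of_mem_open (Set.mem_univ x) isOpen_univ
  replace hA : IsAffineOpen A := hA
  refine ⟨A, le_top, hxA, hA, ?_, fun f s hs => ?_⟩
  · have := isNoetherianRing_section hA
    have := Groth.QCohMod.finite_sections M hM.2 hA
    exact IsNoetherian.noetherian _
  obtain ⟨n, t, ht⟩ := Groth.QCohMod.exists_pow_smul_eq_res M hA f s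
  have key : ∀ y : X, ∃ k : ℕ, ∀ j, k ≤ j → y ∈ S → ∀ hy : y ∈ A,
      Groth.QCohMod.germ M y hy (f ^ j • t) ∈ L y := by
    intro y
    by_cases h : y ∈ S ∧ y ∈ A
    · obtain ⟨hyS, hy⟩ := h
      by_cases hyf : y ∈ X.basicOpen f
      · refine ⟨0, fun j _ _ _ => ?_⟩
        rw [Groth.QCohMod.germ_smul]
        refine Submodule.smul_mem _ _ ?_
        rw [← Groth.QCohMod.germ_res M (X.basicOpen_le f) y hyf, ht, Groth.QCohMod.germ_smul]
        exact Submodule.smul_mem _ _ (hs y hyS hyf)
      · obtain ⟨k, hk⟩ := hL y hyS (X.presheaf.germ A y hy f)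
          ((IsLocalRing.mem_maximalIdeal _).mpr fun hu => hyf ((Scheme.mem_basicOpen X f y hy).mpr hu))
          (Groth.QCohMod.germ M y hy t)
        refine ⟨k, fun j hj _ _ => ?_⟩
        rw [Groth.QCohMod.germ_smul, map_pow, ← Nat.sub_add_cancel hj, pow_add, mul_smul]
        exact Submodule.smul_mem _ _ hk
    · exact ⟨0, fun j _ hyS hy => absurd ⟨hyS, hy⟩ h⟩
  choose k hk using key
  refine ⟨hS.toFinset.sup k + n, f ^ hS.toFinset.sup k • t, fun y hyS hy =>
    hk y _ (Finset.le_sup (hS.mem_toFinset.mpr hyS)) hyS hy, ?_⟩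
  rw [res_smul, ht, map_pow, ← mul_smul, ← pow_add]

/-- The only possible associated prime of a quotient cut out by the stalk at `x`. -/
theorem ass_subset_singleton_of_stalk [IsLocallyNoetherian X] {G : X.Modules} (hG : Coh.IsQCoh G)
    {x : X} (L : Submodule (X.presheaf.stalk x) (M.presheaf.stalk x))
    (hL : IsCofiniteSub L)
    (h : ∀ A : X.Opens, IsAffineOpen A → ∀ g : Γ(G, A), g ≠ 0 → ∃ (hx : x ∈ A)
      (z : M.presheaf.stalk x), ∀ r : Γ(X, A), r • g = 0 ↔ X.presheaf.germ A x hx r • z ∈ L) :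
    AssSch.Ass G ⊆ {x} := by
  intro y hy
  obtain ⟨_, ⟨A, hA, rfl⟩, hyA, -⟩ :=
    X.isBasis_affineOpens.exists_subset_of_mem_open (Set.mem_univ y) isOpen_univ
  replace hA : IsAffineOpen A := hA
  have := isNoetherianRing_section hA
  obtain ⟨hp, g, hg⟩ := isAssociatedPrime_iff.mp ((mem_ass_iff hG hA hyA).mp hy)
  have hmem : ∀ r : Γ(X, A), r ∈ (hA.primeIdealOf ⟨y, hyA⟩).asIdeal ↔ r • g = 0 := fun r => by
    rw [hg, Submodule.mem_colon_singleton, Submodule.mem_bot]
  have hg0 : g ≠ 0 := fun h0 =>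
    hp.ne_top ((Ideal.eq_top_iff_one _).mpr ((hmem 1).mpr (by rw [h0, smul_zero])))
  obtain ⟨hxA, z, hz⟩ := h A hA g hg0
  have hz0 : z ∉ L := fun hzL => hg0 (by
    simpa using (hz 1).mpr (by rw [map_one, one_smul]; exact hzL))
  have heq : hA.primeIdealOf ⟨x, hxA⟩ = hA.primeIdealOf ⟨y, hyA⟩ := by
    refine PrimeSpectrum.ext (Ideal.ext fun r => ⟨fun hr => ?_, fun hr => ?_⟩)
    · obtain ⟨n, hn⟩ := hL (X.presheaf.germ A x hxA r) ((IsLocalRing.mem_maximalIdeal _).mpr fun hu =>
        (Groth.QCohMod.mem_basicOpen_iff_notMem_primeIdealOf hA r x hxA).mp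
          ((Scheme.mem_basicOpen X r x hxA).mpr hu) hr) z
      refine hp.mem_of_pow_mem n ((hmem _).mpr ((hz _).mpr ?_))
      rwa [map_pow]
    · by_contra hr'
      have hu := (Scheme.mem_basicOpen X r x hxA).mp
        ((Groth.QCohMod.mem_basicOpen_iff_notMem_primeIdealOf hA r x hxA).mpr hr')
      obtain ⟨v, hv⟩ := hu
      have h1 := (hz r).mp ((hmem r).mp hr)
      rw [← hv] at h1
      refine hz0 ?_
      have h2 := Submodule.smul_mem L (↑v⁻¹ : X.presheaf.stalk x) h1
      rwa [← mul_smul, Units.inv_mul, one_smul] at h2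
  have := congrArg hA.fromSpec heq
  rw [hA.fromSpec_primeIdealOf, hA.fromSpec_primeIdealOf] at this
  exact this.symm

/-- An element realising an associated prime has nonzero germ killed by the maximal ideal. -/
theorem germ_socle [M.IsQuasicoherent] {A : X.Opens} (hA : IsAffineOpen A) {x : X} (hx : x ∈ A)
    (s : Γ(M, A))
    (hs : ∀ r : Γ(X, A), r ∈ (hA.primeIdealOf ⟨x, hx⟩).asIdeal ↔ r • s = 0) :
    Groth.QCohMod.germ M x hx s ≠ 0 ∧
      ∀ a : X.presheaf.stalk x, a ∈ IsLocalRing.maximalIdeal (X.presheaf.stalk x) →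
        a • Groth.QCohMod.germ M x hx s = 0 := by
  refine ⟨fun h0 => ?_, ?_⟩
  · obtain ⟨a, ha, ha0⟩ := Groth.QCohMod.exists_smul_eq_zero_of_germ_eq_zero M hA x hx s h0
    exact (Groth.QCohMod.mem_basicOpen_iff_notMem_primeIdealOf hA a x hx).mp ha ((hs a).mpr ha0)
  · letI : Algebra Γ(X, A) (X.presheaf.stalk x) := X.presheaf.algebra_section_stalk ⟨x, hx⟩
    have : IsLocalization.AtPrime (X.presheaf.stalk x) (hA.primeIdealOf ⟨x, hx⟩).asIdeal :=
      hA.isLocalization_stalk ⟨x, hx⟩
    rw [← IsLocalization.AtPrime.map_eq_maximalIdeal (hA.primeIdealOf ⟨x, hx⟩).asIdeal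
      (X.presheaf.stalk x)]
    intro a ha
    induction ha using Submodule.span_induction with
    | mem b hb =>
      obtain ⟨r, hr, rfl⟩ := hb
      exact (Groth.QCohMod.germ_smul M x hx r s).symm.trans (by rw [(hs r).mp hr, map_zero])
    | zero => rw [zero_smul]
    | add b c _ _ hb hc => rw [add_smul, hb, hc, add_zero]
    | smul c b _ hb => rw [smul_eq_mul, mul_smul, hb, smul_zero]

/-- Artin-Rees: a submodule of finite colength meeting the socle trivially. -/
theorem exists_sub_socle {R : Type u} [CommRing R] [IsLocalRing R] [IsNoetherianRing R]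
    (N : Type u) [AddCommGroup N] [Module R N] [Module.Finite R N] :
    ∃ L : Submodule R N, IsCofiniteSub L ∧
      ∀ z ∈ L, (∀ a ∈ IsLocalRing.maximalIdeal R, a • z = 0) → z = 0 := by
  let m := IsLocalRing.maximalIdeal R
  let T : Submodule R N :=
    { carrier := {z | ∀ a ∈ m, a • z = 0}
      add_mem' := fun {u v} hu hv a ha => by rw [smul_add, hu a ha, hv a ha, add_zero]
      zero_mem' := fun a _ => smul_zero a
      smul_mem' := fun c z hz a ha => by rw [smul_comm, hz a ha, smul_zero] }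
  obtain ⟨k, hk⟩ := Ideal.exists_pow_inf_eq_pow_smul m T
  refine ⟨m ^ (k + 1) • ⊤, fun a ha z => ⟨k + 1,
    Submodule.smul_mem_smul (Ideal.pow_mem_pow ha _) Submodule.mem_top⟩, fun z hz hz' => ?_⟩
  have h1 : z ∈ m ^ (k + 1) • (⊤ : Submodule R N) ⊓ T := ⟨hz, hz'⟩
  rw [hk (k + 1) (Nat.le_succ k), Nat.add_sub_cancel_left, pow_one] at h1
  refine Submodule.smul_induction_on (p := fun w => w = 0) h1 (fun a ha w hw => hw.2 a ha) ?_
  intro u v hu hv
  rw [hu, hv, add_zero]

variable [IsLocallyNoetherian X]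

/-- Submodules of the stalks separating the sections at the associated points. -/
theorem exists_stalkSub_family (hM : Coh.IsCoh M) :
    ∃ L : ∀ x : X, Submodule (X.presheaf.stalk x) (M.presheaf.stalk x),
      (∀ x : X, IsCofiniteSub (L x)) ∧
      (∀ x ∈ AssSch.Ass M, L x ≠ ⊤) ∧
      ∀ (W : X.Opens) (s : Γ(M, W)), s ∈ (stalkSub M (AssSch.Ass M) L).mem W → s = 0 := by
  have := hM.1
  have h : ∀ x : X, ∃ L : Submodule (X.presheaf.stalk x) (M.presheaf.stalk x),
      IsCofiniteSub L ∧
      ∀ z ∈ L, (∀ a : X.presheaf.stalk x, a ∈ IsLocalRing.maximalIdeal (X.presheaf.stalk x) →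
        a • z = 0) → z = 0 := fun x => by
    have := Groth.QCohMod.finite_stalk M hM.2 x
    exact exists_sub_socle _
  choose L hL hsoc using h
  refine ⟨L, hL, fun x hx htop => ?_, fun W s hs => ?_⟩
  · obtain ⟨_, ⟨A, hA, rfl⟩, hxA, -⟩ :=
      X.isBasis_affineOpens.exists_subset_of_mem_open (Set.mem_univ x) isOpen_univ
    replace hA : IsAffineOpen A := hA
    have := isNoetherianRing_section hA
    obtain ⟨hp, w, hw⟩ := isAssociatedPrime_iff.mp ((mem_ass_iff hM.1 hA hxA).mp hx)
    obtain ⟨h1, h2⟩ := germ_socle hA hxA w fun r => by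
      rw [hw, Submodule.mem_colon_singleton, Submodule.mem_bot]
    exact h1 (hsoc x _ (htop ▸ Submodule.mem_top) h2)
  · refine Groth.CohTwo.eq_of_local M _ _ fun y hy => ?_
    obtain ⟨_, ⟨A, hA, rfl⟩, hyA, hAW⟩ :=
      X.isBasis_affineOpens.exists_subset_of_mem_open hy W.isOpen
    replace hA : IsAffineOpen A := hA
    refine ⟨A, hAW, hyA, ?_⟩
    rw [map_zero]
    have := isNoetherianRing_section hA
    set t := res M hAW s with ht
    by_contra h0
    have : Nontrivial (Submodule.span Γ(X, A) {t}) :=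
      nontrivial_of_ne ⟨t, Submodule.mem_span_singleton_self t⟩ 0 fun e =>
        h0 (congrArg Subtype.val e)
    obtain ⟨p, hp⟩ := associatedPrimes.nonempty Γ(X, A) (Submodule.span Γ(X, A) {t})
    obtain ⟨hp', w, hw⟩ := isAssociatedPrime_iff.mp hp
    let q : Spec Γ(X, A) := ⟨p, hp'⟩
    have hmem : ∀ r : Γ(X, A), r ∈ p ↔ r • (w : Γ(M, A)) = 0 := fun r => by
      rw [hw, Submodule.mem_colon_singleton, Submodule.mem_bot, ← Submodule.coe_smul,
        Submodule.coe_eq_zero]
    have hxA := fromSpec_mem hA q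
    have hass : hA.fromSpec q ∈ AssSch.Ass M := fromSpec_mem_ass hM.1 hA q
      (isAssociatedPrime_iff.mpr ⟨hp', w.1, Ideal.ext fun r => by
        rw [Submodule.mem_colon_singleton, Submodule.mem_bot]; exact hmem r⟩)
    obtain ⟨h1, h2⟩ := germ_socle hA hxA w.1 fun r => by
      rw [primeIdealOf_fromSpec]; exact hmem r
    obtain ⟨c, hc⟩ := Submodule.mem_span_singleton.mp w.2
    refine h1 (hsoc _ _ ?_ h2)
    rw [← hc, Groth.QCohMod.germ_smul, ht, Groth.QCohMod.germ_res]
    exact Submodule.smul_mem _ _ (hs _ hass (hAW hxA))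

variable {L : ∀ x : X, Submodule (X.presheaf.stalk x) (M.presheaf.stalk x)}
  (hL : ∀ x : X, IsCofiniteSub (L x))

include hL in
/-- The quotient of consecutive subsheaves has at most one associated point. -/
theorem ass_cokernel_incl (hM : Coh.IsCoh M) {T : Set X} (hT : T.Finite) (x : X) :
    AssSch.Ass (cokernel (stalkSubIncl (T := T) (Set.subset_insert x T) L)) ⊆ {x} := by
  have hcT := isCoh_stalkSub (L := L) hM hT fun y _ => hL y
  have hcS := isCoh_stalkSub (L := L) hM (hT.insert x) fun y _ => hL y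
  have := hcS.1
  set i := stalkSubIncl (T := T) (Set.subset_insert x T) L
  have hG := (Groth.QCohMod.isCoh_cokernel i hcT).1
  have := hcT.1
  refine ass_subset_singleton_of_stalk hG (L x) (hL x) fun A hA g hg => ?_
  obtain ⟨t, rfl⟩ := Groth.QCohMod.app_surjective_of_epi (cokernel.π i) hA g
  let t' : (stalkSub M T L).mem A := t
  have hker : ∀ u : Γ((stalkSub M T L).toMod, A), (cokernel.π i).app A u = 0 ↔
      ∀ hx : x ∈ A, Groth.QCohMod.germ M x hx ((stalkSub M T L).ι.app A u) ∈ L x := by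
    intro u
    constructor
    · intro h hx
      obtain ⟨v, hv⟩ := Groth.QCohMod.exists_app_eq_of_exact
        (S := ShortComplex.mk _ _ (cokernel.condition i))
        (ShortComplex.exact_of_g_is_cokernel _ (cokernelIsCokernel i)) hA u h
      rw [← hv]
      exact (v : (stalkSub M (insert x T) L).mem A).2 x (Set.mem_insert x T) hx
    · intro h
      obtain ⟨v, hv⟩ : ∃ v, i.app A v = u := by
        refine ⟨(⟨(u : (stalkSub M T L).mem A).1, fun y hy hyA => ?_⟩ :
          (stalkSub M (insert x T) L).mem A), rfl⟩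
        rcases Set.mem_insert_iff.mp hy with rfl | hy
        · exact h hyA
        · exact (u : (stalkSub M T L).mem A).2 y hy hyA
      rw [← hv]
      exact congr($(congrArg (fun φ => Scheme.Modules.Hom.app φ A) (cokernel.condition i)) v)
  have hx : x ∈ A := by
    by_contra hxA
    exact hg ((hker t).mpr fun hx => absurd hx hxA)
  refine ⟨hx, Groth.QCohMod.germ M x hx ((stalkSub M T L).ι.app A t), fun r => ?_⟩
  rw [← Scheme.Modules.Hom.app_smul, hker, Scheme.Modules.Hom.app_smul]
  simp only [Groth.QCohMod.germ_smul]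
  exact ⟨fun h => h hx, fun h _ => h⟩

omit [IsLocallyNoetherian X] in
theorem isIso_ι_empty : IsIso (stalkSub M ∅ L).ι := by
  refine Groth.QCohMod.isIso_of_affine_bijective _ fun U _ =>
    ⟨(stalkSub M ∅ L).ι_app_injective U, fun s => ?_⟩
  exact (stalkSub M ∅ L).exists_ι_app_eq s fun y hy => absurd hy (Set.notMem_empty y)

theorem ass_eq_of_iso {F G : X.Modules} (e : F ≅ G) (hG : Coh.IsQCoh G) :
    AssSch.Ass F = AssSch.Ass G := by
  have hF : Coh.IsQCoh F := (Groth.QCohMod.isQCoh_iff_of_iso e).mpr hG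
  ext x
  obtain ⟨_, ⟨A, hA, rfl⟩, hxA, -⟩ :=
    X.isBasis_affineOpens.exists_subset_of_mem_open (Set.mem_univ x) isOpen_univ
  rw [mem_ass_iff hF hA hxA, mem_ass_iff hG hA hxA]
  refine Iff.of_eq (congrArg (fun S => (hA.primeIdealOf ⟨x, hxA⟩).asIdeal ∈ S) (LinearEquiv.AssociatedPrimes.eq
    { Groth.QCohMod.appₗ e.hom A with
      invFun := e.inv.app A
      left_inv := fun s => congr($(congrArg (fun φ => Scheme.Modules.Hom.app φ A) e.hom_inv_id) s)
      right_inv := fun s =>
        congr($(congrArg (fun φ => Scheme.Modules.Hom.app φ A) e.inv_hom_id) s) }))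

omit [IsLocallyNoetherian X] in
theorem isZero_of_ass_empty {F : X.Modules} (hF : Coh.IsQCoh F) (h : AssSch.Ass F = ∅) :
    IsZero F := by
  have hs : ∀ (W : X.Opens) (s : Γ(F, W)), s = 0 := fun W s => by
    refine TopCat.Presheaf.section_ext ⟨F.presheaf, F.isSheaf⟩ _ _ 0 fun y hy => ?_
    by_contra hne
    obtain ⟨z, hz, -⟩ := exists_ass_specializes hF (y := y) fun hsub => hne (hsub.elim _ _)
    rw [h] at hz
    exact hz
  rw [IsZero.iff_id_eq_zero]
  ext W s
  exact (hs W _).trans (hs W _).symm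

omit [IsLocallyNoetherian X] in
theorem exists_germ_not_mem (hM : Coh.IsQCoh M) {x : X} (hx : L x ≠ ⊤) :
    ∃ (A : X.Opens) (_ : IsAffineOpen A) (hxA : x ∈ A) (s : Γ(M, A)),
      Groth.QCohMod.germ M x hxA s ∉ L x := by
  have : M.IsQuasicoherent := hM
  obtain ⟨z, hz⟩ : ∃ z, z ∉ L x := by
    by_contra hne
    simp only [not_exists, not_not] at hne
    exact hx (eq_top_iff.mpr fun z _ => hne z)
  obtain ⟨W, hxW, s, rfl⟩ := Groth.QCohMod.exists_germ M x z
  obtain ⟨_, ⟨A, hA, rfl⟩, hxA, hAW⟩ :=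
    X.isBasis_affineOpens.exists_subset_of_mem_open hxW W.isOpen
  exact ⟨A, hA, hxA, res M hAW s, by rwa [Groth.QCohMod.germ_res]⟩

/-- Primary decomposition of a coherent module. -/
theorem exists_decomposition (hM : Coh.IsCoh M) :
    ∃ (G : AssSch.Ass M → X.Modules) (q : ∀ x, M ⟶ G x),
      (∀ x, Epi (q x)) ∧ (∀ x, Coh.IsCoh (G x)) ∧ (∀ x, AssSch.Ass (G x) = {x.1}) ∧
        ∀ (T : X.Modules) (a b : T ⟶ M), (∀ x, a ≫ q x = b ≫ q x) → a = b := by
  obtain ⟨L, hL, htop, hsep⟩ := exists_stalkSub_family hM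
  have hcoh : ∀ x : X, Coh.IsCoh (stalkSub M {x} L).toMod := fun x =>
    isCoh_stalkSub hM (Set.finite_singleton x) fun y _ => hL y
  refine ⟨fun x => cokernel (stalkSub M {x.1} L).ι, fun x => cokernel.π _, fun x => inferInstance,
    fun x => ?_, fun x => ?_, fun T a b h => ?_⟩
  · have := (hcoh x.1).1
    exact Groth.QCohMod.isCoh_cokernel _ hM
  · have := (hcoh x.1).1
    have := hM.1
    have hG := (Groth.QCohMod.isCoh_cokernel (stalkSub M {x.1} L).ι hM).1
    have hker : ∀ {A : X.Opens}, IsAffineOpen A → ∀ s : Γ(M, A),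
        (cokernel.π (stalkSub M {x.1} L).ι).app A s = 0 ↔
          ∀ hx : x.1 ∈ A, Groth.QCohMod.germ M x.1 hx s ∈ L x.1 := by
      intro A hA s
      constructor
      · intro h hx
        obtain ⟨v, hv⟩ := Groth.QCohMod.exists_app_eq_of_exact
          (S := ShortComplex.mk _ _ (cokernel.condition (stalkSub M {x.1} L).ι))
          (ShortComplex.exact_of_g_is_cokernel _ (cokernelIsCokernel _)) hA s h
        rw [← hv]
        exact ((stalkSub M {x.1} L).ι_app_mem v) x.1 rfl hx
      · intro h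
        obtain ⟨v, hv⟩ := (stalkSub M {x.1} L).exists_ι_app_eq s fun y hy hyA => by
          obtain rfl := Set.mem_singleton_iff.mp hy
          exact h hyA
        rw [← hv]
        exact congr($(congrArg (fun φ => Scheme.Modules.Hom.app φ A) (cokernel.condition _)) v)
    have hsub : AssSch.Ass (cokernel (stalkSub M {x.1} L).ι) ⊆ {x.1} := by
      refine ass_subset_singleton_of_stalk hG (L x.1) (hL x.1) fun A hA g hg => ?_
      obtain ⟨t, rfl⟩ := Groth.QCohMod.app_surjective_of_epi
        (cokernel.π (stalkSub M {x.1} L).ι) hA g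
      have hx : x.1 ∈ A := by
        by_contra hxA
        exact hg ((hker hA t).mpr fun hx => absurd hx hxA)
      refine ⟨hx, Groth.QCohMod.germ M x.1 hx t, fun r => ?_⟩
      rw [← Scheme.Modules.Hom.app_smul, hker hA]
      simp only [Groth.QCohMod.germ_smul]
      exact ⟨fun h => h hx, fun h _ => h⟩
    refine (Set.subset_singleton_iff_eq.mp hsub).resolve_left fun h => ?_
    obtain ⟨A, hA, hxA, s, hs⟩ := exists_germ_not_mem hM.1 (htop x.1 x.2)
    have hz := isZero_of_ass_empty hG h
    refine hs ((hker hA s).mp ?_ hxA)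
    rw [hz.eq_of_tgt (cokernel.π _) 0]
    rfl
  · have := hM.1
    ext W s
    refine sub_eq_zero.mp (hsep W _ fun y hy hyW => ?_)
    have h0 : (cokernel.π (stalkSub M {y} L).ι).app W (a.app W s - b.app W s) = 0 := by
      rw [map_sub, sub_eq_zero]
      exact congr($(congrArg (fun φ => Scheme.Modules.Hom.app φ W) (h ⟨y, hy⟩)) s)
    obtain ⟨_, ⟨A, hA, rfl⟩, hyA, hAW⟩ :=
      X.isBasis_affineOpens.exists_subset_of_mem_open hyW W.isOpen
    have := (hcoh y).1
    obtain ⟨v, hv⟩ := Groth.QCohMod.exists_app_eq_of_exact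
      (S := ShortComplex.mk _ _ (cokernel.condition (stalkSub M {y} L).ι))
      (ShortComplex.exact_of_g_is_cokernel _ (cokernelIsCokernel _)) hA
      (res M hAW (a.app W s - b.app W s))
      (by rw [← Groth.QCohMod.res_app]; rw [h0, map_zero])
    have := ((stalkSub M {y} L).ι_app_mem v) y rfl hyA
    rw [hv, Groth.QCohMod.germ_res] at this
    exact this

/-- A filtration of a coherent module with coprimary quotients. -/
theorem exists_filtration {X : Scheme.{u}} [IsNoetherian X] (M : X.Modules) (hM : Coh.IsCoh M) :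
    ∃ (n : ℕ) (F : Fin (n + 1) → Subobject M) (hF : Antitone F),
      F 0 = ⊤ ∧ F (Fin.last n) = ⊥ ∧ (∀ j, Coh.IsCoh ((F j : Subobject M) : X.Modules)) ∧
        ∀ i : Fin n,
          IsZero (cokernel (Subobject.ofLE (F i.succ) (F i.castSucc) (hF (Fin.castSucc_lt_succ (i := i)).le))) ∨
            ∃ x ∈ AssSch.Ass M,
              AssSch.Ass (cokernel (Subobject.ofLE (F i.succ) (F i.castSucc) (hF (Fin.castSucc_lt_succ (i := i)).le))) = {x} := by
  classical
  obtain ⟨L, hL, -, hsep⟩ := exists_stalkSub_family hM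
  have hfin : (AssSch.Ass M).Finite := by
    obtain ⟨S, hSfin, hS⟩ := isCompact_and_isOpen_iff_finite_and_eq_biUnion_affineOpens.mp
      ⟨(isCompact_univ : IsCompact (Set.univ : Set X)), isOpen_univ⟩
    refine (hSfin.biUnion fun U _ => finite_ass_inter hM U.2).subset fun x hx => ?_
    obtain ⟨U, hU, hxU⟩ := Set.mem_iUnion₂.mp (hS.le (Set.mem_univ x))
    exact Set.mem_iUnion₂.mpr ⟨U, hU, hx, hxU⟩
  let n := hfin.toFinset.card
  let e := hfin.toFinset.equivFin
  let pt : Fin n → X := fun i => (e.symm i).1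
  let T : Fin (n + 1) → Set X := fun j => pt '' {i | i.1 < j.1}
  have hTfin : ∀ j, (T j).Finite := fun j => (Set.toFinite _).image _
  have hmono : ∀ {i j : Fin (n + 1)}, i ≤ j → T i ⊆ T j := fun {i j} h =>
    Set.image_mono fun k (hk : k.1 < i.1) => show k.1 < j.1 from lt_of_lt_of_le hk (Fin.le_def.mp h)
  have hcoh : ∀ j, Coh.IsCoh (stalkSub M (T j) L).toMod := fun j =>
    isCoh_stalkSub hM (hTfin j) fun y _ => hL y
  let F : Fin (n + 1) → Subobject M := fun j => Subobject.mk (stalkSub M (T j) L).ι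
  have hF : Antitone F := fun i j h =>
    Subobject.mk_le_mk_of_comm (stalkSubIncl (hmono h) L) (stalkSubIncl_ι _ L)
  refine ⟨n, F, hF, ?_, ?_, fun j => ?_, fun i => ?_⟩
  · have : T 0 = ∅ := by simp [T]
    have h0 : IsIso (stalkSub M (T 0) L).ι := by rw [this]; exact isIso_ι_empty
    exact (Subobject.isIso_iff_mk_eq_top _).mp h0
  · have : T (Fin.last n) = AssSch.Ass M := by
      refine (Set.Subset.antisymm ?_ fun x hx => ?_)
      · rintro _ ⟨i, -, rfl⟩
        exact hfin.mem_toFinset.mp (e.symm i).2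
      · exact ⟨e ⟨x, hfin.mem_toFinset.mpr hx⟩, (e _).2, by simp [pt]⟩
    refine Subobject.mk_eq_bot_iff_zero.mpr ?_
    ext W s
    refine hsep W _ ?_
    rw [← this]
    exact (stalkSub M (T (Fin.last n)) L).ι_app_mem s
  · exact Groth.QCohMod.isCoh_of_iso (Subobject.underlyingIso _).symm (hcoh j)
  · have hT' : T i.succ = insert (pt i) (T i.castSucc) := by
      ext y
      constructor
      · rintro ⟨k, hk, rfl⟩
        rcases eq_or_ne k i with rfl | hne
        · exact Set.mem_insert _ _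
        · exact Set.mem_insert_of_mem _ ⟨k, lt_of_le_of_ne (Nat.lt_succ_iff.mp hk)
            (fun h => hne (Fin.ext h)), rfl⟩
      · rintro (rfl | ⟨k, hk, rfl⟩)
        · exact ⟨i, Nat.lt_succ_self _, rfl⟩
        · exact ⟨k, Nat.lt_succ_of_lt hk, rfl⟩
    have hsub : T i.castSucc ⊆ T i.succ := hmono (Fin.castSucc_lt_succ (i := i)).le
    have hA : AssSch.Ass (cokernel (stalkSubIncl hsub L)) ⊆ {pt i} := by
      have key : ∀ (S : Set X) (hS : S = insert (pt i) (T i.castSucc)) (hsub : T i.castSucc ⊆ S),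
          AssSch.Ass (cokernel (stalkSubIncl hsub L)) ⊆ {pt i} := by
        intro S hS hsub
        subst hS
        exact ass_cokernel_incl hL hM (hTfin _) (pt i)
      exact key _ hT' hsub
    have heq : Subobject.ofLE (F i.succ) (F i.castSucc) (hF (Fin.castSucc_lt_succ (i := i)).le) =
        (Subobject.underlyingIso _).hom ≫ stalkSubIncl hsub L ≫ (Subobject.underlyingIso _).inv :=
      Subobject.ofLE_mk_le_mk_of_comm (stalkSubIncl hsub L) (stalkSubIncl_ι _ L)
    let φ : cokernel (Subobject.ofLE (F i.succ) (F i.castSucc) (hF (Fin.castSucc_lt_succ (i := i)).le)) ≅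
        cokernel (stalkSubIncl hsub L) :=
      cokernel.mapIso _ _ (Subobject.underlyingIso _) (Subobject.underlyingIso _) (by
        rw [heq]; simp [F])
    have hq : Coh.IsQCoh (cokernel (stalkSubIncl hsub L)) := by
      have := (hcoh i.succ).1
      exact (Groth.QCohMod.isCoh_cokernel _ (hcoh i.castSucc)).1
    rcases Set.subset_singleton_iff_eq.mp hA with h | h
    · exact Or.inl ((isZero_of_ass_empty hq h).of_iso φ)
    · exact Or.inr ⟨pt i, hfin.mem_toFinset.mp (e.symm i).2, (ass_eq_of_iso φ hq).trans h⟩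

end Groth.SchemeMorphisms
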