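import Groth.Agent.SchemeMorphisms.AssRestrict
import Groth.Agent.SchemeMorphisms.AssFiltration
import Groth.Agent.CohTwo.HomNhd
import Mathlib.AlgebraicGeometry.IdealSheaf.Subscheme

/-!
Associated points through monomorphisms from the structure sheaf of a reduced closure.
-/

universe u

open CategoryTheory Limits AlgebraicGeometry TopologicalSpace Opposite

set_option backward.isDefEq.respectTransparency false
set_option linter.style.haveILetI false

namespace Groth.SchemeMorphisms

variable {X : Scheme.{u}}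

/-- The structure sheaf of the reduced closure of a point, as a module on the ambient scheme. -/
noncomputable abbrev closureMod (x : X) : X.Modules :=
  (Scheme.Modules.pushforward
      (Scheme.IdealSheafData.vanishingIdeal ⟨closure {x}, isClosed_closure⟩).subschemeι).obj
    (Coh.structureModule (Scheme.IdealSheafData.vanishingIdeal ⟨closure {x}, isClosed_closure⟩).subscheme)

theorem isQCoh_closureMod (x : X) : Coh.IsQCoh (closureMod x) :=
  Groth.QCohMod.isQCoh_pushforward
    (M := Coh.structureModule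
      (Scheme.IdealSheafData.vanishingIdeal ⟨closure {x}, isClosed_closure⟩).subscheme)
    (Scheme.IdealSheafData.vanishingIdeal ⟨closure {x}, isClosed_closure⟩).subschemeι

theorem vanishingIdeal_closure_ideal {x : X} {V : X.Opens} (hV : IsAffineOpen V) (hx : x ∈ V) :
    (Scheme.IdealSheafData.vanishingIdeal ⟨closure {x}, isClosed_closure⟩).ideal ⟨V, hV⟩ =
      (hV.primeIdealOf ⟨x, hx⟩).asIdeal := by
  rw [Scheme.IdealSheafData.vanishingIdeal_ideal]
  change PrimeSpectrum.vanishingIdeal (hV.fromSpec ⁻¹' closure {x}) = _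
  have h : hV.fromSpec ⁻¹' closure {x} = closure {hV.primeIdealOf ⟨x, hx⟩} := by
    rw [hV.fromSpec.isOpenEmbedding.isInducing.closure_eq_preimage_closure_image,
      Set.image_singleton, hV.fromSpec_primeIdealOf]
  rw [h, PrimeSpectrum.vanishingIdeal_closure, PrimeSpectrum.vanishingIdeal_singleton]

/-- Over an affine open through `x` the sections are generated by one element with annihilator the
prime of `x`. -/
theorem closureMod_sections {x : X} {V : X.Opens} (hV : IsAffineOpen V) (hx : x ∈ V) :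
    ∃ e : Γ(closureMod x, V),
      Function.Surjective (fun r : Γ(X, V) => r • e) ∧
      ∀ r : Γ(X, V), r • e = 0 ↔ r ∈ (hV.primeIdealOf ⟨x, hx⟩).asIdeal := by
  set I := Scheme.IdealSheafData.vanishingIdeal ⟨closure ({x} : Set X), isClosed_closure⟩
  let e : Γ(closureMod x, V) := show Γ(I.subscheme, I.subschemeι ⁻¹ᵁ V) from 1
  have he : ∀ r : Γ(X, V), (show Γ(I.subscheme, I.subschemeι ⁻¹ᵁ V) from r • e) =
      I.subschemeι.app V r := fun r => mul_one _
  refine ⟨e, fun t => ?_, fun r => ?_⟩
  · obtain ⟨r, hr⟩ := I.subschemeι.app_surjective V hV (show Γ(I.subscheme, I.subschemeι ⁻¹ᵁ V) from t)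
    exact ⟨r, (he r).trans hr⟩
  · rw [← vanishingIdeal_closure_ideal hV hx, ← congrArg (fun J => J.ideal ⟨V, hV⟩)
      (Scheme.IdealSheafData.ker_subschemeι I)]
    rw [Scheme.Hom.ker_apply, RingHom.mem_ker]
    exact ⟨fun h => (he r).symm.trans h, fun h => (he r).trans h⟩

theorem ass_subset_of_mono [IsLocallyNoetherian X] {F G : X.Modules} (φ : F ⟶ G) [Mono φ]
    (hF : Coh.IsQCoh F) (hG : Coh.IsQCoh G) : AssSch.Ass F ⊆ AssSch.Ass G := by
  intro x hx
  obtain ⟨_, ⟨U, hU, rfl⟩, hxU, -⟩ :=
    X.isBasis_affineOpens.exists_subset_of_mem_open (Set.mem_univ x) isOpen_univ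
  exact (mem_ass_iff hG hU hxU).mpr (associatedPrimes.subset_of_injective
    (f := Groth.QCohMod.appₗ φ U) (Groth.QCohMod.app_injective_of_mono φ U)
    ((mem_ass_iff hF hU hxU).mp hx))

theorem mem_ass_closureMod [IsLocallyNoetherian X] (x : X) : x ∈ AssSch.Ass (closureMod x) := by
  obtain ⟨_, ⟨V, hV, rfl⟩, hxV, -⟩ :=
    X.isBasis_affineOpens.exists_subset_of_mem_open (Set.mem_univ x) isOpen_univ
  replace hV : IsAffineOpen V := hV
  have := isNoetherianRing_section hV
  obtain ⟨e, -, he⟩ := closureMod_sections hV hxV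
  rw [mem_ass_iff (isQCoh_closureMod x) hV hxV]
  refine isAssociatedPrime_iff.mpr ⟨inferInstance, e, Ideal.ext fun r => ?_⟩
  rw [Submodule.mem_colon_singleton, Submodule.mem_bot]
  exact (he r).symm

/-- A quasi-coherent module without nonzero sections over an affine scheme vanishes. -/
theorem eq_zero_of_sections_affine {K : X.Modules} [K.IsQuasicoherent] {O : X.Opens}
    (hO : IsAffineOpen O) (hOtop : O = ⊤) (h : ∀ s : Γ(K, O), s = 0) (W : X.Opens) (s : Γ(K, W)) :
    s = 0 := by
  refine TopCat.Presheaf.section_ext ⟨K.presheaf, K.isSheaf⟩ _ _ 0 fun y hy => ?_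
  have hyO : y ∈ O := hOtop ▸ Opens.mem_top y
  obtain ⟨a, m, ha, hm⟩ := Groth.QCohMod.exists_smul_germ_eq K hO y hyO (K.presheaf.germ W y hy s)
  rw [h m, map_zero] at hm
  erw [map_zero]
  exact ((Scheme.mem_basicOpen X a y hyO).mp ha).smul_eq_zero.mp hm

theorem mem_ass_iff_exists_mono [IsLocallyNoetherian X] (F : X.Modules) (hF : Coh.IsQCoh F) (x : X) :
    x ∈ AssSch.Ass F ↔ ∃ (U : X.Opens), x ∈ U ∧
      ∃ φ : (Scheme.Modules.pullback U.ι).obj (closureMod x) ⟶
            (Scheme.Modules.pullback U.ι).obj F, Mono φ := by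
  have hG := isQCoh_closureMod x
  have : F.IsQuasicoherent := hF
  have : (closureMod x).IsQuasicoherent := hG
  constructor
  · intro hx
    obtain ⟨V, hV, hxV⟩ := Groth.QCohMod.exists_affine_mem x
    have := isNoetherianRing_section hV
    obtain ⟨hp, s, hs⟩ := isAssociatedPrime_iff.mp ((mem_ass_iff hF hV hxV).mp hx)
    have hs' : ∀ r : Γ(X, V), r ∈ (hV.primeIdealOf ⟨x, hxV⟩).asIdeal ↔ r • s = 0 := fun r => by
      rw [hs, Submodule.mem_colon_singleton, Submodule.mem_bot]
    obtain ⟨e, hsurj, he⟩ := closureMod_sections hV hxV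
    let q : Γ(X, V) →ₗ[Γ(X, V)] Γ(closureMod x, V) := LinearMap.toSpanSingleton _ _ e
    have hq : Function.Surjective q := hsurj
    have hkle : LinearMap.ker q ≤ LinearMap.ker (LinearMap.toSpanSingleton Γ(X, V) Γ(F, V) s) :=
      fun r hr => (hs' r).mp ((he r).mp hr)
    let g : Γ(closureMod x, V) →ₗ[Γ(X, V)] Γ(F, V) :=
      ((LinearMap.ker q).liftQ (LinearMap.toSpanSingleton _ _ s) hkle) ∘ₗ (q.quotKerEquivOfSurjective hq).symm.toLinearMap
    have hg : ∀ r : Γ(X, V), g (r • e) = r • s := fun r => by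
      change Submodule.liftQ _ _ hkle ((q.quotKerEquivOfSurjective hq).symm (q r)) = _
      rw [show (q.quotKerEquivOfSurjective hq).symm (q r) = Submodule.Quotient.mk r from
        (LinearEquiv.symm_apply_eq _).mpr rfl]
      rfl
    have hginj : Function.Injective g := by
      refine (injective_iff_map_eq_zero g).mpr fun a ha => ?_
      obtain ⟨r, rfl⟩ := hsurj a
      exact (he r).mpr ((hs' r).mpr ((hg r).symm.trans ha))
    obtain ⟨φ, hφ⟩ := Groth.CohTwo.exists_hom_of_sections (closureMod x) F hV g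
    have : ((closureMod x).restrict V.ι).IsQuasicoherent :=
      Scheme.Modules.isQuasicoherent_restrictFunctor _ _
    have : (F.restrict V.ι).IsQuasicoherent := Scheme.Modules.isQuasicoherent_restrictFunctor _ _
    have hmono : Mono φ := by
      refine Preadditive.mono_of_kernel_zero ?_
      ext W t
      have hOtop : V.ι ⁻¹ᵁ V = ⊤ := Scheme.Opens.ι_preimage_self V
      have hO : IsAffineOpen (V.ι ⁻¹ᵁ V) := hOtop ▸ (haveI : IsAffine (V : Scheme.{u}) := hV
        isAffineOpen_top _)
      have h0 := eq_zero_of_sections_affine (K := kernel φ) hO hOtop (fun u => ?_) W t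
      · rw [h0, map_zero]; rfl
      refine Groth.QCohMod.app_injective_of_mono (kernel.ι φ) _ ?_
      rw [map_zero]
      let w : Γ(closureMod x, V.ι ''ᵁ (V.ι ⁻¹ᵁ V)) := (kernel.ι φ).app _ u
      have hle : V ≤ V.ι ''ᵁ (V.ι ⁻¹ᵁ V) := by
        rw [Scheme.Hom.image_preimage_eq_opensRange_inf, Scheme.Opens.opensRange_ι, inf_idem]
      let a : Γ(closureMod x, V) := Groth.CohTwo.res (closureMod x) hle w
      have ha : g a = 0 := by
        rw [← hφ]
        unfold Groth.CohTwo.appOn
        have h1 : φ.app (V.ι ⁻¹ᵁ V) ((kernel.ι φ).app _ u) = 0 :=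
          congr($(congrArg (fun ψ => Scheme.Modules.Hom.app ψ (V.ι ⁻¹ᵁ V)) (kernel.condition φ)) u)
        rw [show Groth.CohTwo.res (closureMod x) (V.ι.image_preimage_le V) a = w from
          (Groth.CohTwo.res_res _ _ _ _).trans (by exact Groth.QCohMod.res_self _ _)]
        erw [h1, map_zero]
      have ha0 : a = 0 := hginj (ha.trans (map_zero g).symm)
      change w = 0
      rw [← show Groth.CohTwo.res (closureMod x) (V.ι.image_preimage_le V) a = w from
          (Groth.CohTwo.res_res _ _ _ _).trans (by exact Groth.QCohMod.res_self _ _), ha0, map_zero]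
    refine ⟨V, hxV, ((Scheme.Modules.restrictFunctorIsoPullback V.ι).app (closureMod x)).inv ≫ φ ≫
      ((Scheme.Modules.restrictFunctorIsoPullback V.ι).app F).hom, inferInstance⟩
  · rintro ⟨U, hxU, φ, hφ⟩
    have h1 : (⟨x, hxU⟩ : (U : Scheme.{u})) ∈ AssSch.Ass ((Scheme.Modules.pullback U.ι).obj (closureMod x)) :=
      (mem_ass_pullback_iff U.ι _ _).mpr (mem_ass_closureMod x)
    have h2 := ass_subset_of_mono φ (show Coh.IsQCoh _ from inferInstance)
      (show Coh.IsQCoh _ from inferInstance) h1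
    exact (mem_ass_pullback_iff U.ι F (⟨x, hxU⟩ : (U : Scheme.{u}))).mp h2

end Groth.SchemeMorphisms
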