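import Groth.Agent.SchemeMorphisms.BlowUpBirational
import Groth.Agent.PropsBasic.AmpleSec
import Groth.Agent.PropsBasic.AmpleBasis
import Groth.Agent.PicAux.Powers

/-!
# Birational projective morphisms to a scheme with an ample module are blow-ups
-/

set_option autoImplicit false
set_option backward.isDefEq.respectTransparency.types false
set_option linter.style.haveILetI false
universe u

open CategoryTheory CategoryTheory.Limits AlgebraicGeometry TopologicalSpace

namespace Groth.BlowUpBirAmple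

open Groth.BlowUpBasics Groth.Chow Groth.BlowUpBirational

open Groth.PicAux Groth.PropsBasic.Ample in
/-- Affine charts given by sections of one power of an ample module. -/
theorem exists_charts {Y : Scheme.{u}} {M : Y.Modules} (hM : CohB1.IsAmple M) :
    ∃ (d : ℕ) (_ : 0 < d) (J : Type u) (_ : Finite J) (s : J → Γ(CohB1.tensorPow M d, ⊤)),
      (∀ j, IsAffineOpen (gloc (s j)) ∧ (gloc (s j) : Set Y).Nonempty) ∧ ∀ y, ∃ j, y ∈ gloc (s j) := by
  classical
  haveI := hM.2.1
  choose n s hy hs using hM.2.2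
  obtain ⟨t, ht⟩ := isCompact_univ.elim_finite_subcover (fun y => (CohB1.genLocus _ (s y) : Set Y))
    (fun y => (CohB1.genLocus _ (s y)).isOpen) (fun y _ => Set.mem_iUnion.2 ⟨y, hy y⟩)
  let d := ∏ y ∈ t, (n y + 1)
  have hk : ∀ y : t, ∃ k : ℕ, 0 < k ∧ (n y + 1) * k = d := fun y => by
    obtain ⟨k, hk⟩ := Finset.dvd_prod_of_mem (fun y => n y + 1) y.2
    refine ⟨k, Nat.pos_of_ne_zero fun h => ?_, hk.symm⟩
    rw [h, mul_zero] at hk
    exact (Finset.prod_pos fun y _ => Nat.succ_pos (n y)).ne' hk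
  choose k hkpos hkd using hk
  have he : ∀ y : t, ∃ σ : Γ(CohB1.tensorPow M d, ⊤), gloc σ = CohB1.genLocus _ (s y) := fun y => by
    obtain ⟨e⟩ := tensorPow_mul M (n y + 1) (k y)
    obtain ⟨e'⟩ : Nonempty (CohB1.tensorPow (CohB1.tensorPow M (n y + 1)) (k y) ≅ CohB1.tensorPow M d) :=
      ⟨e.symm ≪≫ eqToIso (by rw [hkd])⟩
    refine ⟨e'.hom.app ⊤ (powSec (gsec (s y)) (k y)), ?_⟩
    rw [gloc_map e'.hom, gloc_powSec (isInvertible_tensorPow hM.1 _) _ (hkpos y), genLocus_eq_gloc]
  choose σ hσ using he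
  refine ⟨d, Finset.prod_pos fun y _ => Nat.succ_pos (n y), t, inferInstance, σ, fun y => ⟨hσ y ▸ hs y, ⟨y, ?_⟩⟩, fun z => ?_⟩
  · rw [hσ]; exact hy y
  · obtain ⟨y, hyt, hz⟩ := Set.mem_iUnion₂.1 (ht (Set.mem_univ z))
    exact ⟨⟨y, hyt⟩, by rw [hσ]; exact hz⟩

open Groth.PicAux Groth.PropsBasic.Ample in
/-- Affine charts with one invertible family of denominators. -/
theorem exists_coverFamily {Y : Scheme.{u}} [IsIntegral Y] {M : Y.Modules} (hM : CohB1.IsAmple M)
    {κ : Type} [Finite κ] (g : κ → Y.functionField) :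
    ∃ (J : Type u) (_ : Finite J) (C : CoverFamily Y J κ) (c : J → Y.functionField),
      (∀ j, c j ≠ 0) ∧ ∀ j, ∃ _ : Nonempty (C.V j), ∀ i,
        Y.germToFunctionField (C.V j) (C.b j i) = g i * c j := by
  classical
  obtain ⟨d, -, J, hJ, s, hs, hcov⟩ := exists_charts hM
  let V : J → Y.Opens := fun j => gloc (s j)
  have hne : ∀ j, Nonempty (V j) := fun j => (hs j).2.to_subtype
  have hgp : ∀ j, genericPoint Y ∈ V j := fun j =>
    (genericPoint_specializes (hs j).2.some).mem_open (V j).2 (hs j).2.some_mem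
  obtain ⟨j0, -⟩ := hcov (genericPoint Y)
  have := functionField_isFractionRing_of_isAffineOpen Y (V j0) (hs j0).1
  obtain ⟨⟨u, hu⟩, hug⟩ :=
    IsLocalization.exist_integer_multiples_of_finite (nonZeroDivisors Γ(Y, V j0)) g
  choose h hh using hug
  have hgen : ∀ j, Gen (CohB1.tensorPow M d) (V j) (res _ le_top (s j)) := fun j => gen_gloc (s j) le_rfl
  choose R hR using fun j j' : J => (hgen j).exists_coeff le_rfl (res _ le_top (s j'))
  simp only [res_self] at hR
  let T : ∀ j : J, Γ(Y, V j) := fun j => R j j0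
  have hT : ∀ j : J, V j ⊓ V j0 = Y.basicOpen (T j) := fun j =>
    inf_comm (V j) (V j0) ▸ gloc_inf_eq_basicOpen (hgen j) (hR j j0)
  have hD : ∀ j, Y.basicOpen (T j) ≤ V j0 := fun j => (hT j).ge.trans inf_le_right
  have hDne : ∀ j, Nonempty (Y.basicOpen (T j)) := fun j => by
    rw [← hT]
    exact ⟨⟨genericPoint Y, hgp j, hgp j0⟩⟩
  have hres : ∀ (U U' : Y.Opens) [Nonempty U] [Nonempty U'] (hU : U' ≤ U) (x : Γ(Y, U)),
      Y.germToFunctionField U' (Y.presheaf.map (homOfLE hU).op x) = Y.germToFunctionField U x :=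
    fun U U' _ _ hU x => Y.presheaf.germ_res_apply (homOfLE hU) _ _ x
  have hTne : ∀ j, Y.germToFunctionField (V j) (T j) ≠ 0 := fun j hz => by
    have := (map_eq_zero_iff _ (Y.germToFunctionField_injective (V j))).1 hz
    have hemp : Y.basicOpen (T j) = ⊥ := by rw [this, Scheme.basicOpen_zero]
    obtain ⟨⟨y, hy⟩⟩ := hDne j
    rw [hemp] at hy
    exact hy
  have hext : ∀ (j : J) (x : Γ(Y, V j0)), ∃ N : ℕ, ∀ n ≥ N, ∃ z : Γ(Y, V j),
      Y.germToFunctionField (V j) z =
        Y.germToFunctionField (V j0) x * Y.germToFunctionField (V j) (T j) ^ n := by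
    intro j x
    have := (hs j).1.isLocalization_basicOpen (T j)
    obtain ⟨⟨z, ⟨_, N, rfl⟩⟩, hz⟩ :=
      IsLocalization.surj (Submonoid.powers (T j)) (Y.presheaf.map (homOfLE (hD j)).op x)
    refine ⟨N, fun n hn => ⟨z * T j ^ (n - N), ?_⟩⟩
    have := congrArg (Y.germToFunctionField (Y.basicOpen (T j))) hz
    simp only [RingHom.algebraMap_toAlgebra, map_mul, map_pow] at this
    rw [hres _ _ (hD j), hres _ _ (Y.basicOpen_le (T j)), hres _ _ (Y.basicOpen_le (T j))] at this
    rw [map_mul, map_pow, ← this, mul_assoc, ← pow_add, Nat.add_sub_cancel' hn]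
  cases nonempty_fintype κ
  cases nonempty_fintype J
  choose N0 hN using hext
  let N := Finset.univ.sup fun p : J × κ => N0 p.1 (h p.2)
  choose b hb using fun j i => hN j (h i) N (Finset.le_sup (f := fun p : J × κ => N0 p.1 (h p.2))
    (Finset.mem_univ (j, i)))
  let c : J → Y.functionField := fun j =>
    Y.germToFunctionField (V j0) u * Y.germToFunctionField (V j) (T j) ^ N
  have hbg : ∀ j i, Y.germToFunctionField (V j) (b j i) = g i * c j := by
    intro j i
    have e : algebraMap Γ(Y, V j0) Y.functionField (h i) = u • g i := hh i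
    rw [Algebra.smul_def] at e
    rw [hb]
    show Y.germToFunctionField (V j0) (h i) * _ = _
    rw [show Y.germToFunctionField (V j0) (h i) = Y.germToFunctionField (V j0) u * g i from e]
    ring
  refine ⟨J, hJ, ⟨V, fun j => (hs j).1, hcov, b, fun j j' => ?_⟩, c, fun j => mul_ne_zero ?_ (pow_ne_zero _ (hTne j)),
    fun j => ⟨hne j, hbg j⟩⟩
  · let W := V j ⊓ V j'
    have hWne : Nonempty W := ⟨⟨genericPoint Y, hgp j, hgp j'⟩⟩
    let e : Γ(Y, W) := Y.presheaf.map (homOfLE (inf_le_left : W ≤ V j)).op (R j j')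
    refine ⟨e ^ N, fun i => Y.germToFunctionField_injective W ?_⟩
    have htr : Y.germToFunctionField (V j) (T j) =
        Y.germToFunctionField W e * Y.germToFunctionField (V j') (T j') := by
      rw [← hres (V j) W inf_le_left, ← hres (V j') W inf_le_right, ← map_mul]
      refine congrArg _ (((hgen j).res (inf_le_left : W ≤ V j)).smul_inj le_rfl ?_)
      have e1 := congrArg (res _ (inf_le_left : W ≤ V j)) (hR j j0)
      have e2 := congrArg (res _ (inf_le_left : W ≤ V j)) (hR j j')
      have e3 := congrArg (res _ (inf_le_right : W ≤ V j')) (hR j' j0)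
      simp only [res_smul, res_res] at e1 e2 e3 ⊢
      rw [e2, smul_smul, mul_comm] at e3
      exact e1.symm.trans e3
    rw [map_mul, map_pow, hres _ _ inf_le_left, hres _ _ inf_le_right, hbg, hbg]
    simp only [c, htr]
    ring
  · exact (map_ne_zero_iff _ (Y.germToFunctionField_injective (V j0))).2
      (mem_nonZeroDivisors_iff_ne_zero.1 hu)

/-- An isomorphism over a nonempty open is birational. -/
theorem birational_of_isIso_restrict {X Y : Scheme.{u}} [IsIntegral X] [IsIntegral Y] (f : X ⟶ Y)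
    (U : Y.Opens) (hU : (U : Set Y).Nonempty) [IsIso (f ∣_ U)] :
    f (genericPoint X) = genericPoint Y ∧ Function.Bijective (f.residueFieldMap (genericPoint X)).hom := by
  obtain ⟨⟨x, hxU⟩, hx⟩ := (f ∣_ U).surjective ⟨hU.some, hU.some_mem⟩
  have hg : genericPoint X ∈ f ⁻¹ᵁ U := (genericPoint_specializes x).mem_open (f ⁻¹ᵁ U).2 hxU
  have hgY : genericPoint Y ∈ U := (genericPoint_specializes hU.some).mem_open U.2 hU.some_mem
  constructor
  · obtain ⟨⟨z, hzU⟩, hz⟩ := (f ∣_ U).surjective ⟨genericPoint Y, hgY⟩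
    have h1 : f z = genericPoint Y := by
      rw [← morphismRestrict_base_coe f U ⟨z, hzU⟩, hz]
    have h2 := (genericPoint_specializes z).map f.continuous
    rw [h1] at h2
    exact (h2.antisymm (genericPoint_specializes _)).eq
  · refine ⟨RingHom.injective _, fun t => ?_⟩
    have hiso : IsIso (f.stalkMap (genericPoint X)) :=
      ((MorphismProperty.isomorphisms _).arrow_mk_iso_iff (morphismRestrictStalkMap f U ⟨_, hg⟩)).1
        (inferInstanceAs (IsIso ((f ∣_ U).stalkMap ⟨_, hg⟩)))
    obtain ⟨a, rfl⟩ := X.residue_surjective _ t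
    obtain ⟨b, rfl⟩ := (ConcreteCategory.bijective_of_isIso (f.stalkMap (genericPoint X))).2 a
    exact ⟨Y.residue _ b, congr($(Scheme.residue_residueFieldMap f (genericPoint X)) b)⟩

set_option maxHeartbeats 1000000 in
/-- **Hartshorne II 7.17.** A birational projective morphism onto an integral scheme with an ample
invertible module is a blow-up. -/
theorem exists_isBlowUp {X Y : Scheme.{u}} [IsIntegral X] [IsIntegral Y]
    [CompactSpace Y] [QuasiSeparatedSpace Y] {M : Y.Modules} (hM : CohB1.IsAmple M)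
    {m : ℕ} (f : X ⟶ Y)
    (iX : X ⟶ CohB1.ProjSpaceOver m Y) [IsClosedImmersion iX] (hiX : PEmb.strMap iX = f)
    (hgen : f (genericPoint X) = genericPoint Y)
    (hbir : Function.Bijective (f.residueFieldMap (genericPoint X)).hom) :
    ∃ I : Y.IdealSheafData, BlowUp.IsBlowUp f I := by
  subst hiX
  set f := PEmb.strMap iX
  -- the map of function fields
  let sp : Y.functionField ⟶ Y.presheaf.stalk (f (genericPoint X)) :=
    Y.presheaf.stalkSpecializes (specializes_of_eq hgen)
  let F : Y.functionField ⟶ X.functionField := sp ≫ f.stalkMap (genericPoint X)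
  have hF : ∀ (V : Y.Opens) [Nonempty V] (W : X.Opens) [Nonempty W] (hle : W ≤ f ⁻¹ᵁ V) (x : Γ(Y, V)),
      F (Y.germToFunctionField V x) = X.germToFunctionField W (f.appLE V W hle x) := by
    intro V _ W _ hle x
    have hgW : genericPoint X ∈ W := by
      obtain ⟨⟨w, hw⟩⟩ := (inferInstance : Nonempty W)
      exact (genericPoint_specializes w).mem_open W.2 hw
    show f.stalkMap _ (Y.presheaf.stalkSpecializes _ (Y.presheaf.germ V (genericPoint Y) _ x)) = _
    rw [← CommRingCat.comp_apply (Y.presheaf.germ V _ _), TopCat.Presheaf.germ_stalkSpecializes,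
      Scheme.Hom.germ_stalkMap_apply f V _ (hle hgW), Scheme.Hom.appLE, CommRingCat.comp_apply]
    exact (X.presheaf.germ_res_apply (homOfLE hle) _ hgW _).symm
  have hFsurj : Function.Surjective F := by
    intro s
    have hres : Function.Injective (X.residue (genericPoint X)) :=
      RingHom.injective (R := X.functionField) (X.residue (genericPoint X)).hom
    obtain ⟨t, ht⟩ := hbir.2 (X.residue _ s)
    obtain ⟨t', rfl⟩ := Y.residue_surjective (f (genericPoint X)) t
    refine ⟨Y.presheaf.stalkSpecializes (specializes_of_eq hgen.symm) t', hres ?_⟩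
    rw [← ht]
    refine Eq.trans ?_ (congr($(Scheme.residue_residueFieldMap f (genericPoint X)) t')).symm
    show X.residue _ (f.stalkMap _ (sp _)) = X.residue _ (f.stalkMap _ t')
    refine congrArg _ (congrArg _ ?_)
    show Y.presheaf.stalkSpecializes _ _ = _
    rw [← CommRingCat.comp_apply, TopCat.Presheaf.stalkSpecializes_comp,
      TopCat.Presheaf.stalkSpecializes_refl]
    rfl
  -- coordinates on `X`
  obtain ⟨l0, hl0⟩ := Opens.mem_iSup.1 ((PEmb.iSup_Xo iX).ge (Opens.mem_top (genericPoint X)))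
  have : Nonempty (PEmb.Xo iX l0) := ⟨⟨_, hl0⟩⟩
  choose g hg using fun i : Fin (m + 1) =>
    hFsurj (X.germToFunctionField (PEmb.Xo iX l0) (PEmb.coord iX l0 i))
  -- coordinates on `Y`
  obtain ⟨J, _, C, c, hc, hC⟩ := exists_coverFamily hM g
  obtain ⟨I, hI⟩ := C.exists_ideal
  refine ⟨I, isBlowUp_of_cover C.V
    (top_le_iff.1 fun y _ => Opens.mem_iSup.2 (C.cover y)) fun j => ?_⟩
  refine isBlowUp_of_spec I (C.affine j) (f ∣_ C.V j) ?_
  obtain ⟨hVne, hb⟩ := hC j
  set V := C.V j
  have hV : IsAffineOpen V := C.affine j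
  let Xj : Scheme.{u} := (f ⁻¹ᵁ V).toScheme
  have hgV : genericPoint X ∈ f ⁻¹ᵁ V := by
    obtain ⟨⟨v, hv⟩⟩ := hVne
    show f (genericPoint X) ∈ V
    rw [hgen]
    exact (genericPoint_specializes v).mem_open V.2 hv
  have : Nonempty Xj := ⟨(⟨_, hgV⟩ : ↥(f ⁻¹ᵁ V))⟩
  let ι := (f ⁻¹ᵁ V).ι
  have : IsIntegral Xj := isIntegral_of_isOpenImmersion ι
  let p : Xj ⟶ Spec (CommRingCat.of Γ(Y, V)) := (f ∣_ V) ≫ hV.isoSpec.hom
  have hpf : p ≫ hV.fromSpec = ι ≫ f := by
    simp only [p, Category.assoc, IsAffineOpen.isoSpec_hom_fromSpec, morphismRestrict_ι]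
    rfl
  have hphi : ∀ (U : Xj.Opens) (h : U ≤ (ι ≫ f) ⁻¹ᵁ V) (x : Γ(Y, V)),
      (ι ≫ f).appLE V U h x = phi p U x := by
    intro U h x
    rw [phi]
    have e := fromSpec_appLE_top hV
    simp only [← hpf]
    rw [← Scheme.Hom.appLE_comp_appLE p hV.fromSpec V ⊤ U hV.fromSpec_preimage_self.ge
      (le_preimage_top p U), e]
    rfl
  let U : Fin (m + 1) → Xj.Opens := fun l => ι ⁻¹ᵁ PEmb.W iX l V
  have hWle : ∀ l, PEmb.W iX l V ≤ f ⁻¹ᵁ V := fun l => PEmb.W_le_pre iX l V
  have hphi' : ∀ l x, phi p (U l) x =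
      ι.app (PEmb.W iX l V) (f.appLE V (PEmb.W iX l V) (hWle l) x) := fun l x => by
    rw [← hphi (U l) (fun z hz => hWle l hz) x, ← CommRingCat.comp_apply, ← ι.appLE_comp_appLE f V _ _
      (hWle l) le_rfl, Scheme.Hom.app_eq_appLE]
  let r : ∀ l, Fin (m + 1) → Γ(Xj, U l) := fun l i =>
    ι.app (PEmb.W iX l V) (PEmb.coordOn iX l i _ (PEmb.W_le_Xo iX l V))
  have hiso : ∀ l, Function.Bijective (ι.app (PEmb.W iX l V)) := fun l => by
    have : IsIso (ι.app (PEmb.W iX l V)) :=
      Scheme.Hom.isIso_app ι _ (by rw [Scheme.Opens.opensRange_ι]; exact hWle l)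
    exact ConcreteCategory.bijective_of_isIso _
  have hne_iff : ∀ l, C.b j l ≠ 0 ↔ (U l : Set Xj).Nonempty := by
    intro l
    have h1 : C.b j l ≠ 0 ↔ g l ≠ 0 := by
      rw [← map_ne_zero_iff _ (Y.germToFunctionField_injective V), hb l]
      exact ⟨fun h h' => h (by rw [h', zero_mul]), fun h => mul_ne_zero h (hc j)⟩
    have h2 : g l ≠ 0 ↔ genericPoint X ∈ PEmb.Xo iX l := by
      rw [← map_ne_zero_iff F.hom (RingHom.injective (R := Y.functionField) F.hom), hg,
        map_ne_zero_iff _ (X.germToFunctionField_injective _)]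
      constructor
      · intro h
        have hne : X.basicOpen (PEmb.coord iX l0 l) ≠ ⊥ := mt (basicOpen_eq_bot_iff _).1 h
        obtain ⟨z, hz⟩ := Set.nonempty_iff_ne_empty.2 (fun h' => hne (Opens.ext h'))
        rw [SetLike.mem_coe, ← PEmb.Xo_inf] at hz
        exact (genericPoint_specializes z).mem_open (PEmb.Xo iX l).2 hz.2
      · intro h h0
        have h' : genericPoint X ∈ X.basicOpen (PEmb.coord iX l0 l) := (PEmb.Xo_inf iX l l0).le ⟨hl0, h⟩
        rw [h0, Scheme.basicOpen_zero] at h'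
        exact h'
    rw [h1, h2]
    constructor
    · intro h
      exact ⟨(⟨_, hgV⟩ : ↥(f ⁻¹ᵁ V)), ⟨h, hgV⟩⟩
    · rintro ⟨z, hz⟩
      exact (genericPoint_specializes _).mem_open (PEmb.Xo iX l).2 hz.1
  have hWne : ∀ l, C.b j l ≠ 0 → Nonempty (PEmb.W iX l V) := fun l hl => by
    obtain ⟨z, hz⟩ := (hne_iff l).1 hl
    exact ⟨⟨_, hz⟩⟩
  let D : RatioData p (C.b j) :=
    { U := U
      affine := fun l => (PEmb.isAffineOpen_W iX l hV).preimage_of_isOpenImmersion ι
        (by rw [Scheme.Opens.opensRange_ι]; exact hWle l)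
      cover := fun x => by
        obtain ⟨l, hl⟩ := Opens.mem_iSup.1 ((PEmb.iSup_W iX V).ge (show ι x ∈ f ⁻¹ᵁ V from x.2))
        exact ⟨l, hl⟩
      r := r
      inf_eq := fun l l' => by
        show ι ⁻¹ᵁ _ ⊓ ι ⁻¹ᵁ _ = _
        rw [← Scheme.preimage_basicOpen, ← PEmb.W_inf]
        rfl
      gen := fun l => by
        have h := congrArg (Subring.map (ι.app (PEmb.W iX l V)).hom) (PEmb.W_generated iX l hV)
        rw [RingHom.map_closure, Set.image_union, ← Set.range_comp, ← Set.range_comp] at h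
        have : Subring.map (ι.app (PEmb.W iX l V)).hom ⊤ = ⊤ :=
          top_le_iff.1 fun z _ => by
            obtain ⟨w, hw⟩ := (hiso l).2 z
            exact ⟨w, trivial, hw⟩
        rw [this] at h
        rw [show (phi p (U l) : Γ(Y, V) → Γ(Xj, U l)) =
          (ι.app (PEmb.W iX l V)).hom ∘ (f.appLE V (PEmb.W iX l V) (hWle l)) from funext (hphi' l)]
        exact h
      rel := fun l hl i => by
        have := hWne l hl
        rw [hphi', hphi', ← map_mul]
        refine congrArg _ (X.germToFunctionField_injective (PEmb.W iX l V) ?_)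
        rw [map_mul, ← hF V _ (hWle l), ← hF V _ (hWle l), hb, hb, map_mul, map_mul, hg, hg]
        let O := PEmb.W iX l V ⊓ PEmb.Xo iX l0
        have : Nonempty O := by
          obtain ⟨⟨z, hz⟩⟩ := hWne l hl
          exact ⟨⟨genericPoint X, (genericPoint_specializes z).mem_open (PEmb.W iX l V).2 hz, hl0⟩⟩
        have hgO : genericPoint X ∈ O := by
          obtain ⟨⟨z, hz⟩⟩ := (inferInstance : Nonempty O)
          exact (genericPoint_specializes z).mem_open O.2 hz
        have key := congrArg (X.germToFunctionField O)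
          (PEmb.coordOn_transition iX l0 l i O inf_le_right (inf_le_left.trans (PEmb.W_le_Xo iX l V)))
        rw [map_mul] at key
        have e0 : ∀ k, X.germToFunctionField O (PEmb.coordOn iX l0 k O inf_le_right) =
            X.germToFunctionField (PEmb.Xo iX l0) (PEmb.coord iX l0 k) :=
          fun k => X.presheaf.germ_res_apply (homOfLE _) _ hgO _
        have e1 : X.germToFunctionField O (PEmb.coordOn iX l i O (inf_le_left.trans (PEmb.W_le_Xo iX l V))) =
            X.germToFunctionField (PEmb.W iX l V) (PEmb.coordOn iX l i _ (PEmb.W_le_Xo iX l V)) := by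
          rw [← PEmb.map_coordOn iX l i (PEmb.W_le_Xo iX l V) (inf_le_left : O ≤ _)]
          exact X.presheaf.germ_res_apply (homOfLE _) _ hgO _
        rw [e0, e0, e1] at key
        rw [key]
        ring
      nonempty_iff := hne_iff
      injective := fun W hW x y hxy => by
        have : Nonempty W := hW.to_subtype
        have : Nonempty (ι ''ᵁ W) := ⟨⟨_, ⟨_, hW.some_mem, rfl⟩⟩⟩
        have hle : ι ''ᵁ W ≤ f ⁻¹ᵁ V := fun z ⟨w, _, hw⟩ => hw ▸ w.2
        have e : ∀ x, phi p W x = (ι.appIso W).hom (f.appLE V (ι ''ᵁ W) hle x) := fun x => by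
          rw [← hphi W (fun z hz => z.2) x, ← ι.appLE_comp_appLE f V (ι ''ᵁ W) W hle
            (ι.preimage_image_eq W).ge, Scheme.Hom.appIso_hom']
          rfl
        rw [e, e] at hxy
        have h1 := congrArg (X.germToFunctionField (ι ''ᵁ W))
          ((ConcreteCategory.bijective_of_isIso (ι.appIso W).hom).1 hxy)
        rw [← hF V _ hle, ← hF V _ hle] at h1
        exact Y.germToFunctionField_injective V (RingHom.injective (R := Y.functionField) F.hom h1) }
  have := D.isBlowUp
  rw [show D.ideal = I.ideal ⟨V, hV⟩ from (hI j).symm] at this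
  exact this

end Groth.BlowUpBirAmple
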