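/-
Very ampleness descends along faithfully flat morphisms of affine bases.
-/
import Groth.Agent.RelVA.PnLocal
import Groth.Agent.RelVA.Ample
import Groth.Agent.RelVA.Ops
import Groth.Agent.CurveDiv.FlatH0
import Groth.Agent.S1124
import Groth.Agent.DescentBase.Descends

set_option autoImplicit false

universe u

open CategoryTheory CategoryTheory.Limits AlgebraicGeometry Opposite TopologicalSpace

set_option backward.isDefEq.respectTransparency.types false

noncomputable section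

namespace Groth.SchemeMorphisms.VADescent

open Groth.PicAux Groth.PropsBasic.Ample Groth.RelVA

theorem isImmersion_of_pieces' {T P : Scheme.{u}} (g : T ⟶ P) {κ : Type*} (R : κ → P.Opens)
    (hcov : ∀ x, ∃ i, g x ∈ R i) (hpiece : ∀ i, IsImmersion (g ∣_ R i)) : IsImmersion g := by
  let O' : P.Opens := ⨆ i, R i
  have htop : g ⁻¹ᵁ O' = ⊤ := top_le_iff.mp fun x _ => TopologicalSpace.Opens.mem_iSup.mpr (hcov x)
  haveI : IsImmersion (g ∣_ O') := by
    refine IsZariskiLocalAtTarget.of_iSup_eq_top (P := @IsImmersion) (fun i => O'.ι ⁻¹ᵁ R i) ?_ fun i => ?_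
    · rw [← Scheme.Hom.preimage_iSup]
      exact top_le_iff.mp fun x _ => x.2
    · refine (MorphismProperty.arrow_mk_iso_iff @IsImmersion
        (morphismRestrictRestrict g O' _)).mpr ?_
      rw [Scheme.Hom.image_preimage_eq_opensRange_inf, Scheme.Opens.opensRange_ι,
        inf_eq_right.mpr (le_iSup R i)]
      exact hpiece i
  have hge : g = (T.topIso.inv ≫ (T.isoOfEq htop).inv) ≫ (g ∣_ O') ≫ O'.ι := by
    rw [morphismRestrict_ι, Category.assoc, Scheme.isoOfEq_inv_ι_assoc, ← Category.assoc]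
    simp
  rw [hge]
  infer_instance

theorem kf_ι {X Y : Scheme.{u}} (f : X ⟶ Y) (G : X.Opens) (b : Γ(Y, ⊤)) :
    kf (G.ι ≫ f) b = (f.appLE ⊤ G le_top).hom b := by
  refine congr(($(show (G.ι ≫ f).appTop ≫ G.topIso.hom = f.appLE ⊤ G le_top from ?_)).hom b)
  rw [Scheme.Hom.comp_appTop, Scheme.Hom.appLE, Category.assoc, Scheme.Opens.ι_appTop, Scheme.Opens.topIso_hom]
  congr 1
  exact (X.presheaf.map_comp _ _).symm.trans (congrArg _ (Subsingleton.elim _ _))

theorem kf_toSpecΓ {X : Scheme.{u}} (G : X.Opens) (T : Subring Γ(X, G)) (x : Γ(Spec (CommRingCat.of T), ⊤)) :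
    kf (G.toSpecΓ ≫ Spec.map (CommRingCat.ofHom T.subtype)) x =
      ((Scheme.ΓSpecIso (CommRingCat.of T)).hom.hom x : T).1 := by
  refine congr(($(show (G.toSpecΓ ≫ Spec.map (CommRingCat.ofHom T.subtype)).appTop ≫ G.topIso.hom =
    (Scheme.ΓSpecIso (CommRingCat.of T)).hom ≫ CommRingCat.ofHom T.subtype from ?_)).hom x)
  rw [Scheme.Hom.comp_appTop, Scheme.Opens.toSpecΓ_appTop, ← Category.assoc _ _ G.topIso.inv,
    Scheme.ΓSpecIso_naturality, Category.assoc, Iso.inv_hom_id, Category.comp_id]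

/-- Very ampleness descends along a faithfully flat morphism of affine schemes. -/
theorem isRelVeryAmple_of_pullback {X X' Y Y' : Scheme.{u}} [IsAffine Y] [IsAffine Y'] {f : X ⟶ Y}
    [LocallyOfFiniteType f] [QuasiCompact f] {g : Y' ⟶ Y} [Flat g] [Surjective g] {g' : X' ⟶ X}
    {f' : X' ⟶ Y'} (sq : IsPullback g' f' f g) {L : X.Modules} (hL : PicF.IsInvertible L)
    (h : RelProj.IsRelVeryAmple f' ((Scheme.Modules.pullback g').obj L)) :
    RelProj.IsRelVeryAmple f L := by
  classical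
  haveI : LocallyOfFiniteType f' := MorphismProperty.of_isPullback (P := @LocallyOfFiniteType) sq ‹_›
  haveI : QuasiCompact f' := MorphismProperty.of_isPullback (P := @QuasiCompact) sq ‹_›
  haveI : Surjective g' := MorphismProperty.of_isPullback (P := @Surjective) sq.flip ‹_›
  have hQ : (@Surjective ⊓ @Flat ⊓ @QuasiCompact : MorphismProperty Scheme.{u}) g :=
    ⟨⟨inferInstance, inferInstance⟩, inferInstance⟩
  haveI : IsSeparated f :=
    MorphismProperty.of_isPullback_of_descendsAlong (P := @IsSeparated) sq.flip hQ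
      (isSeparated_of_isRelVeryAmple h)
  haveI : CompactSpace X := QuasiCompact.compactSpace_of_compactSpace f
  haveI : X.IsSeparated := ⟨by rw [← Limits.terminal.comp_from f]; infer_instance⟩
  haveI : L.IsQuasicoherent := isQCoh_of_isInvertible hL
  let L' := (Scheme.Modules.pullback g').obj L
  have hL' : PicF.IsInvertible L' := isInvertible_pullback g' hL
  obtain ⟨m, u, hu⟩ := hasPnData_of_isRelVeryAmple hL' h
  let N := (Scheme.Modules.pushforward f').obj L'
  let pullT : Γ(L, (⊤ : X.Opens)) → Γ(N, (⊤ : Y'.Opens)) := fun t =>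
    (pullSec g' L t : Γ(L', g' ⁻¹ᵁ ⊤))
  have hspan : ∀ v : Γ(N, (⊤ : Y'.Opens)), v ∈ Submodule.span Γ(Y', ⊤) (Set.range pullT) := by
    have e : (⊤ : Y'.Opens) ≤ g ⁻¹ᵁ ⊤ := le_rfl
    let := Groth.QCohMod.sectionsAlg g e
    obtain ⟨Φ, hΦ⟩ := Groth.CurveDiv.FlatH0.exists_baseChange_equiv sq L (isAffineOpen_top Y)
      (isAffineOpen_top Y') e le_rfl
    intro v
    obtain ⟨z, rfl⟩ := Φ.surjective v
    induction z using TensorProduct.induction_on with
    | zero => rw [map_zero]; exact Submodule.zero_mem _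
    | add a b ha hb => rw [map_add]; exact Submodule.add_mem _ ha hb
    | tmul b t =>
      rw [hΦ]
      refine Submodule.smul_mem _ b (Submodule.subset_span ⟨(show Γ(L, ⊤) from t), ?_⟩)
      rw [Groth.CohBase.FlatBC.psec_apply]
      exact (Groth.PicAux.res_self (M := L') (U := (⊤ : X'.Opens)) le_rfl _).symm
  have hcov : ∀ y : X', ∃ t : Γ(L, ⊤), g' y ∈ gloc t := by
    intro y
    obtain ⟨a, hya, -⟩ := hu y
    by_contra hcon
    push Not at hcon
    let Ga := gloc (u a)
    have he : Gen L' Ga (res L' (le_top : Ga ≤ ⊤) (u a)) := gen_gloc _ le_rfl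
    let P : Ideal Γ(X', Ga) :=
      (IsLocalRing.maximalIdeal (X'.presheaf.stalk y)).comap (X'.presheaf.germ Ga y hya).hom
    have key : ∀ v ∈ Submodule.span Γ(Y', ⊤) (Set.range pullT), ∀ c : Γ(X', Ga),
        res L' (le_top : Ga ≤ ⊤) (v : Γ(L', ⊤)) = c • res L' (le_top : Ga ≤ ⊤) (u a) → c ∈ P := by
      intro v hv
      induction hv using Submodule.span_induction with
      | mem v hv =>
        obtain ⟨t, rfl⟩ := hv
        intro c hc hu'
        have hy : y ∈ X'.basicOpen c := (X'.mem_basicOpen c y hya).2 hu'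
        rw [← gloc_inf_eq_basicOpen he hc] at hy
        exact hcon t ((gloc_pullSec g' hL t).le hy.1)
      | zero =>
        intro c hc
        have : c = 0 := he.smul_inj le_rfl (by
          rw [Groth.PicAux.res_self, zero_smul, ← hc]; exact map_zero _)
        rw [this]; exact zero_mem _
      | add v w _ _ hv hw =>
        intro c hc
        obtain ⟨c₁, h₁⟩ := he.exists_coeff le_rfl (res L' (le_top : Ga ≤ ⊤) (v : Γ(L', ⊤)))
        obtain ⟨c₂, h₂⟩ := he.exists_coeff le_rfl (res L' (le_top : Ga ≤ ⊤) (w : Γ(L', ⊤)))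
        rw [Groth.PicAux.res_self] at h₁ h₂
        have : c = c₁ + c₂ := he.smul_inj le_rfl (by
          rw [Groth.PicAux.res_self, add_smul, ← h₁, ← h₂, ← hc]; exact map_add _ _ _)
        rw [this]
        exact add_mem (hv _ h₁) (hw _ h₂)
      | smul b v _ hv =>
        intro c hc
        obtain ⟨c₁, h₁⟩ := he.exists_coeff le_rfl (res L' (le_top : Ga ≤ ⊤) (v : Γ(L', ⊤)))
        rw [Groth.PicAux.res_self] at h₁
        have : c = (f'.appLE ⊤ Ga le_top).hom b * c₁ := he.smul_inj le_rfl (by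
          rw [Groth.PicAux.res_self, mul_smul, ← h₁, ← hc]
          exact Groth.PicAux.res_smul (M := L') le_top (f'.app ⊤ b) (v : Γ(L', ⊤)))
        rw [this]
        exact P.mul_mem_left _ (hv _ h₁)
    have h1 := key (u a) (hspan _) 1 (one_smul _ _).symm
    exact Ideal.comap_ne_top _ (IsLocalRing.maximalIdeal.isMaximal _).ne_top ((Ideal.eq_top_iff_one _).2 h1)
  refine isRelVeryAmple_canon f hL fun x => ?_
  obtain ⟨y, rfl⟩ := g'.surjective x
  obtain ⟨t, ht⟩ := hcov y
  refine ⟨t, ht, ?_⟩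
  let G := gloc t
  let T : Subring Γ(X, G) := Subring.closure (Set.range (f.appLE ⊤ G le_top).hom ∪
    {r | ∃ t' : Γ(L, ⊤), res L (le_top : G ≤ ⊤) t' = r • res L (le_top : G ≤ ⊤) t})
  let κ : (G : Scheme.{u}) ⟶ Spec (CommRingCat.of T) := G.toSpecΓ ≫ Spec.map (CommRingCat.ofHom T.subtype)
  let Q := pullback (terminal.from (Spec (CommRingCat.of T))) (terminal.from Y)
  let k : (G : Scheme.{u}) ⟶ Q := pullback.lift κ (G.ι ≫ f) (Subsingleton.elim _ _)
  let G' : X'.Opens := g' ⁻¹ᵁ G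
  have sqG : IsPullback (g' ∣_ G) (G'.ι ≫ f') (G.ι ≫ f) g :=
    ((isPullback_morphismRestrict g' G).paste_vert sq)
  let Q' := pullback (pullback.snd _ _ : Q ⟶ Y) g
  let k' : (G' : Scheme.{u}) ⟶ Q' := pullback.lift ((g' ∣_ G) ≫ k) (G'.ι ≫ f') (by
    rw [Category.assoc, pullback.lift_snd]; exact sqG.w)
  have hk'1 : k' ≫ pullback.fst _ _ = (g' ∣_ G) ≫ k := pullback.lift_fst _ _ _
  have hk'2 : k' ≫ pullback.snd _ _ = G'.ι ≫ f' := pullback.lift_snd _ _ _
  have top : IsPullback (g' ∣_ G) k' k (pullback.fst _ _ : Q' ⟶ Q) := by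
    refine IsPullback.of_bot ?_ hk'1.symm (IsPullback.of_hasPullback (pullback.snd _ _ : Q ⟶ Y) g)
    rw [hk'2, show k ≫ pullback.snd _ _ = G.ι ≫ f from pullback.lift_snd _ _ _]
    exact sqG
  let R' : Subring Γ(X', G') := (kf k').range
  have hbase : ∀ b, (f'.appLE ⊤ G' le_top).hom b ∈ R' := fun b =>
    ⟨(pullback.snd (pullback.snd _ _ : Q ⟶ Y) g).appTop.hom b, by rw [← kf_comp, hk'2, kf_ι]⟩
  have hT : ∀ r ∈ T, (g'.app G).hom r ∈ R' := by
    intro r hr
    let r₀ := (Scheme.ΓSpecIso (CommRingCat.of T)).inv.hom ⟨r, hr⟩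
    refine ⟨(pullback.fst (pullback.snd _ _ : Q ⟶ Y) g).appTop.hom
      ((pullback.fst (terminal.from (Spec (CommRingCat.of T))) (terminal.from Y)).appTop.hom r₀), ?_⟩
    rw [← kf_comp, ← kf_comp, hk'1, Category.assoc,
      show k ≫ pullback.fst _ _ = κ from pullback.lift_fst _ _ _, ← Scheme.Hom.resLE_eq_morphismRestrict,
      kf_resLE, kf_toSpecΓ, Scheme.Hom.appLE_eq_app]
    exact congrArg (fun z : T => (g'.app G).hom z.1)
      (Iso.inv_hom_id_apply (Scheme.ΓSpecIso (CommRingCat.of T)) _)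
  -- coefficients of all sections
  let w : Γ(L', G') := pullSec g' L (res L (le_top : G ≤ ⊤) t)
  have hw : Gen L' G' w := (gen_gloc t le_rfl).pull g'
  have hcoef : ∀ v : Γ(N, (⊤ : Y'.Opens)), ∃ c ∈ R', res L' (le_top : G' ≤ ⊤) (v : Γ(L', ⊤)) = c • w := by
    intro v
    induction (hspan v) using Submodule.span_induction with
    | mem v hv =>
      obtain ⟨t', rfl⟩ := hv
      obtain ⟨r, hr⟩ := (gen_gloc t le_rfl).exists_coeff le_rfl (res L (le_top : G ≤ ⊤) t')
      rw [Groth.PicAux.res_self] at hr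
      refine ⟨(g'.app G).hom r, hT r (Subring.subset_closure (Or.inr ⟨t', hr⟩)), ?_⟩
      refine (Groth.PicAux.res_pullSec g' L (le_top : G ≤ ⊤) t').trans ?_
      rw [hr]
      exact pullSec_smul g' L r _
    | zero => exact ⟨0, zero_mem _, by rw [zero_smul]; exact map_zero _⟩
    | add a b _ _ ha hb =>
      obtain ⟨c, hc, hc'⟩ := ha
      obtain ⟨d, hd, hd'⟩ := hb
      exact ⟨c + d, add_mem hc hd, by rw [add_smul, ← hc', ← hd']; exact map_add _ _ _⟩
    | smul b a _ ha =>
      obtain ⟨c, hc, hc'⟩ := ha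
      refine ⟨(f'.appLE ⊤ G' le_top).hom b * c, mul_mem (hbase b) hc, ?_⟩
      rw [mul_smul, ← hc']
      exact Groth.PicAux.res_smul (M := L') le_top (f'.app ⊤ b) (a : Γ(L', ⊤))
  -- the base change of `k` is an immersion
  have hk' : IsImmersion k' := by
    choose ix hix hIx using hu
    choose c hc hceq using fun a => hcoef (u a)
    choose C hC using hc
    refine isImmersion_of_pieces' k' (fun z : G' => Q'.basicOpen (C (ix z.1))) (fun z => ⟨z, ?_⟩) fun z => ?_
    · change z ∈ k' ⁻¹ᵁ Q'.basicOpen (C (ix z.1))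
      rw [Scheme.preimage_basicOpen]
      change z ∈ G'.toScheme.basicOpen (k'.appTop (C (ix z.1)))
      have hz : z.1 ∈ X'.basicOpen (c (ix z.1)) := by
        rw [← gloc_inf_eq_basicOpen hw (hceq (ix z.1))]
        exact ⟨hix z.1, z.2⟩
      rw [← hC] at hz
      have e := Scheme.image_basicOpen G'.ι (k'.appTop (C (ix z.1)))
      have : G'.ι z ∈ G'.ι ''ᵁ G'.toScheme.basicOpen (k'.appTop (C (ix z.1))) := by
        rw [e, Scheme.Opens.ι_appIso]
        have e2 : (kf k') (C (ix z.1)) =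
            X'.presheaf.map (eqToHom G'.ι_image_top.symm).op (k'.appTop.hom (C (ix z.1))) := rfl
        rw [e2, Scheme.basicOpen_res_eq] at hz
        exact hz
      obtain ⟨z', hz', hzz⟩ := this
      exact G'.ι.isOpenEmbedding.injective hzz ▸ hz'
    generalize hj : ix z.1 = a
    let V : Q'.Opens := Q'.basicOpen (C a)
    have : IsAffine (V : Scheme.{u}) := (isAffineOpen_top Q').basicOpen (C a)
    let H : X'.Opens := G'.ι ''ᵁ (k' ⁻¹ᵁ V)
    let φ := G'.ι.isoImage (k' ⁻¹ᵁ V)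
    let ρ : (H : Scheme.{u}) ⟶ (V : Scheme.{u}) := φ.inv ≫ (k' ∣_ V)
    have hHG : H ≤ G' := G'.ι_image_le _
    have hρ : ρ ≫ V.ι = X'.homOfLE hHG ≫ k' := by
      rw [Category.assoc, morphismRestrict_ι, ← Category.assoc]
      congr 1
      rw [← cancel_mono G'.ι, Category.assoc, Scheme.homOfLE_ι, Scheme.Hom.isoImage_inv_ι]
    let RH : Subring Γ(X', H) := (kf ρ).range
    have hRres : ∀ x ∈ R', resX X' hHG x ∈ RH := by
      rintro _ ⟨F, rfl⟩
      refine ⟨V.ι.appTop.hom F, ?_⟩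
      rw [← kf_comp, hρ, kf_homOfLE]
      rfl
    have hunit : ∃ d ∈ RH, d * resX X' hHG (c a) = 1 := by
      have hu' : IsUnit (V.ι.appTop.hom (C a)) := by
        refine RingedSpace.isUnit_of_isUnit_germ _ _ _ fun y _ => ?_
        refine ((V : Scheme.{u}).mem_basicOpen (V.ι.appTop.hom (C a)) y trivial).1 ?_
        have := Scheme.preimage_basicOpen V.ι (C a)
        exact this.le (show y ∈ V.ι ⁻¹ᵁ V from y.2)
      obtain ⟨v, hv⟩ := hu'
      refine ⟨kf ρ ↑v⁻¹, ⟨_, rfl⟩, ?_⟩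
      have : resX X' hHG (c a) = kf ρ (V.ι.appTop.hom (C a)) := by
        rw [← hC a, ← kf_comp, hρ, kf_homOfLE]
        rfl
      rw [this, ← hv, ← map_mul, Units.inv_mul, map_one]
    obtain ⟨d, hd, hdc⟩ := hunit
    have hHa : H ≤ gloc (u a) := by
      intro y hy
      have hy' : y ∈ X'.basicOpen (resX X' hHG (c a)) :=
        (X'.basicOpen_of_isUnit (IsUnit.of_mul_eq_one_right _ hdc)).ge hy
      have h2 := (Scheme.basicOpen_res X' (c a) (homOfLE hHG).op).le hy'
      have h3 := (gloc_inf_eq_basicOpen hw (hceq a)).ge h2.2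
      exact h3.1
    have hIH : Imm H RH := by
      refine (hj ▸ hIx z.1 : Imm (gloc (u a)) (ratioRing f' u a)).restrict hHa fun x hx => ?_
      refine (Subring.closure_le (t := RH.comap (resX X' hHa))).2 ?_ hx
      rintro _ (⟨b, rfl⟩ | ⟨l, hl⟩)
      · have := hRres _ (hbase b)
        rw [SetLike.mem_coe, Subring.mem_comap]
        convert this using 1
        change resX X' hHa (resX X' (le_top : gloc (u a) ≤ ⊤) ((f'.app ⊤).hom b)) =
          resX X' hHG (resX X' (le_top : G' ≤ ⊤) ((f'.app ⊤).hom b))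
        rw [resX_resX, resX_resX]
      · rename_i r
        rw [SetLike.mem_coe, Subring.mem_comap]
        have h1 := congrArg (res L' hHa) hl
        have h2 := congrArg (res L' hHG) (hceq a)
        have h3 := congrArg (res L' hHG) (hceq l)
        simp only [Groth.PicAux.res_res, Groth.PicAux.res_smul] at h1 h2 h3
        have h4 : resX X' hHa r * resX X' hHG (c a) = resX X' hHG (c l) := by
          refine hw.smul_inj hHG ?_
          rw [mul_smul, ← h2, ← h3]
          exact h1.symm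
        have h5 : resX X' hHa r = resX X' hHG (c l) * d := by
          rw [← h4, mul_assoc, mul_comm _ d, hdc, mul_one]
        rw [h5]
        exact mul_mem (hRres _ ⟨_, hC l⟩) hd
    obtain ⟨D, hD, i, hi, hiR⟩ := hIH
    have hρi : IsImmersion ρ := @isImmersion_of_range _ _ _ ‹_› hD ρ i hi fun x => by
      obtain ⟨F, hF⟩ := hiR x
      exact ⟨F, (ConcreteCategory.bijective_of_isIso H.topIso.hom).1 hF⟩
    have e1 : k' ∣_ V = φ.hom ≫ ρ := (Iso.hom_inv_id_assoc _ _).symm
    rw [e1]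
    infer_instance
  -- descent
  haveI : CompactSpace (G : Scheme.{u}) := isCompact_iff_compactSpace.mp (isCompact_gloc hL t)
  haveI : QuasiCompact k := by
    have : QuasiCompact (k ≫ terminal.from Q) := (quasiCompact_iff_compactSpace _).2 inferInstance
    exact QuasiCompact.of_comp k (terminal.from Q)
  haveI : QuasiCompact k' := MorphismProperty.of_isPullback (P := @QuasiCompact) top ‹_›
  haveI : Flat (pullback.fst (pullback.snd _ _ : Q ⟶ Y) g) := MorphismProperty.pullback_fst _ _ ‹_›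
  haveI : Surjective (pullback.fst (pullback.snd _ _ : Q ⟶ Y) g) := MorphismProperty.pullback_fst _ _ ‹_›
  haveI := Groth.Agent.S1124.result.{u}
  have hk : (@IsImmersion ⊓ @QuasiCompact : MorphismProperty Scheme.{u}) k :=
    MorphismProperty.of_isPullback_of_descendsAlong (P := (@IsImmersion ⊓ @QuasiCompact : MorphismProperty Scheme.{u}))
      (Q := (@Surjective ⊓ @Flat ⊓ @QuasiCompact : MorphismProperty Scheme.{u})) top.flip
      ⟨⟨inferInstance, inferInstance⟩, inferInstance⟩ ⟨hk', inferInstance⟩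
  refine ⟨Q, inferInstance, k, hk.1, fun F => ?_⟩
  refine (Subring.closure_le (t := T.comap (kf k))).2 ?_ (appTop_mem_closure _ Y F)
  rintro _ (⟨x, rfl⟩ | ⟨x, rfl⟩)
  · change kf k _ ∈ T
    rw [← kf_comp, show k ≫ pullback.fst _ _ = κ from pullback.lift_fst _ _ _, kf_toSpecΓ]
    exact SetLike.coe_mem _
  · change kf k _ ∈ T
    rw [← kf_comp, show k ≫ pullback.snd _ _ = G.ι ≫ f from pullback.lift_snd _ _ _, kf_ι]
    exact Subring.subset_closure (Or.inl ⟨x, rfl⟩)

end Groth.SchemeMorphisms.VADescent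

namespace Groth.SchemeMorphisms.VADescent

open Groth.PicAux Groth.RelVA

theorem isRelVeryAmple_baseChange {X Y X' Y' : Scheme.{u}} {f : X ⟶ Y} {g : Y' ⟶ Y} {g' : X' ⟶ X}
    {f' : X' ⟶ Y'} (sq : IsPullback g' f' f g) {L : X.Modules} (hva : RelProj.IsRelVeryAmple f L) :
    RelProj.IsRelVeryAmple f' ((Scheme.Modules.pullback g').obj L) := by
  obtain ⟨E, hE, σ, hσ⟩ := exists_isEmb hva
  obtain ⟨σ', hσ'⟩ := exists_pullData σ sq.w
  have := isImmersion_pair_of_isPullback sq
  exact isRelVeryAmple_of_isEmb (isEmb_pull sq.w hσ' hσ)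

theorem isRelVeryAmplePn_restrict_of_baseChange {X Y Y' : Scheme.{u}} (f : X ⟶ Y)
    [LocallyOfFiniteType f] [QuasiCompact f] (g : Y' ⟶ Y) [Surjective g] [Flat g] [QuasiCompact g]
    {L : X.Modules} (hL : PicF.IsInvertible L)
    (hva : RelProj.IsRelVeryAmple (pullback.snd f g) ((Scheme.Modules.pullback (pullback.fst f g)).obj L))
    {U : Y.Opens} (hU : IsAffineOpen U) :
    RelAmple.IsRelVeryAmplePn (f ∣_ U) (L.restrict (f ⁻¹ᵁ U).ι) := by
  classical
  have : IsAffine (U : Scheme.{u}) := hU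
  let W := g ⁻¹ᵁ U
  have : CompactSpace (W : Scheme.{u}) :=
    isCompact_iff_compactSpace.1 (g.isCompact_preimage hU.isCompact)
  let 𝒰 := (W : Scheme.{u}).affineCover.finiteSubcover
  have : ∀ i, IsAffine (𝒰.X i) := fun i => inferInstanceAs (IsAffine ((W : Scheme.{u}).affineCover.X _))
  let c : (∐ 𝒰.X) ⟶ (W : Scheme.{u}) := Sigma.desc 𝒰.f
  have : Surjective c := ⟨fun x => by
    obtain ⟨y, hy⟩ := 𝒰.covers x
    refine ⟨(Sigma.ι 𝒰.X (𝒰.idx x)).base y, ?_⟩
    rw [← Scheme.Hom.comp_apply, Sigma.ι_desc]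
    exact hy⟩
  have : Flat c := by
    refine (IsZariskiLocalAtSource.iff_of_openCover (P := @Flat) (sigmaOpenCover 𝒰.X)).2 fun i => ?_
    show Flat (Sigma.ι 𝒰.X i ≫ Sigma.desc 𝒰.f)
    rw [Sigma.ι_desc]
    infer_instance
  have : Surjective (g ∣_ U) := IsZariskiLocalAtTarget.restrict ‹Surjective g› U
  have : Flat (g ∣_ U) := IsZariskiLocalAtTarget.restrict ‹Flat g› U
  let h : (∐ 𝒰.X) ⟶ (U : Scheme.{u}) := c ≫ g ∣_ U
  let w : (∐ 𝒰.X) ⟶ Y' := c ≫ W.ι
  have hw : w ≫ g = h ≫ U.ι := by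
    simp only [w, h, Category.assoc, morphismRestrict_ι, W]
  let X'' := pullback (f ∣_ U) h
  let a : X'' ⟶ ((f ⁻¹ᵁ U : X.Opens) : Scheme.{u}) := pullback.fst _ _
  let f'' : X'' ⟶ (∐ 𝒰.X : Scheme.{u}) := pullback.snd _ _
  have big : IsPullback (a ≫ (f ⁻¹ᵁ U).ι) f'' f (h ≫ U.ι) :=
    (IsPullback.of_hasPullback (f ∣_ U) h).paste_horiz (isPullback_morphismRestrict f U).flip
  let b : X'' ⟶ pullback f g := pullback.lift (a ≫ (f ⁻¹ᵁ U).ι) (f'' ≫ w) (by
    exact big.w.trans ((congrArg (f'' ≫ ·) hw.symm).trans (Category.assoc _ _ _).symm))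
  have hb1 : b ≫ pullback.fst f g = a ≫ (f ⁻¹ᵁ U).ι := pullback.lift_fst _ _ _
  have hb2 : b ≫ pullback.snd f g = f'' ≫ w := pullback.lift_snd _ _ _
  have sq : IsPullback b f'' (pullback.snd f g) w := by
    refine IsPullback.of_right ?_ hb2 (IsPullback.of_hasPullback f g)
    rw [hb1, hw]
    exact big
  have h1 := isRelVeryAmple_baseChange sq hva
  let e : (Scheme.Modules.pullback b).obj ((Scheme.Modules.pullback (pullback.fst f g)).obj L) ≅
      (Scheme.Modules.pullback a).obj (L.restrict (f ⁻¹ᵁ U).ι) :=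
    (Scheme.Modules.pullbackComp b (pullback.fst f g)).app L ≪≫
      (Scheme.Modules.pullbackCongr hb1).app L ≪≫
      ((Scheme.Modules.pullbackComp a (f ⁻¹ᵁ U).ι).app L).symm ≪≫
      (Scheme.Modules.pullback a).mapIso (Groth.Ega2Proj.restrictIsoPullback (f ⁻¹ᵁ U).ι L).symm
  have hL₁ := Groth.Ega2Proj.isInvertible_restrict (f ⁻¹ᵁ U).ι hL
  have h2 : RelProj.IsRelVeryAmple (f ∣_ U) (L.restrict (f ⁻¹ᵁ U).ι) :=
    isRelVeryAmple_of_pullback (IsPullback.of_hasPullback (f ∣_ U) h) hL₁ (isRelVeryAmple_of_iso e h1)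
  exact isRelVeryAmplePn_of_hasPnData (hasPnData_of_isRelVeryAmple hL₁ h2)

end Groth.SchemeMorphisms.VADescent
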