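import Groth.Agent.SchemeMorphisms.StrictTransformBlowUp
import Groth.Agent.NagComp.ProperExtend
import Groth.Agent.BlowUpBasics.Global
import Groth.Agent.HTopHyper.BlowUpProper
import Groth.Agent.RefRank.AdmBlowUp
import Groth.Agent.S1279
import Groth.Agent.S1694
import Groth.Agent.S8857

/-!
# Making a strict transform an isomorphism near the closure of a closed subset of an open
-/

set_option autoImplicit false
universe u

open CategoryTheory CategoryTheory.Limits AlgebraicGeometry TopologicalSpace Topology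

namespace Groth.StrictTransformBlowUp

set_option linter.style.haveILetI false

/-- A quasi-compact open between a quasi-compact subset and an open. -/
theorem exists_isCompact_open_between {X : Scheme.{u}} {T : Set X} (hT : IsCompact T) (W : X.Opens)
    (h : T ⊆ W) : ∃ W' : X.Opens, T ⊆ W' ∧ W' ≤ W ∧ IsCompact (W' : Set X) := by
  classical
  choose A hA hxA hAW using fun x : T => show ∃ A : X.Opens, IsAffineOpen A ∧ (x : X) ∈ A ∧ A ≤ W by
    obtain ⟨_, ⟨A, hA, rfl⟩, hxA, hle⟩ :=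
      X.isBasis_affineOpens.exists_subset_of_mem_open (h x.2) W.isOpen
    exact ⟨A, hA, hxA, hle⟩
  obtain ⟨s, hs⟩ := hT.elim_finite_subcover (fun x => (A x : Set X)) (fun x => (A x).isOpen)
    (fun x hx => Set.mem_iUnion.2 ⟨⟨x, hx⟩, hxA _⟩)
  refine ⟨⨆ x ∈ s, A x, fun x hx => ?_, iSup₂_le fun x _ => hAW x, ?_⟩
  · obtain ⟨i, hi, hxi⟩ := Set.mem_iUnion₂.1 (hs hx)
    exact Opens.mem_iSup.2 ⟨i, Opens.mem_iSup.2 ⟨hi, hxi⟩⟩
  · simp only [Opens.coe_iSup]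
    exact s.finite_toSet.isCompact_biUnion fun x _ => (hA x).isCompact

/-- The lift to the strict transform, over an open where a lift to `X` exists, is an isomorphism. -/
theorem isIso_restrict_of_section {X S S' Xb : Scheme.{u}} {φ : X ⟶ S} [IsSeparated φ] {b : S' ⟶ S}
    {𝓘 : S.IdealSheafData} (hb : BlowUp.IsBlowUp b 𝓘) {q : Xb ⟶ X}
    (hq : BlowUp.IsBlowUp q (𝓘.comap φ)) (j : Xb ⟶ S') (hj : j ≫ b = q ≫ φ) (W' : S'.Opens)
    (σ : (W' : Scheme.{u}) ⟶ X) (hσ : σ ≫ φ = W'.ι ≫ b) (W₀ : S.Opens) [IsIso (φ ∣_ W₀)]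
    (hW₀ : ∀ y ∈ W', b y ∉ 𝓘.support → b y ∈ W₀) : IsIso (j ∣_ W') := by
  have hσC : BlowUp.IsEffCartierIdeal ((𝓘.comap φ).comap σ) := by
    rw [← Scheme.IdealSheafData.comap_comp, hσ, Scheme.IdealSheafData.comap_comp]
    exact BlowUpBasics.isEffCartierIdeal_comap_of_flat _ hb.1
  obtain ⟨τ, hτ, -⟩ := hq.2 _ σ hσC
  have hτj : τ ≫ j = W'.ι := by
    refine BlowUpBasics.hom_ext_isBlowUp hb ?_ ?_
    · rw [Category.assoc, hj, reassoc_of% hτ, hσ]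
    · rw [Category.assoc, hj, reassoc_of% hτ, Scheme.IdealSheafData.comap_comp]
      exact hσC
  have hr : Set.range τ ⊆ Set.range (j ⁻¹ᵁ W').ι := by
    rintro _ ⟨y, rfl⟩
    rw [Scheme.Opens.range_ι]
    show j (τ y) ∈ W'
    rw [← Scheme.Hom.comp_apply, hτj]
    exact y.2
  let τ' := IsOpenImmersion.lift (j ⁻¹ᵁ W').ι τ hr
  have hτ' : τ' ≫ (j ⁻¹ᵁ W').ι = τ := IsOpenImmersion.lift_fac _ _ _
  refine ⟨τ', ?_, ?_⟩
  · rw [← cancel_mono (j ⁻¹ᵁ W').ι, Category.assoc, hτ', Category.id_comp]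
    have hC : BlowUp.IsEffCartierIdeal ((𝓘.comap φ).comap ((j ⁻¹ᵁ W').ι ≫ q)) := by
      rw [Scheme.IdealSheafData.comap_comp]
      exact BlowUpBasics.isEffCartierIdeal_comap_of_flat _ hq.1
    have key : (j ∣_ W') ≫ σ = (j ⁻¹ᵁ W').ι ≫ q := by
      have w : ((j ∣_ W') ≫ σ) ≫ φ = ((j ⁻¹ᵁ W').ι ≫ q) ≫ φ := by
        rw [Category.assoc, hσ, ← Category.assoc, morphismRestrict_ι, Category.assoc, Category.assoc, hj]
      rw [← Scheme.IdealSheafData.comap_comp] at hC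
      haveI := Divisors.compl_dominant hC
      refine GrpschAbsch.ext_of_isSchemeTheoreticallyDominant φ w
        (Divisors.complOpens (𝓘.comap (((j ⁻¹ᵁ W').ι ≫ q) ≫ φ))).ι ?_
      set Z₀ := Divisors.complOpens (𝓘.comap (((j ⁻¹ᵁ W').ι ≫ q) ≫ φ))
      have hmem : ∀ z : Z₀, φ (q z.1.1) ∈ W₀ := by
        intro z
        have hn : φ (q z.1.1) ∉ 𝓘.support := fun hs => z.2 (by
          rw [Scheme.IdealSheafData.support_comap]
          exact hs)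
        have e : φ (q z.1.1) = b (j z.1.1) := by
          rw [← Scheme.Hom.comp_apply, ← hj]; rfl
        rw [e] at hn ⊢
        exact hW₀ _ z.1.2 hn
      have hr₁ : Set.range (Z₀.ι ≫ (j ∣_ W') ≫ σ) ⊆ Set.range (φ ⁻¹ᵁ W₀).ι := by
        rintro _ ⟨z, rfl⟩
        rw [Scheme.Opens.range_ι]
        show φ ((Z₀.ι ≫ (j ∣_ W') ≫ σ) z) ∈ W₀
        rw [← Scheme.Hom.comp_apply, Category.assoc, w]
        exact hmem z
      have hr₂ : Set.range (Z₀.ι ≫ (j ⁻¹ᵁ W').ι ≫ q) ⊆ Set.range (φ ⁻¹ᵁ W₀).ι := by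
        rintro _ ⟨z, rfl⟩
        rw [Scheme.Opens.range_ι]
        exact hmem z
      rw [← IsOpenImmersion.lift_fac (φ ⁻¹ᵁ W₀).ι _ hr₁, ← IsOpenImmersion.lift_fac (φ ⁻¹ᵁ W₀).ι _ hr₂]
      congr 1
      rw [← cancel_mono (φ ∣_ W₀), ← cancel_mono W₀.ι]
      simp only [Category.assoc, morphismRestrict_ι, IsOpenImmersion.lift_fac_assoc]
      simp only [Category.assoc] at w
      rw [w]
    refine BlowUpBasics.hom_ext_isBlowUp hq ?_ ?_
    · rw [Category.assoc, hτ, key]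
    · rw [Category.assoc, hτ, key]
      exact hC
  · rw [← cancel_mono W'.ι, Category.assoc, morphismRestrict_ι, reassoc_of% hτ', hτj, Category.id_comp]

/-- Stacks 081T. -/
theorem exists_blowUp_iso_near_closure {X Y : Scheme.{u}} [CompactSpace Y] [QuasiSeparatedSpace Y]
    (f : X ⟶ Y) [IsProper f] (V : Y.Opens) (hV : IsCompact (V : Set Y)) (T : Set Y) (hTV : T ⊆ V)
    (hT : IsClosed (Subtype.val ⁻¹' T : Set V)) (W : Y.Opens) (hTW : T ⊆ W) (hWV : W ≤ V)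
    [IsIso (f ∣_ W)] :
    ∃ (𝓘 : Y.IdealSheafData) (Y' : Scheme.{u}) (b : Y' ⟶ Y), BlowUp.IsBlowUp b 𝓘 ∧
      BlowUp.IsAdmissibleFor V 𝓘 ∧
      ∃ W' : Y'.Opens, closure (b ⁻¹' T) ⊆ W' ∧
        ∀ (Xb : Scheme.{u}) (q : Xb ⟶ X), BlowUp.IsBlowUp q (𝓘.comap f) →
          ∀ j : Xb ⟶ Y', j ≫ b = q ≫ f → IsIso (j ∣_ W') := by
  haveI : CompactSpace V := isCompact_iff_compactSpace.mp hV
  have hTc : IsCompact T := by
    have h := hT.isCompact.image continuous_subtype_val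
    have e : Subtype.val '' (Subtype.val ⁻¹' T : Set V) = T := by
      ext x
      exact ⟨fun ⟨v, hv, hx⟩ => hx ▸ hv, fun hx => ⟨⟨x, hTV hx⟩, hx, rfl⟩⟩
    exact e ▸ h
  obtain ⟨W₀, hTW₀, hW₀W, hW₀c⟩ := exists_isCompact_open_between hTc W hTW
  haveI : IsIso (f ∣_ W₀) := by
    have := IsZariskiLocalAtTarget.restrict (P := MorphismProperty.isomorphisms Scheme)
      (f := f ∣_ W) (inferInstanceAs (IsIso (f ∣_ W))) (W.ι ⁻¹ᵁ W₀)
    refine ((MorphismProperty.isomorphisms Scheme).arrow_mk_iso_iff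
      (morphismRestrictRestrict f W (W.ι ⁻¹ᵁ W₀) ≪≫ morphismRestrictEq f ?_)).1 this
    rw [Scheme.Hom.image_preimage_eq_opensRange_inf, Scheme.Opens.opensRange_ι]
    exact inf_eq_right.2 hW₀W
  -- constructible replacements
  haveI : QuasiSeparatedSpace V := QuasiSeparatedSpace.of_isOpenEmbedding V.2.isOpenEmbedding_subtypeVal
  let Vs := (V : Scheme.{u})
  let W₀' : Vs.Opens := V.ι ⁻¹ᵁ W₀
  have hW₀'c : IsCompact (W₀' : Set Vs) := by
    refine V.ι.isOpenEmbedding.isInducing.isCompact_preimage' hW₀c ?_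
    rw [Scheme.Opens.range_ι]
    exact hW₀W.trans hWV
  haveI : CompactSpace Vs := isCompact_iff_compactSpace.mp hV
  obtain ⟨O, hO, hOT, hOc⟩ := exists_isCompact_open_between (X := Vs) (T := (W₀' : Set Vs)ᶜ)
    (W₀'.isOpen.isClosed_compl.isCompact) ⟨(Subtype.val ⁻¹' T : Set V)ᶜ, hT.isOpen_compl⟩
    (fun v hv hvT => hv (hTW₀ hvT))
  have hcon : ∀ {U : Vs.Opens}, IsCompact (U : Set Vs) → IsConstructible ((U : Set Vs)ᶜ) :=
    fun {U} hU =>
    isConstructible_compl.2 (IsRetrocompact.isConstructible U.isOpen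
      (fun _ hA hAo => QuasiSeparatedSpace.inter_isCompact _ _ U.isOpen hU hAo hA))
  obtain ⟨K₀, Y₁, b₀, hb₀, hK₀, hdisj⟩ := Groth.Agent.S1279.result V hV (O : Set Vs)ᶜ (W₀' : Set Vs)ᶜ
    O.isOpen.isClosed_compl W₀'.isOpen.isClosed_compl (hcon hOc) (hcon hW₀'c)
    (Set.disjoint_left.2 fun v hv hv' => hv (hO hv'))
  haveI : IsProper b₀ := HTopHyper.isProper_of_isBlowUp hb₀ hK₀.1
  haveI : CompactSpace Y₁ := QuasiCompact.compactSpace_of_compactSpace b₀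
  haveI : QuasiSeparatedSpace Y₁ := quasiSeparatedSpace_of_quasiSeparated b₀
  set C₁ : Set Y₁ := closure (b₀.base ⁻¹' (Subtype.val '' ((O : Set Vs)ᶜ)))
  set C₂ : Set Y₁ := closure (b₀.base ⁻¹' (Subtype.val '' ((W₀' : Set Vs)ᶜ)))
  obtain ⟨W₁, hC₁, hW₁, hW₁c⟩ := exists_isCompact_open_between (X := Y₁) (T := C₁)
    isClosed_closure.isCompact ⟨C₂ᶜ, isClosed_closure.isOpen_compl⟩
    (Set.disjoint_left.1 hdisj)
  let V₁ : Y₁.Opens := b₀ ⁻¹ᵁ V
  have hV₁c : IsCompact (V₁ : Set Y₁) := b₀.isCompact_preimage hV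
  have hmem : ∀ y, y ∈ W₁ → b₀ y ∈ V → b₀ y ∈ W₀ := by
    intro y hy hyV
    by_contra hn
    exact hW₁ hy (subset_closure ⟨⟨b₀ y, hyV⟩, hn, rfl⟩)
  -- extend the inverse over `W₁`
  let W₁s := (W₁ : Scheme.{u})
  haveI : CompactSpace W₁s := isCompact_iff_compactSpace.mp hW₁c
  haveI : QuasiSeparatedSpace W₁s := QuasiSeparatedSpace.of_isOpenEmbedding W₁.2.isOpenEmbedding_subtypeVal
  let U₁ : W₁s.Opens := W₁.ι ⁻¹ᵁ V₁
  have hU₁c : IsCompact (U₁ : Set W₁s) := by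
    rw [W₁.ι.isOpenEmbedding.isInducing.isCompact_iff, show W₁.ι '' (U₁ : Set W₁s) = (W₁ : Set Y₁) ∩ V₁ by
      show Subtype.val '' (Subtype.val ⁻¹' (V₁ : Set Y₁)) = _
      exact Subtype.image_preimage_coe _ _]
    exact QuasiSeparatedSpace.inter_isCompact _ _ W₁.2 hW₁c V₁.2 hV₁c
  have hr : Set.range (U₁.ι ≫ W₁.ι ≫ b₀) ⊆ Set.range W₀.ι := by
    rintro _ ⟨⟨y, hy⟩, rfl⟩
    rw [Scheme.Opens.range_ι]
    exact hmem y.1 y.2 hy
  let h : (U₁ : Scheme.{u}) ⟶ X :=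
    IsOpenImmersion.lift W₀.ι _ hr ≫ inv (f ∣_ W₀) ≫ (f ⁻¹ᵁ W₀).ι
  have hh : h ≫ f = U₁.ι ≫ (W₁.ι ≫ b₀) := by
    simp only [h, Category.assoc]
    rw [← morphismRestrict_ι, IsIso.inv_hom_id_assoc, IsOpenImmersion.lift_fac]
  obtain ⟨K₁, T₁, c₁, φ₁, hc₁, hK₁, -, -, -, hφ₁, -⟩ :=
    NagComp.exists_extend_proper (W₁.ι ≫ b₀) f U₁ hU₁c h hh
  obtain ⟨J, hJ, -, hJblow⟩ := Groth.Agent.S8857.result Y₁ V₁ W₁ hV₁c hW₁c K₁ hK₁
  obtain ⟨Y₂, c, hc⟩ := BlowUpBasics.exists_isBlowUp Y₁ J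
  obtain ⟨K₂, hK₂, hK₂s, hK₂b⟩ := Groth.Agent.S1694.result Y K₀ hK₀.1 b₀ hb₀ J hJ.1 c hc
  have hK₂V : BlowUp.IsAdmissibleFor V K₂ := by
    refine ⟨hK₂, Set.disjoint_left.2 fun x hx hxV => ?_⟩
    rw [hK₂s] at hx
    rcases hx with hx | ⟨y, hy, rfl⟩
    · exact Set.disjoint_left.1 hK₀.2 hx hxV
    · exact Set.disjoint_left.1 hJ.2 hy hxV
  -- final blow-up
  obtain ⟨N, hN, hNs⟩ := FlatMorOne.exists_ftIdeal_support_eq
    ⟨(V : Set Y)ᶜ, V.2.isClosed_compl⟩ (by simpa using hV)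
  have hadm : BlowUp.IsAdmissibleFor V (N * K₂) :=
    RefRank.isAdmissibleFor_mul ⟨hN, by rw [hNs]; exact disjoint_compl_left⟩ hK₂V
  have hsupp : ∀ x, x ∉ (N * K₂).support → x ∈ V := by
    intro x hx
    by_contra hxV
    refine hx ?_
    rw [Scheme.IdealSheafData.support_mul]
    exact Or.inl (show x ∈ (N.support : Set Y) by rw [hNs]; exact hxV)
  obtain ⟨Y', b, hb⟩ := BlowUpBasics.exists_isBlowUp Y (N * K₂)
  obtain ⟨g, hg, -⟩ := hK₂b.2 Y' b (Divisors.isEffCartierIdeal_factors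
    (Divisors.comap_mul N K₂ b ▸ hb.1)).2
  refine ⟨N * K₂, Y', b, hb, hadm, g ⁻¹ᵁ c ⁻¹ᵁ W₁, ?_, fun Xb q hq j hj => ?_⟩
  · have hcl : IsClosed ((g ≫ c) ⁻¹' C₁) := isClosed_closure.preimage (g ≫ c).continuous
    refine (closure_minimal ?_ hcl).trans fun y hy => hC₁ hy
    intro y hy
    refine subset_closure ?_
    have e : b₀ ((g ≫ c) y) = b y := by
      rw [← Scheme.Hom.comp_apply, Category.assoc, hg]
    show b₀ ((g ≫ c) y) ∈ Subtype.val '' ((O : Set Vs)ᶜ)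
    rw [e]
    refine ⟨⟨b y, hTV hy⟩, fun hO' => hOT hO' hy, rfl⟩
  · obtain ⟨e, he⟩ := BlowUpBasics.exists_iso_of_isBlowUp (hJblow Y₂ c hc) hc₁
    refine isIso_restrict_of_section hb hq j hj _
      ((g ∣_ (c ⁻¹ᵁ W₁)) ≫ e.hom ≫ φ₁) ?_ W₀ ?_
    · simp only [Category.assoc, hφ₁, reassoc_of% he]
      rw [← Category.assoc (c ∣_ W₁), morphismRestrict_ι, Category.assoc, ← Category.assoc (g ∣_ _),
        morphismRestrict_ι, Category.assoc, hg]
    · intro y hy hny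
      have e : b₀ (c (g y)) = b y := by
        rw [← Scheme.Hom.comp_apply, ← Scheme.Hom.comp_apply, hg]
      rw [← e]
      exact hmem _ hy (e ▸ hsupp _ hny)

end Groth.StrictTransformBlowUp
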