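import Groth.Agent.Divisors.EffCartierMore
import Groth.Agent.BlowUpBasics.Universal
import Groth.Agent.BlowUpBasics.IdealComap
import Groth.Agent.RefRank.StrictSheaf

/-!
# The strict transform under a blow-up of the base is the blow-up in the inverse image ideal
-/

set_option autoImplicit false
universe u

open CategoryTheory CategoryTheory.Limits AlgebraicGeometry TopologicalSpace

namespace Groth.StrictTransformBlowUp

variable {X : Scheme.{u}}

/-- Scalar multiplication on the structure module is multiplication. -/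
theorem killed_iff {E : X.IdealSheafData} {V : X.affineOpens} {t : Γ(X, V.1)}
    (h : E.ideal V = Ideal.span {t}) (a : Γ(X, V.1)) :
    BlowUp.KilledByPowerNear E (Coh.structureModule X) V a ↔ ∃ n : ℕ, t ^ n * a = 0 :=
  Groth.RefRank.StrictSheaf.killedByPowerNear_iff (M := Coh.structureModule X) h a

variable {X' S S' : Scheme.{u}} {φ : X ⟶ S} {b : S' ⟶ S} {𝓘 : S.IdealSheafData}
  {p₁ : X' ⟶ X} {p₂ : X' ⟶ S'}

/-- The strict transform of `φ` is the blow-up of the source in the inverse image ideal. -/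
theorem isBlowUp_strictTransform (hb : BlowUp.IsBlowUp b 𝓘) (hpb : IsPullback p₁ p₂ φ b)
    (𝒥 : X'.IdealSheafData)
    (h𝒥 : ∀ (W : X'.affineOpens) (a : Γ(X', W.1)), a ∈ 𝒥.ideal W ↔
      BlowUp.KilledByPowerNear ((𝓘.comap φ).comap p₁) (Coh.structureModule X') W a) :
    BlowUp.IsBlowUp (𝒥.subschemeι ≫ p₁) (𝓘.comap φ) := by
  set E := (𝓘.comap φ).comap p₁
  have hE : E = (𝓘.comap b).comap p₂ := by
    simp only [E, ← Scheme.IdealSheafData.comap_comp, hpb.w]
  refine ⟨?_, fun T k hk => ?_⟩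
  · rw [Scheme.IdealSheafData.comap_comp]
    intro z
    obtain ⟨U, hU, f, -, hf⟩ := hb.1 (p₂ (𝒥.subschemeι z))
    obtain ⟨_, ⟨W₀, hW₀, rfl⟩, hzW, hle⟩ := X'.isBasis_affineOpens.exists_subset_of_mem_open
      (show 𝒥.subschemeι z ∈ p₂ ⁻¹ᵁ U.1 from hU) (p₂ ⁻¹ᵁ U.1).isOpen
    let W : X'.affineOpens := ⟨W₀, hW₀⟩
    let t : Γ(X', W₀) := p₂.appLE U.1 W₀ hle f
    have ht : E.ideal W = Ideal.span {t} := by
      rw [hE, Groth.BlowUpBasics.ideal_comap p₂ _ U W hle, hf, Ideal.map_span, Set.image_singleton]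
    let V : 𝒥.subscheme.affineOpens := ⟨𝒥.subschemeι ⁻¹ᵁ W₀, hW₀.preimage 𝒥.subschemeι⟩
    refine ⟨V, hzW, 𝒥.subschemeι.app W₀ t, ?_, ?_⟩
    · rw [mem_nonZeroDivisors_iff_right]
      intro s hs
      obtain ⟨a, rfl⟩ := 𝒥.subschemeι.app_surjective W₀ hW₀ s
      rw [← map_mul] at hs
      have hmem : a * t ∈ 𝒥.ideal W := by
        rw [← 𝒥.ker_subschemeι_app W]
        exact hs
      obtain ⟨n, hn⟩ := (killed_iff ht _).1 ((h𝒥 W _).1 hmem)
      have : a ∈ RingHom.ker (𝒥.subschemeι.app W₀).hom := by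
        rw [𝒥.ker_subschemeι_app W]
        exact (h𝒥 W a).2 ((killed_iff ht a).2 ⟨n + 1, by rw [pow_succ, mul_assoc, mul_comm t a]; exact hn⟩)
      exact this
    · rw [Groth.BlowUpBasics.ideal_comap 𝒥.subschemeι _ W V le_rfl, ht, Ideal.map_span,
        Set.image_singleton, ← Scheme.Hom.app_eq_appLE]
  · rw [← Scheme.IdealSheafData.comap_comp] at hk
    obtain ⟨h, hh, huniq⟩ := hb.2 T (k ≫ φ) hk
    let l := hpb.lift k h hh.symm
    have hker : 𝒥 ≤ l.ker := by
      refine Scheme.IdealSheafData.le_ofIdeals_iff.2 fun W a ha => ?_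
      obtain ⟨n, hn⟩ := (h𝒥 W a).1 ha
      rw [RingHom.mem_ker]
      have hEl : BlowUp.IsEffCartierIdeal (E.comap l) := by
        rw [← Scheme.IdealSheafData.comap_comp, ← Scheme.IdealSheafData.comap_comp,
          hpb.lift_fst]
        exact hk
      choose V hxV hVle g hg hVg using fun x : l ⁻¹ᵁ W.1 =>
        Groth.Divisors.exists_generator hEl x.1 (l ⁻¹ᵁ W.1) x.2
      apply TopCat.Sheaf.eq_of_locally_eq' T.sheaf (fun x => (V x).1) (l ⁻¹ᵁ W.1)
        (fun x => homOfLE (hVle x))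
      · intro x hx
        exact Opens.mem_iSup.2 ⟨⟨x, hx⟩, hxV _⟩
      intro x
      refine Eq.trans ?_ (map_zero _).symm
      have hgn : g x ^ n ∈ ((E ^ n).ideal W).map (l.appLE W.1 (V x).1 (hVle x)).hom := by
        rw [Scheme.IdealSheafData.ideal_pow, Pi.pow_apply, Ideal.map_pow,
          ← Groth.BlowUpBasics.ideal_comap l E W (V x) (hVle x), hVg x, Ideal.span_singleton_pow]
        exact Ideal.mem_span_singleton_self _
      have hall : ∀ c ∈ ((E ^ n).ideal W).map (l.appLE W.1 (V x).1 (hVle x)).hom,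
          c * l.appLE W.1 (V x).1 (hVle x) a = 0 := by
        intro c hc
        induction hc using Submodule.span_induction with
        | mem c hc =>
          obtain ⟨e, he, rfl⟩ := hc
          refine (map_mul (l.appLE W.1 (V x).1 (hVle x)).hom e a).symm.trans ?_
          rw [show e * a = 0 from hn e he, map_zero]
        | zero => rw [zero_mul]
        | add c d _ _ hc hd => rw [add_mul, hc, hd, add_zero]
        | smul c d _ hd => rw [smul_eq_mul, mul_assoc, hd, mul_zero]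
      have h0 := hall _ hgn
      have hnz : g x ^ n ∈ nonZeroDivisors Γ(T, (V x).1) := pow_mem (hg x).mem_nonZeroDivisors n
      exact (mem_nonZeroDivisors_iff_right.1 hnz) _ (by rw [mul_comm]; exact h0)
    let m := IsClosedImmersion.lift 𝒥.subschemeι l (by rwa [Scheme.IdealSheafData.ker_subschemeι])
    have hm : m ≫ 𝒥.subschemeι = l := IsClosedImmersion.lift_fac _ _ _
    refine ⟨m, (Category.assoc _ _ _).symm.trans ((congrArg (· ≫ p₁) hm).trans (hpb.lift_fst _ _ _)),
      fun m' hm' => ?_⟩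
    rw [← cancel_mono 𝒥.subschemeι, hm]
    apply hpb.hom_ext
    · rw [hpb.lift_fst, Category.assoc]
      exact hm'
    · rw [hpb.lift_snd]
      refine huniq _ ?_
      show ((m' ≫ 𝒥.subschemeι ≫ p₂) ≫ b) = k ≫ φ
      have hm'' : m' ≫ 𝒥.subschemeι ≫ p₁ = k := hm'
      simp only [Category.assoc, ← hpb.w]
      simp only [← Category.assoc] at hm'' ⊢
      rw [hm'']

/-- The map of the strict transform to the blown up base, compared with any blow-up of the source. -/
theorem exists_iso_strictTransform (hb : BlowUp.IsBlowUp b 𝓘) (hpb : IsPullback p₁ p₂ φ b)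
    (𝒥 : X'.IdealSheafData)
    (h𝒥 : ∀ (W : X'.affineOpens) (a : Γ(X', W.1)), a ∈ 𝒥.ideal W ↔
      BlowUp.KilledByPowerNear ((𝓘.comap φ).comap p₁) (Coh.structureModule X') W a)
    {Xb : Scheme.{u}} {q : Xb ⟶ X} (hq : BlowUp.IsBlowUp q (𝓘.comap φ)) (j : Xb ⟶ S')
    (hj : j ≫ b = q ≫ φ) :
    ∃ e : 𝒥.subscheme ≅ Xb, e.hom ≫ q = 𝒥.subschemeι ≫ p₁ ∧ e.hom ≫ j = 𝒥.subschemeι ≫ p₂ := by
  have hs := isBlowUp_strictTransform hb hpb 𝒥 h𝒥
  obtain ⟨e, he⟩ := Groth.BlowUpBasics.exists_iso_of_isBlowUp hs hq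
  refine ⟨e, he, Groth.BlowUpBasics.hom_ext_isBlowUp hb ?_ ?_⟩
  · rw [Category.assoc, hj, Category.assoc, ← hpb.w, reassoc_of% he]
  · rw [Category.assoc, hj, reassoc_of% he, ← Category.assoc, Scheme.IdealSheafData.comap_comp]
    exact hs.1

end Groth.StrictTransformBlowUp
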