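import Groth.Agent.SchemeMorphisms.EssDvr
import Groth.Agent.Limits.DVRCriteria
import Groth.Agent.S2654
import Groth.Agent.S0567
import Groth.Prelude.Def_EGA4b

/-!
# Valuative squares with discrete valuation rings essentially of finite type over an excellent base
-/

set_option autoImplicit false
set_option linter.style.haveILetI false
set_option backward.isDefEq.respectTransparency false

universe u

open CategoryTheory Limits AlgebraicGeometry IsLocalRing

namespace Groth.EssDvr

/-- Over a base whose affine opens are excellent, a specialization is realised by a discrete valuation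
ring essentially of finite type over the base. -/
theorem exists_ess_square {S U T : Scheme.{u}} (hS : ∀ V : S.affineOpens, EGA4.IsExcellent Γ(S, V.1))
    (t : T ⟶ S) [LocallyOfFiniteType t] (p : U ⟶ T) [LocallyOfFiniteType p] (x : U) (y' : T)
    (hsp : p x ⤳ y') (hne : y' ≠ p x) :
    ∃ (A : Type u) (_ : CommRing A) (_ : IsDomain A) (_ : IsDiscreteValuationRing A)
      (_ : Algebra A (U.residueField x)) (_ : IsFractionRing A (U.residueField x))
      (m : Spec (CommRingCat.of A) ⟶ T), m (closedPoint A) = y' ∧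
      Spec.map (CommRingCat.ofHom (algebraMap A (U.residueField x))) ≫ m = U.fromSpecResidueField x ≫ p ∧
      ∃ (V : S.affineOpens) (ψ : Γ(S, V.1) ⟶ CommRingCat.of A),
        Spec.map ψ ≫ V.2.fromSpec = m ≫ t ∧ ψ.hom.EssFiniteType := by
  haveI : IsLocallyNoetherian S := ⟨fun V => (hS V).1⟩
  haveI : IsLocallyNoetherian T := LocallyOfFiniteType.isLocallyNoetherian t
  obtain ⟨_, ⟨V, hV, rfl⟩, hyV, -⟩ :=
    S.isBasis_affineOpens.exists_subset_of_mem_open (Set.mem_univ (t y')) isOpen_univ
  obtain ⟨_, ⟨W, hW, rfl⟩, hyW, hWV⟩ :=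
    T.isBasis_affineOpens.exists_subset_of_mem_open (show y' ∈ ((t ⁻¹ᵁ V : T.Opens) : Set T) from hyV)
      (t ⁻¹ᵁ V).isOpen
  let κ : Γ(S, V) ⟶ T.presheaf.stalk y' := t.appLE V W hWV ≫ T.presheaf.germ W y' hyW
  have hκ : κ.hom.EssFiniteType := by
    letI := T.presheaf.algebra_section_stalk ⟨y', hyW⟩
    haveI := hW.isLocalization_stalk ⟨y', hyW⟩
    exact essFiniteType_comp (LocallyOfFiniteType.finiteType_appLE t hV hW hWV).essFiniteType
      (RingHom.essFiniteType_algebraMap.2 (Algebra.EssFiniteType.of_isLocalization (R := Γ(T, W))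
        (T.presheaf.stalk y') (hW.primeIdealOf ⟨y', hyW⟩).asIdeal.primeCompl))
  have h0 : ∃ r ∈ maximalIdeal (T.presheaf.stalk y'), (Groth.Limits.toResidue p x hsp).hom r ≠ 0 := by
    by_contra hcon
    push Not at hcon
    have : IsLocalHom (Groth.Limits.toResidue p x hsp).hom := ⟨fun r hr ↦ by
      by_contra hu
      exact not_isUnit_zero (hcon r hu ▸ hr)⟩
    apply hne
    have e1 := congrArg (fun m : Spec (U.residueField x) ⟶ T ↦ m (closedPoint (U.residueField x)))
      (Groth.Limits.toResidue_fromSpecStalk p x hsp)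
    simp only [Scheme.Hom.comp_apply, Scheme.fromSpecResidueField_apply] at e1
    rw [← e1]
    have : Spec.map (Groth.Limits.toResidue p x hsp) (closedPoint (U.residueField x)) =
        closedPoint (T.presheaf.stalk y') := comap_closedPoint (Groth.Limits.toResidue p x hsp).hom
    rw [this, T.fromSpecStalk_closedPoint]
  letI : Algebra Γ(S, V) (T.presheaf.stalk y') := κ.hom.toAlgebra
  haveI : Algebra.EssFiniteType Γ(S, V) (T.presheaf.stalk y') := hκ
  letI : Algebra (T.presheaf.stalk y') (U.residueField x) := (Groth.Limits.toResidue p x hsp).hom.toAlgebra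
  haveI : Algebra.EssFiniteType (T.presheaf.stalk y') (U.residueField x) :=
    Groth.Limits.essFiniteType_toResidue p x hsp
  have hq := hS ⟨V, hV⟩
  obtain ⟨A, iA, iD, iV, iAL, iF, φ, hloc, hcomp, hess⟩ := exists_dvr_essFiniteType
    ((Groth.Agent.S0567.result Γ(S, V)).1 (Groth.Agent.S2654.result Γ(S, V) ⟨hq.1, hq.2.2.1, hq.2.2.2⟩)).2 h0
  refine ⟨A, iA, iD, iV, iAL, iF, Spec.map (CommRingCat.ofHom φ) ≫ T.fromSpecStalk y', ?_, ?_,
    ⟨V, hV⟩, CommRingCat.ofHom (φ.comp κ.hom), ?_, hess⟩
  · rw [Scheme.Hom.comp_apply]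
    have : Spec.map (CommRingCat.ofHom φ) (closedPoint A) = closedPoint (T.presheaf.stalk y') :=
      comap_closedPoint φ
    rw [this]
    exact T.fromSpecStalk_closedPoint
  · rw [← Spec.map_comp_assoc, show CommRingCat.ofHom φ ≫ CommRingCat.ofHom (algebraMap A (U.residueField x)) =
      Groth.Limits.toResidue p x hsp from CommRingCat.hom_ext hcomp, Groth.Limits.toResidue_fromSpecStalk]
  · rw [show CommRingCat.ofHom (φ.comp κ.hom) = t.appLE V W hWV ≫ T.presheaf.germ W y' hyW ≫ CommRingCat.ofHom φ from rfl]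
    rw [Spec.map_comp, Spec.map_comp, Category.assoc, Category.assoc, IsAffineOpen.SpecMap_appLE_fromSpec t hV hW hWV,
      ← Category.assoc (Spec.map (T.presheaf.germ W y' hyW)), ← hW.fromSpecStalk_eq_fromSpecStalk hyW,
      IsAffineOpen.fromSpecStalk]
    simp only [Category.assoc]

end Groth.EssDvr
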