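import Groth.Agent.SchemeMorphisms.SchFinPairs

/-!
Connectedness of schematic finite spaces.
-/

universe u

namespace Groth.SchFinAux

open SchFin PrimeSpectrum

theorem idem_eq_zero_or_one {R : Type u} [CommRing R] [ConnectedSpace (PrimeSpectrum R)] {e : R}
    (he : IsIdempotentElem e) : e = 0 ∨ e = 1 := by
  rcases _root_.isClopen_iff.mp (PrimeSpectrum.isClopen_iff.mpr ⟨e, he, rfl⟩) with h | h
  · exact Or.inl (basicOpen_injOn_isIdempotentElem he (by simp [IsIdempotentElem])
      (SetLike.ext' (h.trans (by simp))))
  · exact Or.inr (basicOpen_injOn_isIdempotentElem he (by simp [IsIdempotentElem])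
      (SetLike.ext' (h.trans (by simp))))

theorem connectedSpace_of_idem {R : Type u} [CommRing R] [Nontrivial R]
    (h : ∀ e : R, IsIdempotentElem e → e = 0 ∨ e = 1) : ConnectedSpace (PrimeSpectrum R) := by
  refine connectedSpace_iff_clopen.mpr ⟨inferInstance, fun s hs => ?_⟩
  obtain ⟨e, he, rfl⟩ := PrimeSpectrum.isClopen_iff.mp hs
  rcases h e he with rfl | rfl <;> simp

theorem nontrivial_of_pw {X : RSpace.{u}} (h : X.IsPwConnected) (p : X.pt) : Nontrivial (X.ring p) := by
  have := h p
  exact PrimeSpectrum.nonempty_iff_nontrivial.mp inferInstance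

/-- Well-connected means connected poset and connected pointwise spectra. -/
theorem wellConnected_iff (X : RSpace.{u}) :
    X.IsWellConnected ↔ (X.IsTopConnected ∧ X.IsPwConnected) := by
  classical
  refine and_congr_left fun hpw => ⟨fun hc => ?_, fun hc => ?_⟩
  · have hc' : ConnectedSpace (PrimeSpectrum (X.sectRing Set.univ)) := hc
    have hnt : Nontrivial (X.sectRing Set.univ) := PrimeSpectrum.nonempty_iff_nontrivial.mp inferInstance
    refine ⟨?_, fun p => ?_⟩
    · by_contra hne
      have : IsEmpty X.pt := not_nonempty_iff.mp hne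
      exact zero_ne_one (α := X.sectRing Set.univ)
        (Subtype.ext (funext fun q => (this.false q.1).elim))
    by_contra hq
    simp only [not_forall] at hq
    obtain ⟨r, hr⟩ := hq
    let e : X.sectRing Set.univ :=
      ⟨fun q => if Relation.EqvGen (fun a b : X.pt => a ≤ b) p q.1 then 1 else 0, fun q q' h => by
        have hiff : Relation.EqvGen (fun a b : X.pt => a ≤ b) p q.1 ↔
            Relation.EqvGen (fun a b : X.pt => a ≤ b) p q'.1 :=
          ⟨fun h' => .trans _ _ _ h' (.rel _ _ h),
            fun h' => .trans _ _ _ h' (.symm _ _ (.rel _ _ h))⟩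
        simp only [hiff]
        split_ifs <;> simp⟩
    have he : IsIdempotentElem e := Subtype.ext (funext fun q => by
      simp only [e, MulMemClass.coe_mul, Pi.mul_apply]
      split_ifs <;> simp)
    rcases idem_eq_zero_or_one he with h | h
    · have := congrArg (fun s : X.sectRing Set.univ => s.1 ⟨p, trivial⟩) h
      have hnp := nontrivial_of_pw hpw p
      simp [e, Relation.EqvGen.refl] at this
    · have := congrArg (fun s : X.sectRing Set.univ => s.1 ⟨r, trivial⟩) h
      have hnr := nontrivial_of_pw hpw r
      simp [e, hr] at this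
  · obtain ⟨⟨p⟩, hz⟩ := hc
    have := nontrivial_of_pw hpw p
    have : Nontrivial (X.sectRing Set.univ) :=
      (X.evalRing Set.univ ⟨p, trivial⟩).domain_nontrivial
    refine connectedSpace_of_idem fun e he => ?_
    have he' : ∀ q : X.pt, e.1 ⟨q, trivial⟩ = 0 ∨ e.1 ⟨q, trivial⟩ = 1 := fun q => by
      have := hpw q
      exact idem_eq_zero_or_one (congrArg (fun s : X.sectRing Set.univ => s.1 ⟨q, trivial⟩) he)
    have hstep : ∀ a b : X.pt, a ≤ b → (e.1 ⟨a, trivial⟩ = 0 ↔ e.1 ⟨b, trivial⟩ = 0) := fun a b h => by
      have hres := e.2 ⟨a, trivial⟩ ⟨b, trivial⟩ h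
      constructor <;> intro h0
      · rw [← hres, h0, map_zero]
      · rcases he' a with ha | ha
        · exact ha
        · have := nontrivial_of_pw hpw b
          rw [ha, map_one, h0] at hres
          exact absurd hres one_ne_zero
    have hall : ∀ a b : X.pt, e.1 ⟨a, trivial⟩ = 0 ↔ e.1 ⟨b, trivial⟩ = 0 := fun a b => by
      induction hz a b with
      | rel a b h => exact hstep a b h
      | refl a => exact Iff.rfl
      | symm a b _ ih => exact ih.symm
      | trans a b c _ _ ih ih' => exact ih.trans ih'
    rcases he' p with h | h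
    · exact Or.inl (Subtype.ext (funext fun q => (hall p q.1).mp h))
    · refine Or.inr (Subtype.ext (funext fun q => (he' q.1).resolve_left fun h0 => ?_))
      have := (hall p q.1).mpr h0
      rw [h] at this
      exact one_ne_zero this

/-- Algebra maps between trivial algebras over a connected ring are reindexings. -/
theorem exists_index {R : Type u} [CommRing R] [ConnectedSpace (PrimeSpectrum R)] {F : Type}
    [Finite F] (χ : (F → R) →ₐ[R] R) :
    ∃! i, ∀ g : F → R, χ g = g i := by
  classical
  have := Fintype.ofFinite F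
  have : Nontrivial R := PrimeSpectrum.nonempty_iff_nontrivial.mp inferInstance
  have hd : ∀ i, χ (Pi.single i 1) = 0 ∨ χ (Pi.single i 1) = 1 := fun i => idem_eq_zero_or_one (by
    rw [IsIdempotentElem, ← map_mul]
    congr 1
    ext j
    by_cases hij : j = i <;> simp [hij])
  obtain ⟨i, hi⟩ : ∃ i, χ (Pi.single i 1) = 1 := by
    by_contra hne
    simp only [not_exists] at hne
    have h1 : χ (∑ i, Pi.single i 1) = 0 := by
      rw [map_sum]; exact Finset.sum_eq_zero fun i _ => (hd i).resolve_right (hne i)
    rw [show (∑ i, Pi.single i (1 : R)) = (1 : F → R) from Finset.univ_sum_single (1 : F → R)] at h1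
    exact one_ne_zero ((map_one χ).symm.trans h1)
  have key : ∀ g : F → R, χ g = g i := fun g => by
    have h : g * Pi.single i 1 = g i • Pi.single i (1 : R) := by
      ext j
      by_cases hij : j = i
      · subst hij; simp
      · simp [hij]
    have := congrArg χ h
    rw [map_mul, map_smul, hi, mul_one, smul_eq_mul, mul_one] at this
    exact this
  refine ⟨i, key, fun j hj => ?_⟩
  by_contra hne
  have h := (key (Pi.single j 1)).symm.trans (hj _)
  simp [Ne.symm hne] at h

/-- Morphisms of trivial covers on a well-connected space are induced by one map of index sets. -/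
theorem exists_reindex {X : RSpace.{u}} (hW : X.IsWellConnected) (F E : Type) [Finite F]
    (f : ∀ p : X.pt, (F → X.ring p) →ₐ[X.ring p] (E → X.ring p))
    (hf : ∀ (p q : X.pt) (h : p ≤ q) (g : F → X.ring p) (e : E),
      X.res h (f p g e) = f q (fun i => X.res h (g i)) e) :
    ∃ φ : E → F, ∀ (p : X.pt) (g : F → X.ring p) (e : E), f p g e = g (φ e) := by
  classical
  obtain ⟨⟨p₀⟩, hz⟩ := ((wellConnected_iff X).mp hW).1
  have hpw := hW.2
  have hloc : ∀ p e, ∃! i, ∀ g : F → X.ring p, f p g e = g i := fun p e => by
    have := hpw p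
    exact exists_index ((Pi.evalAlgHom (X.ring p) (fun _ : E => X.ring p) e).comp (f p))
  choose φ hφ huniq using hloc
  have hstep : ∀ p q, p ≤ q → φ p = φ q := fun p q h => funext fun e => by
    by_contra hne
    have := nontrivial_of_pw hpw q
    have h1 := hf p q h (Pi.single (φ p e) 1) e
    rw [hφ p e, hφ q e] at h1
    simp [Ne.symm hne] at h1
  have hall : ∀ p q, φ p = φ q := fun p q => by
    induction hz p q with
    | rel a b h => exact hstep a b h
    | refl a => rfl
    | symm a b _ ih => exact ih.symm
    | trans a b c _ _ ih ih' => exact ih.trans ih'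
  exact ⟨φ p₀, fun p g e => by rw [hφ p e, hall p p₀]⟩

variable {X : RSpace.{u}} (hX : X.IsSchematic)
include hX

/-- The kernel of a geometric point does not lift above its base. -/
theorem geomPt_no_lift {Ω : Type u} [Field Ω] (f : SchFin.Hom (RSpace.point Ω) X)
    (hf : f.IsSchematic) {y' : X.pt} (hy : f.fn PUnit.unit < y') (P : Ideal (X.ring y')) [P.IsPrime] :
    P.comap (X.res hy.le) ≠ RingHom.ker (pointHom f) := by
  intro hP
  obtain ⟨F, _, i, j, hij⟩ := exists_field_hom hX hy.le (pointHom f) P hP
  let y := f.fn PUnit.unit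
  let φ : Coef (RSpace.point Ω) (f.wedge PUnit.unit y) (X.ring y) :=
    Coef.ofHom f y _ (f.wedge_subset_pre PUnit.unit y)
  let φ' : Coef (RSpace.point Ω) (f.wedge PUnit.unit y') (X.ring y') :=
    Coef.ofHom f y' _ (f.wedge_subset_pre PUnit.unit y')
  have hbc : IsBCAlong (X.res hy.le)
      (resH (RSpace.point Ω).str (f.subTgt PUnit.unit hy.le : Coef.Sub φ φ') 0) :=
    (hf.2.2 0 _ _ le_rfl y y' hy.le).2
  let q : f.wedge PUnit.unit y := ⟨PUnit.unit, le_rfl, le_rfl⟩
  obtain ⟨z, hz⟩ := exists_of_compatible (φ := φ) (M := (RSpace.point Ω).str) (fun _ => (1 : Ω))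
    fun _ _ _ => rfl
  letI : Module (X.ring y') F := Module.compHom F j
  let ψ : H φ (RSpace.point Ω).str 0 →ₛₗ[X.res hy.le] F :=
    { toFun := fun w => i (show Ω from ev φ (RSpace.point Ω).str q w)
      map_add' := fun a b => by rw [map_add]; exact map_add i _ _
      map_smul' := fun a w => by
        rw [LinearMap.map_smulₛₗ]
        change i (pointHom f (X.res le_rfl a) * _) = j (X.res hy.le a) * _
        rw [map_mul, X.res_self]
        exact congrArg (· * _) (RingHom.congr_fun hij a).symm }
  obtain ⟨L, hL⟩ := bc_exists_lift hbc ψ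
  have h0 : resH (RSpace.point Ω).str (f.subTgt PUnit.unit hy.le : Coef.Sub φ φ') 0 z = 0 :=
    ev_ext fun r => absurd (show y' ≤ f.fn PUnit.unit from r.2.2) hy.not_ge
  have := (congrArg L h0).symm.trans (hL z)
  rw [map_zero] at this
  exact one_ne_zero (α := F) (this.trans ((congrArg i (hz q)).trans (map_one i))).symm

end Groth.SchFinAux
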