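import Groth.Agent.SchemeMorphisms.SchFinBasic
import Mathlib.RingTheory.Flat.FaithfullyFlat.Descent
import Mathlib.RingTheory.RingHom.Flat

/-!
Pairs, residue fields and geometric points of schematic finite spaces.
-/

universe u

open TensorProduct

namespace Groth.SchFinAux

open SchFin

/-- A faithfully flat ring epimorphism is bijective. -/
theorem bijective_of_faithfullyFlat_epi {A B : Type u} [CommRing A] [CommRing B] [Algebra A B]
    [Module.FaithfullyFlat A B]
    (h : ∀ (T : Type u) [CommRing T] (g₁ g₂ : B →+* T),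
      g₁.comp (algebraMap A B) = g₂.comp (algebraMap A B) → g₁ = g₂) :
    Function.Bijective (algebraMap A B) := by
  have he := h (B ⊗[A] B) (Algebra.TensorProduct.includeLeft : B →ₐ[A] B ⊗[A] B).toRingHom
    (Algebra.TensorProduct.includeRight : B →ₐ[A] B ⊗[A] B).toRingHom
    (RingHom.ext fun a => ((Algebra.TensorProduct.includeLeft : B →ₐ[A] B ⊗[A] B).commutes a).trans
      ((Algebra.TensorProduct.includeRight : B →ₐ[A] B ⊗[A] B).commutes a).symm)
  have heq : ∀ y : B, (y ⊗ₜ[A] (1 : B) : B ⊗[A] B) = 1 ⊗ₜ[A] y := fun y => RingHom.congr_fun he y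
  refine Module.FaithfullyFlat.bijective_of_tensorProduct (S := B) ⟨fun a b hab => ?_, fun t => ?_⟩
  · change a ⊗ₜ[A] (1 : B) = b ⊗ₜ[A] 1 at hab
    simpa using congrArg (Algebra.TensorProduct.lmul' A (S := B)) hab
  · induction t using TensorProduct.induction_on with
    | zero => exact ⟨0, map_zero _⟩
    | tmul a b =>
      refine ⟨a * b, ?_⟩
      change (a * b) ⊗ₜ[A] (1 : B) = a ⊗ₜ[A] b
      rw [show ((a * b) ⊗ₜ[A] (1 : B) : B ⊗[A] B) = (a ⊗ₜ 1) * (b ⊗ₜ 1) by simp, heq b]
      simp
    | add a b ha hb =>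
      obtain ⟨a', rfl⟩ := ha
      obtain ⟨b', rfl⟩ := hb
      exact ⟨a' + b', map_add _ _ _⟩

variable {X : RSpace.{u}} (hX : X.IsSchematic)
include hX

theorem localRingHom_bijective {x y : X.pt} (h : x ≤ y) (P : Ideal (X.ring y)) [P.IsPrime]
    (Q : Ideal (X.ring x)) [Q.IsPrime] (hQP : Q = P.comap (X.res h)) :
    Function.Bijective (Localization.localRingHom Q P (X.res h) hQP) := by
  set f := Localization.localRingHom Q P (X.res h) hQP with hf
  letI := f.toAlgebra
  have : Module.Flat (Localization.AtPrime Q) (Localization.AtPrime P) :=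
    RingHom.flat_algebraMap_iff.mp (show f.Flat from RingHom.Flat.localRingHom (flat_res hX h) P Q hQP)
  have : IsLocalHom (algebraMap (Localization.AtPrime Q) (Localization.AtPrime P)) :=
    Localization.isLocalHom_localRingHom Q P (X.res h) hQP
  have : Module.FaithfullyFlat (Localization.AtPrime Q) (Localization.AtPrime P) :=
    Module.FaithfullyFlat.of_flat_of_isLocalHom
  refine bijective_of_faithfullyFlat_epi fun T _ g₁ g₂ hg => ?_
  refine IsLocalization.ringHom_ext P.primeCompl (res_epi hX h _ _ ?_)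
  ext a
  have := RingHom.congr_fun hg (algebraMap _ _ a)
  change g₁ (f (algebraMap _ _ a)) = g₂ (f (algebraMap _ _ a)) at this
  rwa [hf, Localization.localRingHom_to_map] at this

theorem κMap_bijective (a b : X.Pair) (h : a.1 ≤ b.1)
    (hp : PrimeSpectrum.comap (X.res h) b.2 = a.2) :
    Function.Bijective (RSpace.Pair.κMap a b h hp) := by
  refine ⟨RingHom.injective _, fun z => ?_⟩
  have hQP : a.2.asIdeal = b.2.asIdeal.comap (X.res h) := by rw [← hp]; rfl
  obtain ⟨w, rfl⟩ := Ideal.Quotient.mk_surjective (I := IsLocalRing.maximalIdeal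
    (Localization.AtPrime b.2.asIdeal)) z
  obtain ⟨v, rfl⟩ := (localRingHom_bijective hX h b.2.asIdeal a.2.asIdeal hQP).2 w
  exact ⟨IsLocalRing.residue _ v, rfl⟩

variable (hff : ∀ s a b : X.pt, s ≤ a → s ≤ b → (X.up a ∩ X.up b).Nonempty →
      Module.FaithfullyFlat (X.sectRing (X.up a ∩ X.up b)) ((q : ↥(X.up a ∩ X.up b)) → X.ring q.1))
include hff

theorem pairRel_trans {a b c : X.Pair} (h₁ : X.PairRel a b) (h₂ : X.PairRel b c) : X.PairRel a c := by
  obtain ⟨z₁, ha, hb, r₁, ha₁, hb₁⟩ := h₁
  obtain ⟨z₂, hb', hc, r₂, hb₂, hc₂⟩ := h₂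
  obtain ⟨z, h1, h2, r, hr1, hr2⟩ := pairRel_of_comap_eq hX hff hb hb' r₁ r₂ (hb₁.trans hb₂.symm)
  change z₁ ≤ z at h1
  change z₂ ≤ z at h2
  refine ⟨z, ha.trans h1, hc.trans h2, r, ?_, ?_⟩
  · refine Eq.trans ?_ ha₁
    rw [show r₁ = _ from hr1.symm, ← PrimeSpectrum.comap_comp_apply]
    rw [show (X.res h1).comp (X.res ha) = X.res (ha.trans h1) from
      RingHom.ext fun t => X.res_comp ha h1 t]
  · refine Eq.trans ?_ hc₂
    rw [show r₂ = _ from hr2.symm, ← PrimeSpectrum.comap_comp_apply]
    rw [show (X.res h2).comp (X.res hc) = X.res (hc.trans h2) from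
      RingHom.ext fun t => X.res_comp hc h2 t]

omit hX hff in
theorem pairRel_refl (a : X.Pair) : X.PairRel a a := by
  have : X.res (le_refl a.1) = RingHom.id _ := RingHom.ext (X.res_self _)
  exact ⟨a.1, le_rfl, le_rfl, a.2, by rw [this]; rfl, by rw [this]; rfl⟩

omit hX hff in
theorem pairRel_symm {a b : X.Pair} : X.PairRel a b → X.PairRel b a :=
  fun ⟨z, ha, hb, r, h1, h2⟩ => ⟨z, hb, ha, r, h2, h1⟩

theorem pairRel_equivalence : Equivalence X.PairRel :=
  ⟨pairRel_refl, pairRel_symm, pairRel_trans hX hff⟩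

theorem exists_max (a₀ : X.Pair) : ∃ a : X.Pair, X.PairRel a₀ a ∧
    ∀ b, X.PairRel a b → b.1 ≤ a.1 := by
  obtain ⟨x, hx⟩ := Set.Finite.exists_maximal (Set.toFinite {x : X.pt | ∃ P, X.PairRel a₀ ⟨x, P⟩})
    ⟨a₀.1, a₀.2, pairRel_refl a₀⟩
  obtain ⟨P, hP⟩ := hx.prop
  refine ⟨⟨x, P⟩, hP, fun b hb => ?_⟩
  obtain ⟨z, h1, h2, r, hr1, hr2⟩ := hb
  have hz : X.PairRel a₀ ⟨z, r⟩ := pairRel_trans hX hff hP
    ⟨z, h1, le_rfl, r, hr1, by
      rw [show X.res (le_refl z) = RingHom.id _ from RingHom.ext (X.res_self _)]; rfl⟩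
  exact h2.trans (hx.le_of_ge ⟨r, hz⟩ h1)

omit hX hff in
theorem eq_of_pairRel_of_fst_eq {x : X.pt} {P Q : PrimeSpectrum (X.ring x)}
    (h : X.PairRel ⟨x, P⟩ ⟨x, Q⟩) : P = Q := by
  obtain ⟨z, h1, h2, r, hr1, hr2⟩ := h
  exact hr1.symm.trans hr2

omit hX hff in
/-- Along a ring epimorphism linearity descends. -/
theorem map_smul_of_epi {A B : Type u} [CommRing A] [CommRing B] (i : A →+* B)
    (hi : ∀ (T : Type u) [CommRing T] (g₁ g₂ : B →+* T), g₁.comp i = g₂.comp i → g₁ = g₂)
    {M N : Type u} [AddCommGroup M] [AddCommGroup N] [Module B M] [Module B N] (L : M →+ N)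
    (hL : ∀ a m, L (i a • m) = i a • L m) (b : B) (m : M) : L (b • m) = b • L m := by
  letI := i.toAlgebra
  letI : Module A N := Module.compHom N i
  haveI : IsScalarTower A B N := IsScalarTower.of_algebraMap_smul fun _ _ => rfl
  have he := hi (B ⊗[A] B) (Algebra.TensorProduct.includeLeft : B →ₐ[A] B ⊗[A] B).toRingHom
    (Algebra.TensorProduct.includeRight : B →ₐ[A] B ⊗[A] B).toRingHom
    (RingHom.ext fun a => ((Algebra.TensorProduct.includeLeft : B →ₐ[A] B ⊗[A] B).commutes a).trans
      ((Algebra.TensorProduct.includeRight : B →ₐ[A] B ⊗[A] B).commutes a).symm)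
  let β : B →ₗ[A] B →ₗ[A] N := LinearMap.mk₂ A (fun b₁ b₂ => b₁ • L (b₂ • m))
    (fun _ _ _ => add_smul _ _ _) (fun a b₁ b₂ => smul_assoc a b₁ (L (b₂ • m)))
    (fun b₁ b₂ b₂' => by rw [add_smul, map_add, smul_add])
    (fun a b₁ b₂ => by
      rw [show a • b₂ = i a * b₂ from rfl, mul_smul, hL]
      exact smul_comm b₁ (i a) (L (b₂ • m)))
  have h := congrArg (TensorProduct.lift β) (RingHom.congr_fun he b)
  change b • L ((1 : B) • m) = (1 : B) • L (b • m) at h
  rw [one_smul, one_smul] at h
  exact h.symm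

/-- At a maximal pair nothing survives above points not below it. -/
theorem eq_zero_of_semilinear {Ω : Type u} [Field Ω] {x y y' : X.pt} (g : X.ring x →+* Ω)
    (ha : ∀ b : X.Pair, X.PairRel ⟨x, ⟨RingHom.ker g, RingHom.ker_isPrime g⟩⟩ b → b.1 ≤ x)
    (hyx : y ≤ x) (hy : y ≤ y') (hy'x : ¬ y' ≤ x) {Q : Type u} [AddCommGroup Q]
    [Module (X.ring y') Q] (ψ : Ω →+ Q)
    (hψ : ∀ a t, ψ (g (X.res hyx a) * t) = X.res hy a • ψ t) (t : Ω) : ψ t = 0 := by
  letI : Algebra (X.ring y) Ω := (g.comp (X.res hyx)).toAlgebra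
  letI : Algebra (X.ring y) (X.ring y') := (X.res hy).toAlgebra
  letI : Module (X.ring y) Q := Module.compHom Q (X.res hy)
  haveI : IsScalarTower (X.ring y) (X.ring y') Q := IsScalarTower.of_algebraMap_smul fun _ _ => rfl
  have hT : Subsingleton (Ω ⊗[X.ring y] X.ring y') := by
    by_contra hns
    have := not_subsingleton_iff_nontrivial.mp hns
    obtain ⟨m, hm⟩ := Ideal.exists_maximal (Ω ⊗[X.ring y] X.ring y')
    let i : Ω →+* _ ⧸ m := (Ideal.Quotient.mk m).comp
      (Algebra.TensorProduct.includeLeft : Ω →ₐ[X.ring y] Ω ⊗[X.ring y] X.ring y').toRingHom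
    let j : X.ring y' →+* _ ⧸ m := (Ideal.Quotient.mk m).comp
      (Algebra.TensorProduct.includeRight : X.ring y' →ₐ[X.ring y] Ω ⊗[X.ring y] X.ring y').toRingHom
    have hij : i.comp (g.comp (X.res hyx)) = j.comp (X.res hy) := RingHom.ext fun a =>
      congrArg (Ideal.Quotient.mk m)
        (((Algebra.TensorProduct.includeLeft :
          Ω →ₐ[X.ring y] Ω ⊗[X.ring y] X.ring y').commutes a).trans
        ((Algebra.TensorProduct.includeRight :
          X.ring y' →ₐ[X.ring y] Ω ⊗[X.ring y] X.ring y').commutes a).symm)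
    have := Ideal.Quotient.isDomain_iff_prime m |>.mpr hm.isPrime
    refine hy'x (ha ⟨y', ⟨RingHom.ker j, RingHom.ker_isPrime j⟩⟩ (pairRel_of_comap_eq hX hff hyx hy _ _ ?_))
    refine PrimeSpectrum.ext ?_
    change (RingHom.ker g).comap (X.res hyx) = (RingHom.ker j).comap (X.res hy)
    rw [RingHom.comap_ker, RingHom.comap_ker, ← hij]
    exact (RingHom.ker_comp_of_injective _ (RingHom.injective i)).symm
  let β : Ω →ₗ[X.ring y] X.ring y' →ₗ[X.ring y] Q := LinearMap.mk₂ _ (fun t b => b • ψ t)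
    (fun t t' b => by rw [map_add, smul_add])
    (fun a t b => by
      rw [show a • t = g (X.res hyx a) * t from rfl, hψ]
      exact smul_comm b (X.res hy a) (ψ t))
    (fun t b b' => add_smul _ _ _) (fun a t b => smul_assoc a b (ψ t))
  have h := congrArg (TensorProduct.lift β) (Subsingleton.elim (t ⊗ₜ[X.ring y] (1 : X.ring y')) 0)
  rw [map_zero, TensorProduct.lift.tmul] at h
  change (1 : X.ring y') • ψ t = 0 at h
  rwa [one_smul] at h

omit hX hff in
/-- The ring map of a morphism from a point. -/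
def pointHom {Ω : Type u} [Field Ω] (f : SchFin.Hom (RSpace.point Ω) X) :
    X.ring (f.fn PUnit.unit) →+* Ω :=
  f.app PUnit.unit

/-- A ring map to a field at a maximal pair gives a schematic morphism from the point. -/
theorem isSchematic_point {Ω : Type u} [Field Ω] (f : SchFin.Hom (RSpace.point Ω) X)
    (ha : ∀ b : X.Pair, X.PairRel ⟨f.fn PUnit.unit,
      ⟨RingHom.ker (pointHom f), RingHom.ker_isPrime (pointHom f)⟩⟩ b →
        b.1 ≤ f.fn PUnit.unit) :
    f.IsSchematic := by
  have hΩ : (RSpace.point Ω).IsFinSp :=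
    ⟨fun _ => inferInstanceAs (IsNoetherianRing Ω), fun _ _ _ => RingHom.Flat.id Ω⟩
  refine ⟨hΩ, hX.1, fun n x x' hx y y' hy => ?_⟩
  obtain ⟨⟩ := x
  obtain ⟨⟩ := x'
  constructor
  · -- the source direction is the identity
    refine bc_mk (fun Q _ _ ψ => ?_) (fun Q _ _ L₁ L₂ h => ?_)
    · refine ⟨{ toFun := ψ, map_add' := ψ.map_add, map_smul' := fun a m => ψ.map_smulₛₗ a m },
        fun m => ?_⟩
      obtain ⟨c, rfl⟩ := Submodule.mkQ_surjective _ m
      rfl
    · refine LinearMap.ext fun m => ?_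
      have := h m
      obtain ⟨c, rfl⟩ := Submodule.mkQ_surjective _ m
      exact this
  · rcases n with - | k
    · let U : Set (RSpace.point Ω).pt := f.wedge PUnit.unit y
      let U' : Set (RSpace.point Ω).pt := f.wedge PUnit.unit y'
      let φ : Coef (RSpace.point Ω) U (X.ring y) :=
        Coef.ofHom f y _ (f.wedge_subset_pre PUnit.unit y)
      let φ' : Coef (RSpace.point Ω) U' (X.ring y') :=
        Coef.ofHom f y' _ (f.wedge_subset_pre PUnit.unit y')
      change IsBCAlong (X.res hy)
        (resH (RSpace.point Ω).str (f.subTgt PUnit.unit hy : Coef.Sub φ φ') 0)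
      by_cases hyx : y ≤ f.fn PUnit.unit
      swap
      · have hz : ∀ z : H φ (RSpace.point Ω).str 0, z = 0 := fun z =>
          ev_ext fun r => absurd (show y ≤ f.fn PUnit.unit from r.2.2) hyx
        have hw : ∀ w : H φ' (RSpace.point Ω).str 0, w = 0 := fun w =>
          ev_ext fun r => absurd (hy.trans (show y' ≤ f.fn PUnit.unit from r.2.2)) hyx
        exact bc_mk (fun Q _ _ ψ => ⟨0, fun z => by rw [hz z, map_zero, map_zero, map_zero]⟩)
          (fun Q _ _ L₁ L₂ _ => LinearMap.ext fun w => by rw [hw w, map_zero, map_zero])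
      let q : U := ⟨PUnit.unit, le_rfl, hyx⟩
      have hsec : ∀ t : Ω, ∃ z : H φ (RSpace.point Ω).str 0,
          ev φ (RSpace.point Ω).str q z = t := fun t => by
        obtain ⟨z, hz⟩ := exists_of_compatible (φ := φ) (M := (RSpace.point Ω).str) (fun _ => t)
          fun _ _ _ => rfl
        exact ⟨z, hz q⟩
      choose sec hsec using hsec
      have hunique : ∀ z z', ev φ (RSpace.point Ω).str q z = ev φ (RSpace.point Ω).str q z' →
          z = z' := fun z z' hz => ev_ext fun r => by
        obtain rfl : r = q := Subtype.ext rfl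
        exact hz
      let secHom : Ω →+ H φ (RSpace.point Ω).str 0 := AddMonoidHom.mk' sec fun t t' =>
        hunique _ _ (by rw [hsec, map_add, hsec, hsec]; rfl)
      have hsmul : ∀ (a : X.ring y) (t : Ω),
          secHom (pointHom f (X.res hyx a) * t) = a • secHom t := fun a t =>
        hunique _ _ (by
          change ev φ _ q (sec _) = ev φ _ q (a • sec t)
          rw [hsec, LinearMap.map_smulₛₗ, hsec]; rfl)
      by_cases hy'x : y' ≤ f.fn PUnit.unit
      · -- both are the field
        let q' : U' := ⟨PUnit.unit, le_rfl, hy'x⟩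
        have hext : ∀ w w' : H φ' (RSpace.point Ω).str 0,
            ev φ' (RSpace.point Ω).str q' w = ev φ' (RSpace.point Ω).str q' w' → w = w' :=
          fun w w' hw => ev_ext fun r => by
            obtain rfl : r = q' := Subtype.ext rfl
            exact hw
        have hres : ∀ w, resH (RSpace.point Ω).str (f.subTgt PUnit.unit hy : Coef.Sub φ φ') 0
            (sec (ev φ' (RSpace.point Ω).str q' w)) = w := fun w => hext _ _ (by
          rw [ev_resH]; exact hsec _)
        refine bc_mk (fun Q _ _ ψ => ?_) (fun Q _ _ L₁ L₂ h => ?_)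
        · let L₀ : H φ' (RSpace.point Ω).str 0 →+ Q :=
            AddMonoidHom.mk' (fun w => ψ (secHom (ev φ' (RSpace.point Ω).str q' w)))
              fun w w' => by rw [map_add]; exact (congrArg ψ (map_add secHom _ _)).trans (map_add ψ _ _)
          have hbase : ∀ (a : X.ring y) (w), L₀ (X.res hy a • w) = X.res hy a • L₀ w := fun a w => by
            change ψ (secHom _) = X.res hy a • ψ (secHom _)
            rw [← LinearMap.map_smulₛₗ, ← hsmul, LinearMap.map_smulₛₗ]
            refine congrArg ψ (congrArg secHom ?_)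
            exact congrArg (fun u : Ω => u * (show Ω from ev φ' (RSpace.point Ω).str q' w))
              (congrArg (pointHom f) (X.res_comp _ _ a))
          refine ⟨{ toFun := L₀, map_add' := L₀.map_add, map_smul' :=
              map_smul_of_epi (X.res hy) (fun T _ => res_epi hX hy) L₀ hbase }, fun z => ?_⟩
          change ψ (sec _) = ψ z
          exact congrArg ψ (hunique _ _ ((hsec _).trans
            (ev_resH (f.subTgt PUnit.unit hy : Coef.Sub φ φ') z q')))
        · refine LinearMap.ext fun w => ?_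
          rw [← hres w]
          exact h _
      · -- the target is zero
        have hzero : ∀ w : H φ' (RSpace.point Ω).str 0, w = 0 := fun w =>
          ev_ext fun r => absurd (show y' ≤ f.fn PUnit.unit from r.2.2) hy'x
        refine bc_mk (fun Q _ _ ψ => ⟨0, fun z => ?_⟩) (fun Q _ _ L₁ L₂ _ => LinearMap.ext fun w => by
          rw [hzero w, map_zero, map_zero])
        rw [LinearMap.zero_apply,
          show z = secHom (ev φ (RSpace.point Ω).str q z) from hunique _ _ (hsec _).symm]
        exact (eq_zero_of_semilinear hX hff (pointHom f) ha hyx hy hy'x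
          (ψ.toAddMonoidHom.comp secHom) (fun a t => by
            change ψ (secHom _) = X.res hy a • ψ (secHom t)
            rw [hsmul, LinearMap.map_smulₛₗ]) _).symm
    · have hchain : ∀ {U : Set (RSpace.point Ω).pt}, IsEmpty (Chain U (k + 1)) := fun {U} =>
        ⟨fun σ => by
          have h01 := σ.injective (Subtype.ext (show (σ 0).1 = (σ 1).1 from rfl))
          simp [Fin.ext_iff] at h01⟩
      have hsub : ∀ {U : Set (RSpace.point Ω).pt} {R : Type u} [CommRing R]
          (φ : Coef (RSpace.point Ω) U R), Subsingleton (H φ (RSpace.point Ω).str (k + 1)) :=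
        fun {U R} _ φ => ⟨fun a b => by
          obtain ⟨c, rfl⟩ := Submodule.mkQ_surjective _ a
          obtain ⟨c', rfl⟩ := Submodule.mkQ_surjective _ b
          exact congrArg _ (Subtype.ext (funext fun σ => (hchain.false σ).elim))⟩
      refine bc_mk (fun Q _ _ ψ => ⟨0, fun z => ?_⟩) (fun Q _ _ L₁ L₂ _ => LinearMap.ext fun w => ?_)
      · rw [(hsub _).elim z 0, map_zero, map_zero, map_zero]
      · rw [(hsub _).elim w 0, map_zero, map_zero]

end Groth.SchFinAux
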