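import Groth.Agent.SchemeMorphisms.SchFinBasic
import Mathlib.RingTheory.Etale.Descent
import Mathlib.RingTheory.Etale.Pi
import Mathlib.RingTheory.Finiteness.Descent
import Mathlib.RingTheory.Finiteness.FinitePresentationLocal
import Mathlib.RingTheory.Flat.FaithfullyFlat.Algebra
import Mathlib.LinearAlgebra.TensorProduct.Pi

/-!
Criteria over an affine up-closed subset of a finite space: the sections over the subset base change to
the value at every point, and properties of algebras descend along the product of the rings of the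
points.
-/

universe u

set_option linter.style.haveILetI false

open TensorProduct

namespace Groth.SchFinAux

section Descent

variable {S : Type u} [CommRing S] {ι : Type u} [Finite ι] (R : ι → Type u) [∀ i, CommRing (R i)]
  [∀ i, Algebra S (R i)] [Module.FaithfullyFlat S (∀ i, R i)]

theorem bijective_of_forall_lTensor {M N : Type u} [AddCommGroup M] [Module S M] [AddCommGroup N]
    [Module S N] (f : M →ₗ[S] N) :
    (∀ i, Function.Injective (f.lTensor (R i))) → Function.Injective f := by
  classical
  have := Fintype.ofFinite ι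
  intro h
  rw [← Module.FaithfullyFlat.lTensor_injective_iff_injective S (∀ i, R i)]
  intro a b hab
  have key : ∀ (t : (∀ i, R i) ⊗[S] M) (i : ι),
      piLeft (R := S) (N := N) (M := R) (f.lTensor _ t) i =
        f.lTensor (R i) (piLeft (R := S) (N := M) (M := R) t i) := by
    intro t i
    induction t using TensorProduct.induction_on with
    | zero => simp
    | tmul r m => simp
    | add t t' ht ht' => simp only [map_add, Pi.add_apply, ht, ht']
  refine (piLeft (R := S) (N := M) (M := R)).injective (funext fun i => h i ?_)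
  rw [← key, ← key, hab]

theorem surjective_of_forall_lTensor {M N : Type u} [AddCommGroup M] [Module S M] [AddCommGroup N]
    [Module S N] (f : M →ₗ[S] N) :
    (∀ i, Function.Surjective (f.lTensor (R i))) → Function.Surjective f := by
  classical
  have := Fintype.ofFinite ι
  intro h
  rw [← Module.FaithfullyFlat.lTensor_surjective_iff_surjective S (∀ i, R i)]
  intro t
  choose s hs using fun i => h i (piLeft (R := S) (N := N) (M := R) t i)
  refine ⟨(piLeft (R := S) (N := M) (M := R)).symm s,
    (piLeft (R := S) (N := N) (M := R)).injective (funext fun i => ?_)⟩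
  have key : ∀ (t : (∀ i, R i) ⊗[S] M) (i : ι),
      piLeft (R := S) (N := N) (M := R) (f.lTensor _ t) i =
        f.lTensor (R i) (piLeft (R := S) (N := M) (M := R) t i) := by
    intro t i
    induction t using TensorProduct.induction_on with
    | zero => simp
    | tmul r m => simp
    | add t t' ht ht' => simp only [map_add, Pi.add_apply, ht, ht']
  rw [key, LinearEquiv.apply_symm_apply, hs]

omit [Finite ι] in
theorem flat_component (i : ι) : Module.Flat S (R i) := by
  classical
  have : Module.Flat S (∀ i, R i) := inferInstance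
  exact Module.Flat.of_retract (M := ∀ i, R i) (LinearMap.single S R i) (LinearMap.proj i)
    (LinearMap.ext fun x => Pi.single_eq_same i x)

variable {T : Type u} [CommRing T] [Algebra S T]

/-- Flatness descends along the family. -/
theorem flat_of_forall (h : ∀ i, Module.Flat (R i) (R i ⊗[S] T)) : Module.Flat S T := by
  rw [Module.Flat.iff_lTensor_preserves_injective_linearMap]
  intro N N' _ _ _ _ f hf
  refine bijective_of_forall_lTensor R _ fun i => ?_
  have := flat_component (S := S) R i
  have : Module.Flat S (R i ⊗[S] T) := Module.Flat.trans S (R i) _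
  have h2 := Module.Flat.lTensor_preserves_injective_linearMap (M := R i ⊗[S] T) f hf
  rw [LinearMap.lTensor_tensor] at h2
  simpa using h2

/-- Faithful flatness descends along the family. -/
theorem faithfullyFlat_of_forall (h : ∀ i, Module.FaithfullyFlat (R i) (R i ⊗[S] T)) :
    Module.FaithfullyFlat S T := by
  have : Module.Flat S T := flat_of_forall R fun i => inferInstance
  refine Module.FaithfullyFlat.of_comap_surjective fun p => ?_
  obtain ⟨w, hw⟩ := PrimeSpectrum.comap_surjective_of_faithfullyFlat (B := ∀ i, R i) p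
  obtain ⟨i, r, rfl⟩ := PrimeSpectrum.exists_comap_evalRingHom_eq w
  obtain ⟨v, rfl⟩ := PrimeSpectrum.comap_surjective_of_faithfullyFlat (B := R i ⊗[S] T) r
  refine ⟨PrimeSpectrum.comap
    (Algebra.TensorProduct.includeRight : T →ₐ[S] R i ⊗[S] T).toRingHom v, ?_⟩
  rw [← hw, ← PrimeSpectrum.comap_comp_apply, ← PrimeSpectrum.comap_comp_apply,
    ← PrimeSpectrum.comap_comp_apply]
  refine congrArg (fun g => PrimeSpectrum.comap g v) (RingHom.ext fun a => ?_)
  exact ((Algebra.TensorProduct.includeRight : T →ₐ[S] R i ⊗[S] T).commutes a).trans rfl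

variable (T) in
/-- The map from the base change along the product to the product of the base changes. -/
noncomputable def piBC : (∀ i, R i) ⊗[S] T →ₐ[S] ∀ i, R i ⊗[S] T :=
  AlgHom.mk' (Algebra.TensorProduct.lift
    (AlgHom.pi fun i => (Algebra.TensorProduct.includeLeft : R i →ₐ[S] R i ⊗[S] T).comp
      (Pi.evalAlgHom S R i))
    (AlgHom.pi fun i => (Algebra.TensorProduct.includeRight : T →ₐ[S] R i ⊗[S] T))
    fun _ _ => Commute.all _ _).toRingHom fun c x => map_smul (Algebra.TensorProduct.lift _ _ _) c x

omit [Finite ι] [Module.FaithfullyFlat S (∀ i, R i)] in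
theorem piBC_tmul (r : ∀ i, R i) (t : T) (i : ι) : piBC (S := S) R T (r ⊗ₜ t) i = r i ⊗ₜ t :=
  (congrFun (Algebra.TensorProduct.lift_tmul _ _ (fun _ _ => Commute.all _ _) r t) i).trans
    ((Algebra.TensorProduct.tmul_mul_tmul _ _ _ _).trans (by rw [mul_one, one_mul]; rfl))

omit [Module.FaithfullyFlat S (∀ i, R i)] in
theorem piBC_bijective : Function.Bijective (piBC (S := S) R T) := by
  classical
  have := Fintype.ofFinite ι
  have : (piBC (S := S) R T : _ → ∀ i, R i ⊗[S] T) = piLeft (R := S) (N := T) (M := R) := by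
    funext x
    induction x using TensorProduct.induction_on with
    | zero => simp
    | tmul r t => funext i; rw [piBC_tmul]; simp
    | add x y hx hy => rw [map_add, map_add, hx, hy]
  rw [this]
  exact LinearEquiv.bijective _

/-- Finiteness descends along the family. -/
theorem finite_of_forall (h : ∀ i, Module.Finite (R i) (R i ⊗[S] T)) : Module.Finite S T := by
  letI : ∀ i, Algebra (∀ j, R j) (R i) := fun i => (Pi.evalRingHom R i).toAlgebra
  haveI : ∀ i, Module.Finite (∀ j, R j) (R i ⊗[S] T) := fun i => by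
    haveI : Module.Finite (∀ j, R j) (R i) :=
      Module.Finite.of_surjective (Algebra.linearMap (∀ j, R j) (R i))
        (Function.surjective_eval i)
    exact Module.Finite.trans (R i) _
  let φ : (∀ i, R i) ⊗[S] T →ₐ[∀ i, R i] ∀ i, R i ⊗[S] T :=
    { piBC (S := S) R T with commutes' := fun r => funext fun i => piBC_tmul (S := S) R r 1 i }
  have : Module.Finite (∀ i, R i) ((∀ i, R i) ⊗[S] T) :=
    haveI : Module.Finite (∀ i, R i) (∀ i, R i ⊗[S] T) := Module.Finite.pi
    Module.Finite.equiv (AlgEquiv.ofBijective φ (piBC_bijective (S := S) R)).symm.toLinearEquiv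
  exact Module.Finite.of_finite_tensorProduct_of_faithfullyFlat (∀ i, R i)

/-- Étaleness descends along the family. -/
theorem etale_of_forall (h : ∀ i, Algebra.Etale (R i) (R i ⊗[S] T)) : Algebra.Etale S T := by
  classical
  letI : ∀ i, Algebra (∀ j, R j) (R i) := fun i => (Pi.evalRingHom R i).toAlgebra
  haveI : ∀ i, Algebra.Etale (∀ j, R j) (R i ⊗[S] T) := fun i => by
    haveI : IsLocalization.Away (Pi.single i 1 : ∀ a, R a) (R i) := by
      refine IsLocalization.away_of_isIdempotentElem ?_ (RingHom.ker_evalRingHom _ _)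
        ((Pi.evalRingHom R i).surjective)
      simp [IsIdempotentElem, ← Pi.single_mul_left]
    haveI : Algebra.Etale (∀ j, R j) (R i) :=
      Algebra.Etale.of_isLocalizationAway (Pi.single i 1 : ∀ a, R a)
    exact Algebra.Etale.comp (∀ j, R j) (R i) _
  let φ : (∀ i, R i) ⊗[S] T →ₐ[∀ i, R i] ∀ i, R i ⊗[S] T :=
    { piBC (S := S) R T with commutes' := fun r => funext fun i => piBC_tmul (S := S) R r 1 i }
  have : Algebra.Etale (∀ i, R i) ((∀ i, R i) ⊗[S] T) :=
    haveI : Algebra.Etale (∀ i, R i) (∀ i, R i ⊗[S] T) :=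
      { formallyEtale := (Algebra.FormallyEtale.pi_iff (fun i => R i ⊗[S] T)).mpr fun i => inferInstance
        finitePresentation := Algebra.FinitePresentation.pi (fun i => R i ⊗[S] T) }
    Algebra.Etale.of_equiv (AlgEquiv.ofBijective φ (piBC_bijective (S := S) R)).symm
  exact Algebra.Etale.of_etale_tensorProduct_of_faithfullyFlat (∀ i, R i)

end Descent

open SchFin

section Affine

variable {X : RSpace.{u}} {U : Set X.pt}

/-- Over an affine subset, the sections base change to the value at each of its points. -/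
theorem counit_bc (hUa : (X.restrict U).IsAffine) (M : OMod X) (hM : M.IsQcoh) (q : U) :
    IsBCAlong (X.evalRing U q) (M.evalMod U q) := by
  have h := hUa.2.2.1 (M.restrict U) (fun a b hab => hM a.1 b.1 hab) q
  refine bc_mk (fun Q _ _ ψ => ?_) fun Q _ _ L₁ L₂ hL =>
    bc_ext h fun m => hL ⟨fun p => m.1 ⟨p, trivial⟩, fun a b hab => m.2 ⟨a, trivial⟩ ⟨b, trivial⟩ hab⟩
  obtain ⟨L, hL⟩ := bc_exists_lift h (Q := Q)
    { toFun := fun m =>
        ψ ⟨fun p => m.1 ⟨p, trivial⟩, fun a b hab => m.2 ⟨a, trivial⟩ ⟨b, trivial⟩ hab⟩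
      map_add' := fun a b => by rw [← map_add]; rfl
      map_smul' := fun a m =>
        ψ.map_smulₛₗ (⟨fun p => a.1 ⟨p, trivial⟩, fun x y hxy => a.2 ⟨x, trivial⟩ ⟨y, trivial⟩ hxy⟩ :
          X.sectRing U)
          ⟨fun p => m.1 ⟨p, trivial⟩, fun x y hxy => m.2 ⟨x, trivial⟩ ⟨y, trivial⟩ hxy⟩ }
  exact ⟨L, fun m =>
    hL ⟨fun p => m.1 p.1, fun a b hab => m.2 a.1 b.1 hab⟩⟩

/-- Base change from a point below an affine subset to the sections over it. -/
theorem bc_resSect (x : X.pt) (hU : U ⊆ X.up x) (hUa : (X.restrict U).IsAffine)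
    (hff : Module.FaithfullyFlat (X.sectRing U) ((q : ↥U) → X.ring q.1)) (M : OMod X)
    (hM : M.IsQcoh) : IsBCAlong (X.resSect x U hU) (M.resSect x U hU) := by
  letI : ∀ q : U, Algebra (X.sectRing U) (X.ring q.1) := fun q => (X.evalRing U q).toAlgebra
  haveI : Module.FaithfullyFlat (X.sectRing U) ((q : ↥U) → X.ring q.1) :=
    @Module.FaithfullyFlat.of_linearEquiv _ _ _ _ _ _ _ _ hff
      ({ AddEquiv.refl _ with map_smul' := fun _ _ => rfl })
  letI : Algebra (X.ring x) (X.sectRing U) := (X.resSect x U hU).toAlgebra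
  letI : ∀ q : U, Algebra (X.ring x) (X.ring q.1) := fun q => (X.res (hU q.2)).toAlgebra
  haveI : ∀ q : U, IsScalarTower (X.ring x) (X.sectRing U) (X.ring q.1) := fun q =>
    IsScalarTower.of_algebraMap_eq fun _ => rfl
  letI : Module (X.ring x) (M.sect U) := Module.compHom _ (X.resSect x U hU)
  haveI : IsScalarTower (X.ring x) (X.sectRing U) (M.sect U) :=
    IsScalarTower.of_algebraMap_smul fun _ _ => rfl
  letI : ∀ q : U, Module (X.sectRing U) (M.carrier q.1) := fun q =>
    Module.compHom _ (X.evalRing U q)
  haveI : ∀ q : U, IsScalarTower (X.sectRing U) (X.ring q.1) (M.carrier q.1) := fun q =>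
    IsScalarTower.of_algebraMap_smul fun _ _ => rfl
  letI : ∀ q : U, Module (X.ring x) (M.carrier q.1) := fun q => Module.compHom _ (X.res (hU q.2))
  haveI : ∀ q : U, IsScalarTower (X.ring x) (X.ring q.1) (M.carrier q.1) := fun q =>
    IsScalarTower.of_algebraMap_smul fun _ _ => rfl
  let f : M.carrier x →ₗ[X.ring x] M.sect U :=
    { toFun := M.resSect x U hU
      map_add' := map_add _
      map_smul' := (M.resSect x U hU).map_smulₛₗ }
  change IsBaseChange (X.sectRing U) f
  let Φ : X.sectRing U ⊗[X.ring x] M.carrier x →ₗ[X.sectRing U] M.sect U :=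
    TensorProduct.AlgebraTensorModule.lift ((LinearMap.toSpanSingleton _ _ f))
  have hb : ∀ q : U, Function.Bijective (Φ.lTensor (X.ring q.1)) := fun q => by
    let ε := IsBaseChange.equiv (counit_bc hUa M hM q)
    let α := IsBaseChange.equiv (hM x q.1 (hU q.2))
    let β := TensorProduct.AlgebraTensorModule.cancelBaseChange (X.ring x) (X.sectRing U)
      (X.ring q.1) (X.ring q.1) (M.carrier x)
    have : ∀ t, ε (Φ.lTensor (X.ring q.1) t) = α (β t) := by
      intro t
      induction t using TensorProduct.induction_on with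
      | zero => simp
      | tmul r y =>
        induction y using TensorProduct.induction_on with
        | zero => simp
        | tmul s m =>
          rw [LinearMap.lTensor_tmul, TensorProduct.AlgebraTensorModule.cancelBaseChange_tmul]
          refine (IsBaseChange.equiv_tmul _ _ _).trans ?_
          refine Eq.trans ?_ (IsBaseChange.equiv_tmul _ _ _).symm
          change r • (s.1 q • M.res (hU q.2) m) = (s.1 q * r) • M.res (hU q.2) m
          rw [smul_smul, mul_comm]
        | add a b ha hb => simp only [tmul_add, map_add, ha, hb]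
      | add a b ha hb => simp only [map_add, ha, hb]
    refine Function.Bijective.of_comp_iff' ε.bijective _ |>.mp ?_
    rw [show (⇑ε ∘ ⇑(Φ.lTensor (X.ring q.1))) = ⇑α ∘ ⇑β from funext this]
    exact α.bijective.comp β.bijective
  have hΦ : Function.Bijective Φ :=
    ⟨bijective_of_forall_lTensor (fun q : U => X.ring q.1) Φ fun q => (hb q).1,
      surjective_of_forall_lTensor (fun q : U => X.ring q.1) Φ fun q => (hb q).2⟩
  exact IsBaseChange.of_equiv (LinearEquiv.ofBijective Φ hΦ) fun m => one_smul (X.sectRing U) (f m)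

variable (A : Alg X) (hUa : (X.restrict U).IsAffine)

include hUa in
/-- The base change of the sections of an algebra to a point of an affine subset. -/
theorem exists_algEquiv (hA : A.IsQcoh) (q : U) :
    letI : Algebra (X.sectRing U) (X.ring q.1) := (X.evalRing U q).toAlgebra
    letI : Algebra (X.sectRing U) (A.total.sectRing U) := (A.sectMap U).toAlgebra
    Nonempty (X.ring q.1 ⊗[X.sectRing U] A.total.sectRing U ≃ₐ[X.ring q.1] A.carrier q.1) := by
  letI : Algebra (X.sectRing U) (X.ring q.1) := (X.evalRing U q).toAlgebra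
  letI : Algebra (X.sectRing U) (A.total.sectRing U) := (A.sectMap U).toAlgebra
  letI : Algebra (X.sectRing U) (A.carrier q.1) :=
    ((algebraMap (X.ring q.1) (A.carrier q.1)).comp (X.evalRing U q)).toAlgebra
  haveI : IsScalarTower (X.sectRing U) (X.ring q.1) (A.carrier q.1) :=
    IsScalarTower.of_algebraMap_eq fun _ => rfl
  let evA : A.total.sectRing U →ₐ[X.sectRing U] A.carrier q.1 :=
    { toFun := fun t => t.1 q
      map_one' := rfl
      map_mul' := fun _ _ => rfl
      map_zero' := rfl
      map_add' := fun _ _ => rfl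
      commutes' := fun _ => rfl }
  let e₀ : X.ring q.1 ⊗[X.sectRing U] A.total.sectRing U →ₐ[X.ring q.1] A.carrier q.1 :=
    Algebra.TensorProduct.lift (Algebra.ofId _ _) evA fun _ _ => Commute.all _ _
  letI : Module (X.sectRing U) (A.toMod.carrier q.1) := Module.compHom _ (X.evalRing U q)
  haveI : IsScalarTower (X.sectRing U) (X.ring q.1) (A.toMod.carrier q.1) :=
    IsScalarTower.of_algebraMap_smul fun _ _ => rfl
  let ε := IsBaseChange.equiv (counit_bc hUa A.toMod hA q)
  let j : A.total.sectRing U ≃ₗ[X.sectRing U] A.toMod.sect U :=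
    { toFun := fun t => ⟨t.1, t.2⟩
      map_add' := fun _ _ => rfl
      map_smul' := fun a t => Subtype.ext (funext fun p =>
        (Algebra.smul_def (R := X.ring p.1) (A := A.carrier p.1) (a.1 p) (t.1 p)).symm)
      invFun := fun t => ⟨t.1, t.2⟩
      left_inv := fun _ => rfl
      right_inv := fun _ => rfl }
  have : ∀ x, e₀ x = ε (LinearEquiv.lTensor (X.ring q.1) j x) := by
    intro x
    induction x using TensorProduct.induction_on with
    | zero => exact (map_zero e₀).trans (by rw [map_zero, map_zero]; rfl)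
    | tmul r t =>
      exact (Algebra.TensorProduct.lift_tmul _ _ _ r t).trans
        ((Algebra.smul_def r (show A.carrier q.1 from t.1 q)).symm.trans
          (IsBaseChange.equiv_tmul (counit_bc hUa A.toMod hA q) r (j t)).symm)
    | add x y hx hy =>
      exact (map_add e₀ x y).trans ((congrArg₂ (· + ·) hx hy).trans (by rw [map_add, map_add]; rfl))
  refine ⟨AlgEquiv.ofBijective e₀ ?_⟩
  rw [show (e₀ : _ → A.carrier q.1) = ε ∘ LinearEquiv.lTensor (X.ring q.1) j from funext this]
  exact ε.bijective.comp (LinearEquiv.bijective _)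

include hUa

theorem flat_iff (hA : A.IsQcoh)
    (hφ : Module.FaithfullyFlat (X.sectRing U) ((q : ↥U) → X.ring q.1)) :
    (∀ q : X.pt, q ∈ U → Module.Flat (X.ring q) (A.carrier q)) ↔ (A.sectMap U).Flat := by
  letI : ∀ q : U, Algebra (X.sectRing U) (X.ring q.1) := fun q => (X.evalRing U q).toAlgebra
  letI : Algebra (X.sectRing U) (A.total.sectRing U) := (A.sectMap U).toAlgebra
  haveI : Module.FaithfullyFlat (X.sectRing U) ((q : ↥U) → X.ring q.1) :=
    @Module.FaithfullyFlat.of_linearEquiv _ _ _ _ _ _ _ _ hφ
      ({ AddEquiv.refl _ with map_smul' := fun _ _ => rfl })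
  refine ⟨fun h => flat_of_forall (fun q : U => X.ring q.1) fun q => ?_, fun h q hq => ?_⟩
  · have := h q.1 q.2
    exact Module.Flat.of_linearEquiv (exists_algEquiv A hUa hA q).some.toLinearEquiv
  · have : Module.Flat (X.sectRing U) (A.total.sectRing U) := h
    exact Module.Flat.of_linearEquiv (exists_algEquiv A hUa hA ⟨q, hq⟩).some.symm.toLinearEquiv

theorem faithfullyFlat_iff (hA : A.IsQcoh)
    (hφ : Module.FaithfullyFlat (X.sectRing U) ((q : ↥U) → X.ring q.1)) :
    (∀ q : X.pt, q ∈ U → Module.FaithfullyFlat (X.ring q) (A.carrier q)) ↔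
      (A.sectMap U).FaithfullyFlat := by
  letI : ∀ q : U, Algebra (X.sectRing U) (X.ring q.1) := fun q => (X.evalRing U q).toAlgebra
  letI : Algebra (X.sectRing U) (A.total.sectRing U) := (A.sectMap U).toAlgebra
  haveI : Module.FaithfullyFlat (X.sectRing U) ((q : ↥U) → X.ring q.1) :=
    @Module.FaithfullyFlat.of_linearEquiv _ _ _ _ _ _ _ _ hφ
      ({ AddEquiv.refl _ with map_smul' := fun _ _ => rfl })
  refine ⟨fun h => faithfullyFlat_of_forall (fun q : U => X.ring q.1) fun q => ?_, fun h q hq => ?_⟩
  · have := h q.1 q.2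
    exact Module.FaithfullyFlat.of_linearEquiv _ _ (exists_algEquiv A hUa hA q).some.toLinearEquiv
  · have : Module.FaithfullyFlat (X.sectRing U) (A.total.sectRing U) := h
    exact Module.FaithfullyFlat.of_linearEquiv _ _
      (exists_algEquiv A hUa hA ⟨q, hq⟩).some.symm.toLinearEquiv

theorem finite_iff (hA : A.IsQcoh)
    (hφ : Module.FaithfullyFlat (X.sectRing U) ((q : ↥U) → X.ring q.1)) :
    (∀ q : X.pt, q ∈ U → Module.Finite (X.ring q) (A.carrier q)) ↔ (A.sectMap U).Finite := by
  letI : ∀ q : U, Algebra (X.sectRing U) (X.ring q.1) := fun q => (X.evalRing U q).toAlgebra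
  letI : Algebra (X.sectRing U) (A.total.sectRing U) := (A.sectMap U).toAlgebra
  haveI : Module.FaithfullyFlat (X.sectRing U) ((q : ↥U) → X.ring q.1) :=
    @Module.FaithfullyFlat.of_linearEquiv _ _ _ _ _ _ _ _ hφ
      ({ AddEquiv.refl _ with map_smul' := fun _ _ => rfl })
  refine ⟨fun h => finite_of_forall (fun q : U => X.ring q.1) fun q => ?_, fun h q hq => ?_⟩
  · have := h q.1 q.2
    exact Module.Finite.equiv (exists_algEquiv A hUa hA q).some.symm.toLinearEquiv
  · have : Module.Finite (X.sectRing U) (A.total.sectRing U) := h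
    exact Module.Finite.equiv (exists_algEquiv A hUa hA ⟨q, hq⟩).some.toLinearEquiv

theorem etale_iff (hA : A.IsQcoh)
    (hφ : Module.FaithfullyFlat (X.sectRing U) ((q : ↥U) → X.ring q.1)) :
    (∀ q : X.pt, q ∈ U → Algebra.Etale (X.ring q) (A.carrier q)) ↔ (A.sectMap U).Etale := by
  letI : ∀ q : U, Algebra (X.sectRing U) (X.ring q.1) := fun q => (X.evalRing U q).toAlgebra
  letI : Algebra (X.sectRing U) (A.total.sectRing U) := (A.sectMap U).toAlgebra
  haveI : Module.FaithfullyFlat (X.sectRing U) ((q : ↥U) → X.ring q.1) :=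
    @Module.FaithfullyFlat.of_linearEquiv _ _ _ _ _ _ _ _ hφ
      ({ AddEquiv.refl _ with map_smul' := fun _ _ => rfl })
  refine ⟨fun h => etale_of_forall (fun q : U => X.ring q.1) fun q => ?_, fun h q hq => ?_⟩
  · have := h q.1 q.2
    exact Algebra.Etale.of_equiv (exists_algEquiv A hUa hA q).some.symm
  · have : Algebra.Etale (X.sectRing U) (A.total.sectRing U) := h
    exact Algebra.Etale.of_equiv (exists_algEquiv A hUa hA ⟨q, hq⟩).some

end Affine

end Groth.SchFinAux
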