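import Groth.Agent.SchemeMorphisms.SchFinAlg
import Mathlib.CategoryTheory.Limits.Shapes.Pullback.HasPullback

/-!
Pushouts of étale covers of a schematic finite space.
-/

universe u

open TensorProduct CategoryTheory Limits

namespace Groth.SchFinAux

open SchFin

section Push

variable {R A B C : Type u} [CommRing R] [CommRing A] [CommRing B] [CommRing C] [Algebra R A]
  [Algebra R B] [Algebra R C] (φ : A →ₐ[R] B) (ψ : A →ₐ[R] C)

/-- The pushout of two algebra maps. -/
def Push : Type u :=
  letI := φ.toRingHom.toAlgebra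
  letI := ψ.toRingHom.toAlgebra
  B ⊗[A] C

instance : CommRing (Push φ ψ) :=
  letI := φ.toRingHom.toAlgebra
  letI := ψ.toRingHom.toAlgebra
  (inferInstance : CommRing (B ⊗[A] C))

/-- The left inclusion. -/
def pushInlHom : B →+* Push φ ψ :=
  letI := φ.toRingHom.toAlgebra
  letI := ψ.toRingHom.toAlgebra
  (Algebra.TensorProduct.includeLeftRingHom : B →+* B ⊗[A] C)

/-- The right inclusion. -/
def pushInrHom : C →+* Push φ ψ :=
  letI := φ.toRingHom.toAlgebra
  letI := ψ.toRingHom.toAlgebra
  (Algebra.TensorProduct.includeRight : C →ₐ[A] B ⊗[A] C).toRingHom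

theorem pushInl_comp (a : A) : pushInlHom φ ψ (φ a) = pushInrHom φ ψ (ψ a) :=
  letI := φ.toRingHom.toAlgebra
  letI := ψ.toRingHom.toAlgebra
  ((Algebra.TensorProduct.includeLeft : B →ₐ[A] B ⊗[A] C).commutes a).trans
    ((Algebra.TensorProduct.includeRight : C →ₐ[A] B ⊗[A] C).commutes a).symm

/-- The induced map out of the pushout. -/
def pushLift {T : Type u} [CommRing T] (u : B →+* T) (v : C →+* T) (h : ∀ a, u (φ a) = v (ψ a)) :
    Push φ ψ →+* T :=
  letI := φ.toRingHom.toAlgebra
  letI := ψ.toRingHom.toAlgebra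
  letI : Algebra A T := (u.comp φ.toRingHom).toAlgebra
  (Algebra.TensorProduct.lift ({ u with commutes' := fun _ => rfl } : B →ₐ[A] T)
    ({ v with commutes' := fun a => (h a).symm } : C →ₐ[A] T) fun _ _ => Commute.all _ _ :
    B ⊗[A] C →ₐ[A] T).toRingHom

theorem pushLift_inl {T : Type u} [CommRing T] (u : B →+* T) (v : C →+* T)
    (h : ∀ a, u (φ a) = v (ψ a)) (b : B) : pushLift φ ψ u v h (pushInlHom φ ψ b) = u b := by
  let _ := φ.toRingHom.toAlgebra
  let _ := ψ.toRingHom.toAlgebra
  let _ : Algebra A T := (u.comp φ.toRingHom).toAlgebra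
  refine (Algebra.TensorProduct.lift_tmul _ _ _ b 1).trans ?_
  rw [map_one, mul_one]
  rfl

theorem pushLift_inr {T : Type u} [CommRing T] (u : B →+* T) (v : C →+* T)
    (h : ∀ a, u (φ a) = v (ψ a)) (c : C) : pushLift φ ψ u v h (pushInrHom φ ψ c) = v c := by
  let _ := φ.toRingHom.toAlgebra
  let _ := ψ.toRingHom.toAlgebra
  let _ : Algebra A T := (u.comp φ.toRingHom).toAlgebra
  refine (Algebra.TensorProduct.lift_tmul _ _ _ 1 c).trans ?_
  rw [map_one, one_mul]
  rfl

theorem push_ext {T : Type u} [CommRing T] {g₁ g₂ : Push φ ψ →+* T}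
    (hl : ∀ b, g₁ (pushInlHom φ ψ b) = g₂ (pushInlHom φ ψ b))
    (hr : ∀ c, g₁ (pushInrHom φ ψ c) = g₂ (pushInrHom φ ψ c)) : g₁ = g₂ := by
  let _ := φ.toRingHom.toAlgebra
  let _ := ψ.toRingHom.toAlgebra
  refine RingHom.ext fun t => ?_
  induction (show B ⊗[A] C from t) using TensorProduct.induction_on with
  | zero => exact (map_zero g₁).trans (map_zero g₂).symm
  | tmul b c =>
    have e : (b ⊗ₜ[A] c : B ⊗[A] C) = ((b ⊗ₜ[A] (1 : C)) * ((1 : B) ⊗ₜ[A] c)) := by simp
    refine ((congrArg g₁ e).trans (map_mul g₁ (pushInlHom φ ψ b) (pushInrHom φ ψ c))).trans ?_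
    rw [hl, hr]
    exact ((congrArg g₂ e).trans (map_mul g₂ (pushInlHom φ ψ b) (pushInrHom φ ψ c))).symm
  | add s t hs ht =>
    exact (map_add g₁ _ _).trans ((congrArg₂ (· + ·) hs ht).trans (map_add g₂ _ _).symm)

instance : Algebra R (Push φ ψ) := ((pushInlHom φ ψ).comp (algebraMap R B)).toAlgebra

theorem pushInr_algebraMap (r : R) :
    pushInrHom φ ψ (algebraMap R C r) = algebraMap R (Push φ ψ) r := by
  rw [← ψ.commutes, ← pushInl_comp, φ.commutes]
  rfl

theorem push_finite_etale [IsNoetherianRing R] [Module.Finite R A] [Algebra.Etale R A]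
    [Module.Finite R B] [Algebra.Etale R B] [Module.Finite R C] [Algebra.Etale R C] :
    Module.Finite R (Push φ ψ) ∧ Algebra.Etale R (Push φ ψ) := by
  let _ := φ.toRingHom.toAlgebra
  let _ := ψ.toRingHom.toAlgebra
  have : IsScalarTower R A B := IsScalarTower.of_algebraMap_eq fun a => (φ.commutes a).symm
  have : IsScalarTower R A C := IsScalarTower.of_algebraMap_eq fun a => (ψ.commutes a).symm
  have : Module.Finite A C := Module.Finite.of_restrictScalars_finite R A C
  have : Algebra.Etale A C := Algebra.Etale.of_restrictScalars R A C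
  let _ : Algebra B (Push φ ψ) := (pushInlHom φ ψ).toAlgebra
  have : IsScalarTower R B (Push φ ψ) := IsScalarTower.of_algebraMap_eq fun _ => rfl
  let e : (B ⊗[A] C) ≃ₐ[B] Push φ ψ :=
    { RingEquiv.refl (B ⊗[A] C) with commutes' := fun _ => rfl }
  have : Module.Finite B (Push φ ψ) := Module.Finite.equiv e.toLinearEquiv
  have : Algebra.Etale B (Push φ ψ) := Algebra.Etale.of_equiv e
  exact ⟨Module.Finite.trans B _, Algebra.Etale.comp R B _⟩

end Push

variable {X : RSpace.{u}}

section Alg

variable {A B C : Alg X} (f : A ⟶ B) (g : A ⟶ C)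

/-- Restriction of pointwise pushouts. -/
def pushRes {p q : X.pt} (h : p ≤ q) : Push (f.app p) (g.app p) →+* Push (f.app q) (g.app q) :=
  pushLift (f.app p) (g.app p) ((pushInlHom (f.app q) (g.app q)).comp (B.res h))
    ((pushInrHom (f.app q) (g.app q)).comp (C.res h)) fun a => by
      change pushInlHom _ _ (B.res h (f.app p a)) = pushInrHom _ _ (C.res h (g.app p a))
      rw [f.compat, g.compat, pushInl_comp]

theorem pushRes_inl {p q : X.pt} (h : p ≤ q) (b : B.carrier p) :
    pushRes f g h (pushInlHom (f.app p) (g.app p) b) = pushInlHom (f.app q) (g.app q) (B.res h b) :=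
  pushLift_inl _ _ _ _ _ _

theorem pushRes_inr {p q : X.pt} (h : p ≤ q) (c : C.carrier p) :
    pushRes f g h (pushInrHom (f.app p) (g.app p) c) = pushInrHom (f.app q) (g.app q) (C.res h c) :=
  pushLift_inr _ _ _ _ _ _

theorem pushRes_self (p : X.pt) : pushRes f g (le_refl p) = RingHom.id _ :=
  push_ext _ _ (fun b => by rw [pushRes_inl, RingHom.id_apply, B.res_self])
    fun c => by rw [pushRes_inr, RingHom.id_apply, C.res_self]

theorem pushRes_comp {p q s : X.pt} (h : p ≤ q) (h' : q ≤ s) :
    (pushRes f g h').comp (pushRes f g h) = pushRes f g (h.trans h') :=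
  push_ext _ _ (fun b => by rw [RingHom.comp_apply, pushRes_inl, pushRes_inl, pushRes_inl, B.res_comp])
    fun c => by rw [RingHom.comp_apply, pushRes_inr, pushRes_inr, pushRes_inr, C.res_comp]

/-- The pointwise pushout of algebras. -/
def pushAlg : Alg X where
  carrier p := Push (f.app p) (g.app p)
  res h := pushRes f g h
  res_algebraMap {p q} h a := (pushRes_inl f g h _).trans
    (congrArg (pushInlHom (f.app q) (g.app q)) (B.res_algebraMap h a))
  res_self p b := by rw [pushRes_self]; rfl
  res_comp h h' b := RingHom.congr_fun (pushRes_comp f g h h') b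

theorem pushAlg_qcoh (hA : A.IsQcoh) (hB : B.IsQcoh) (hC : C.IsQcoh) : (pushAlg f g).IsQcoh := by
  refine (qcoh_iff_univ _).mpr fun p q h T _ _ u hu => ?_
  obtain ⟨uB, huB, huniB⟩ := (qcoh_iff_univ B).mp hB p q h T
    (u.comp (pushInlHom (f.app p) (g.app p))) hu
  obtain ⟨uC, huC, huniC⟩ := (qcoh_iff_univ C).mp hC p q h T
    (u.comp (pushInrHom (f.app p) (g.app p))) fun a =>
      (congrArg u (pushInr_algebraMap (f.app p) (g.app p) a)).trans (hu a)
  have hAeq : uB.comp (f.app q) = uC.comp (g.app q) := univ_unique hA h fun x => by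
    change uB (f.app q (A.res h x)) = uC (g.app q (A.res h x))
    rw [← f.compat, ← g.compat, huB, huC]
    exact congrArg u (pushInl_comp (f.app p) (g.app p) x)
  let L := pushLift (f.app q) (g.app q) uB.toRingHom uC.toRingHom fun a => DFunLike.congr_fun hAeq a
  refine ⟨{ L with commutes' := fun r =>
      (pushLift_inl (f.app q) (g.app q) _ _ _ _).trans (uB.commutes r) }, fun x => ?_, fun L' hL' => ?_⟩
  · refine RingHom.congr_fun (f := L.comp ((pushAlg f g).res h)) (g := u)
      (push_ext _ _ (fun b => ?_) fun c => ?_) x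
    · exact (congrArg L (pushRes_inl f g h b)).trans
        ((pushLift_inl (f.app q) (g.app q) _ _ _ _).trans (huB b))
    · exact (congrArg L (pushRes_inr f g h c)).trans
        ((pushLift_inr (f.app q) (g.app q) _ _ _ _).trans (huC c))
  · let iB : B.carrier q →ₐ[X.ring q] (pushAlg f g).carrier q :=
      { pushInlHom (f.app q) (g.app q) with commutes' := fun _ => rfl }
    let iC : C.carrier q →ₐ[X.ring q] (pushAlg f g).carrier q :=
      { pushInrHom (f.app q) (g.app q) with commutes' := pushInr_algebraMap _ _ }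
    have e1 : L'.comp iB = uB := huniB _ fun x =>
      (congrArg L' (pushRes_inl f g h x).symm).trans (hL' _)
    have e2 : L'.comp iC = uC := huniC _ fun x =>
      (congrArg L' (pushRes_inr f g h x).symm).trans (hL' _)
    refine AlgHom.ext fun t => RingHom.congr_fun (f := L'.toRingHom) (g := L)
      (push_ext _ _ (fun b => ?_) fun c => ?_) t
    · exact (DFunLike.congr_fun e1 b).trans (pushLift_inl (f.app q) (g.app q) _ _ _ b).symm
    · exact (DFunLike.congr_fun e2 c).trans (pushLift_inr (f.app q) (g.app q) _ _ _ c).symm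

end Alg

variable (hX : X.IsSchematic)
include hX

theorem pushAlg_etCover {A B C : FEt X} (f : A ⟶ B) (g : A ⟶ C) :
    (pushAlg f.hom g.hom).IsEtCover := by
  refine ⟨pushAlg_qcoh _ _ A.property.1 B.property.1 C.property.1, fun p => ?_⟩
  have := noetherian hX p
  have := (A.property.2 p).1; have := (A.property.2 p).2
  have := (B.property.2 p).1; have := (B.property.2 p).2
  have := (C.property.2 p).1; have := (C.property.2 p).2
  exact push_finite_etale (f.hom.app p) (g.hom.app p)

variable {A B C : FEt X} (f : A ⟶ B) (g : A ⟶ C)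

/-- The pushout of étale covers. -/
def pushFEt : FEt X := ⟨pushAlg f.hom g.hom, pushAlg_etCover hX f g⟩

/-- Left inclusion. -/
def pushInl : B ⟶ pushFEt hX f g :=
  ObjectProperty.homMk ⟨fun p =>
    { pushInlHom (f.hom.app p) (g.hom.app p) with commutes' := fun _ => rfl },
    fun h b => pushRes_inl f.hom g.hom h b⟩

/-- Right inclusion. -/
def pushInr : C ⟶ pushFEt hX f g :=
  ObjectProperty.homMk ⟨fun p =>
    { pushInrHom (f.hom.app p) (g.hom.app p) with commutes' := pushInr_algebraMap _ _ },
    fun h b => pushRes_inr f.hom g.hom h b⟩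

/-- The pushout cocone. -/
def pushCocone : PushoutCocone f g :=
  PushoutCocone.mk (pushInl hX f g) (pushInr hX f g)
    (feHom_ext fun p a => pushInl_comp (f.hom.app p) (g.hom.app p) a)

omit hX in
/-- The pointwise map out of the pushout. -/
def pushDesc (s : PushoutCocone f g) (p : X.pt) :
    Push (f.hom.app p) (g.hom.app p) →+* s.pt.obj.carrier p :=
  pushLift (f.hom.app p) (g.hom.app p) (s.inl.hom.app p).toRingHom (s.inr.hom.app p).toRingHom
    fun a => congr($(congrArg (fun k : A ⟶ s.pt => k.hom.app p) s.condition) a)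

omit hX in
theorem pushDesc_inl (s : PushoutCocone f g) (p : X.pt) (b : B.obj.carrier p) :
    pushDesc f g s p (pushInlHom _ _ b) = s.inl.hom.app p b :=
  pushLift_inl _ _ _ _ _ _

omit hX in
theorem pushDesc_inr (s : PushoutCocone f g) (p : X.pt) (c : C.obj.carrier p) :
    pushDesc f g s p (pushInrHom _ _ c) = s.inr.hom.app p c :=
  pushLift_inr _ _ _ _ _ _

omit hX in
theorem pushDesc_res (s : PushoutCocone f g) {p q : X.pt} (h : p ≤ q) :
    (s.pt.obj.res h).comp (pushDesc f g s p) = (pushDesc f g s q).comp (pushRes f.hom g.hom h) :=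
  push_ext _ _
    (fun b => by
      rw [RingHom.comp_apply, RingHom.comp_apply, pushDesc_inl, pushRes_inl, pushDesc_inl]
      exact s.inl.hom.compat h b)
    fun c => by
      rw [RingHom.comp_apply, RingHom.comp_apply, pushDesc_inr, pushRes_inr, pushDesc_inr]
      exact s.inr.hom.compat h c

/-- The pushout cocone is a colimit. -/
def pushIsColimit : IsColimit (pushCocone hX f g) :=
  PushoutCocone.IsColimit.mk _
    (fun s => ObjectProperty.homMk ⟨fun p =>
      { pushDesc f g s p with
        commutes' := fun r => (pushDesc_inl f g s p _).trans ((s.inl.hom.app p).commutes r) },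
      fun h b => RingHom.congr_fun (pushDesc_res f g s h) b⟩)
    (fun s => feHom_ext fun p b => pushDesc_inl f g s p b)
    (fun s => feHom_ext fun p c => pushDesc_inr f g s p c)
    fun s m h₁ h₂ => feHom_ext fun p t =>
      RingHom.congr_fun (f := (m.hom.app p).toRingHom) (g := pushDesc f g s p) (push_ext _ _
        (fun b => (congr($(congrArg (fun k : B ⟶ s.pt => k.hom.app p) h₁) b)).trans
          (pushDesc_inl f g s p b).symm)
        (fun c => (congr($(congrArg (fun k : C ⟶ s.pt => k.hom.app p) h₂) c)).trans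
          (pushDesc_inr f g s p c).symm)) t

omit hX in
/-- The structure algebra is initial. -/
def strIsInitial : IsInitial (⟨Alg.str X, str_etCover⟩ : FEt X) :=
  IsInitial.ofUniqueHom (fun A => ObjectProperty.homMk (strTo A.obj))
    fun A m => InducedCategory.hom_ext (strTo_unique m.hom)

theorem hasPushouts_fet : HasPushouts (FEt X) :=
  haveI : ∀ {A B C : FEt X} {f : A ⟶ B} {g : A ⟶ C}, HasColimit (span f g) := fun {_ _ _ f g} =>
    HasColimit.mk ⟨_, pushIsColimit hX f g⟩
  hasPushouts_of_hasColimit_span _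

end Groth.SchFinAux
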