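import Groth.Agent.SchemeMorphisms.SchFinAlg
import Mathlib.CategoryTheory.Limits.Shapes.BinaryProducts

/-!
Splittings of étale covers along idempotents, factorization and monomorphisms.
-/

universe u

open CategoryTheory Limits

namespace Groth.SchFinAux

open SchFin

variable {X : RSpace.{u}}

/-- A pointwise bijective morphism of étale covers is an isomorphism. -/
theorem isIso_of_bijective {A B : FEt X} (f : A ⟶ B) (hf : ∀ p, Function.Bijective (f.hom.app p)) :
    IsIso f := by
  let g : B ⟶ A := ObjectProperty.homMk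
    ⟨fun p => (AlgEquiv.ofBijective (f.hom.app p) (hf p)).symm.toAlgHom, fun {p q} h b => (hf q).1 (by
      obtain ⟨a, rfl⟩ := (hf p).2 b
      change f.hom.app q (A.obj.res h ((AlgEquiv.ofBijective _ (hf p)).symm (f.hom.app p a))) =
        f.hom.app q ((AlgEquiv.ofBijective _ (hf q)).symm (B.obj.res h (f.hom.app p a)))
      have e1 : (AlgEquiv.ofBijective _ (hf p)).symm (f.hom.app p a) = a :=
        (AlgEquiv.ofBijective _ (hf p)).symm_apply_apply a
      have e2 : f.hom.app q ((AlgEquiv.ofBijective _ (hf q)).symm (B.obj.res h (f.hom.app p a))) =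
          B.obj.res h (f.hom.app p a) :=
        (AlgEquiv.ofBijective _ (hf q)).apply_symm_apply _
      rw [e1, e2, ← f.hom.compat])⟩
  exact ⟨g, feHom_ext fun p x => (AlgEquiv.ofBijective _ (hf p)).symm_apply_apply x,
    feHom_ext fun p x => (AlgEquiv.ofBijective _ (hf p)).apply_symm_apply x⟩

variable {A : FEt X} (e : ∀ p, A.obj.carrier p) (he : ∀ p, IsIdempotentElem (e p))
  (hc : ∀ {p q : X.pt} (h : p ≤ q), A.obj.res h (e p) = e q)

/-- The quotient cover by compatible idempotents. -/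
def qFEt : FEt X := ⟨quo e hc, quo_etCover e hc A.property he⟩

/-- Its projection. -/
def qMk : A ⟶ qFEt e he hc := ObjectProperty.homMk (quoMk e hc)

include hc in
theorem one_sub_compat {p q : X.pt} (h : p ≤ q) : A.obj.res h (1 - e p) = 1 - e q := by
  rw [map_sub, map_one, hc]

/-- The complementary cover. -/
def qCompl : FEt X := qFEt (fun p => 1 - e p) (fun p => (he p).one_sub) (one_sub_compat e hc)

/-- Its projection. -/
def qComplMk : A ⟶ qCompl e he hc :=
  qMk (fun p => 1 - e p) (fun p => (he p).one_sub) (one_sub_compat e hc)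

/-- The splitting by idempotents. -/
theorem isIso_split : IsIso (prodPair (qMk e he hc) (qComplMk e he hc)) := by
  refine isIso_of_bijective _ fun p => ?_
  constructor
  · refine (injective_iff_map_eq_zero _).mpr fun x hx => ?_
    obtain ⟨a, ha⟩ := Ideal.mem_span_singleton'.mp
      (Ideal.Quotient.eq_zero_iff_mem.mp (congrArg Prod.fst hx : Ideal.Quotient.mk _ x = 0))
    obtain ⟨b, hb⟩ := Ideal.mem_span_singleton'.mp
      (Ideal.Quotient.eq_zero_iff_mem.mp (congrArg Prod.snd hx : Ideal.Quotient.mk _ x = 0))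
    have hxe : x * e p = x := by rw [← ha, mul_assoc, he p]
    rw [← hxe, ← hb, mul_assoc, sub_mul, one_mul, he p, sub_self, mul_zero]
  · rintro ⟨u, v⟩
    obtain ⟨a, rfl⟩ := Ideal.Quotient.mk_surjective u
    obtain ⟨b, rfl⟩ := Ideal.Quotient.mk_surjective v
    refine ⟨a * (1 - e p) + b * e p, Prod.ext ?_ ?_⟩
    · exact Ideal.Quotient.eq.mpr (Ideal.mem_span_singleton'.mpr ⟨b - a, by ring⟩)
    · exact Ideal.Quotient.eq.mpr (Ideal.mem_span_singleton'.mpr ⟨a - b, by ring⟩)

variable (hX : X.IsSchematic)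
include hX

omit he hc in
theorem exists_factor {B : FEt X} (f : A ⟶ B) :
    ∃ (Q : FEt X) (g : A ⟶ Q) (h : Q ⟶ B), g ≫ h = f ∧
      (∀ p, Function.Surjective (g.hom.app p)) ∧ ∀ p, Function.Injective (h.hom.app p) := by
  obtain ⟨t, ht, htc, hker⟩ := exists_kerIdem hX A.property B.property f.hom
  refine ⟨qFEt t ht htc, qMk t ht htc, ObjectProperty.homMk (quoLift t htc f.hom fun p =>
    (hker p _).mpr (Ideal.mem_span_singleton_self _)), feHom_ext fun _ _ => rfl,
    fun p => quoMk_surjective t htc p, fun p => (injective_iff_map_eq_zero _).mpr fun x hx => ?_⟩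
  obtain ⟨x, rfl⟩ := Ideal.Quotient.mk_surjective x
  exact Ideal.Quotient.eq_zero_iff_mem.mpr ((hker p x).mp hx)

omit he hc in
theorem injective_of_mono {B : FEt X} (f : A ⟶ B) [Mono f] (p : X.pt) :
    Function.Injective (f.hom.app p) := by
  obtain ⟨t, ht, htc, hker⟩ := exists_kerIdem hX A.property B.property f.hom
  have := isIso_split t ht htc
  let c := prodPair (qMk t ht htc) (qComplMk t ht htc)
  let m : prodFEt A (qCompl t ht htc) ⟶ A :=
    prodPair (prodFst _ _ ≫ qMk t ht htc) (prodSnd _ _) ≫ inv c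
  have h1 : c ≫ prodFst _ _ = qMk t ht htc := feHom_ext fun _ _ => rfl
  have h2 : c ≫ prodSnd _ _ = qComplMk t ht htc := feHom_ext fun _ _ => rfl
  let j : qFEt t ht htc ⟶ B := ObjectProperty.homMk (quoLift t htc f.hom fun p =>
    (hker p _).mpr (Ideal.mem_span_singleton_self _))
  have hj : qMk t ht htc ≫ j = f := feHom_ext fun _ _ => rfl
  have hm : m = prodFst A (qCompl t ht htc) := by
    rw [← cancel_mono f, ← hj, ← Category.assoc, ← Category.assoc]
    congr 1
    have : inv c ≫ qMk t ht htc = prodFst _ _ := by rw [IsIso.inv_comp_eq, h1]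
    rw [show m ≫ qMk t ht htc = prodPair (prodFst _ _ ≫ qMk t ht htc) (prodSnd _ _) ≫
      (inv c ≫ qMk t ht htc) from Category.assoc _ _ _, this]
    exact feHom_ext fun _ _ => rfl
  have h3 : prodFst A (qCompl t ht htc) ≫ qComplMk t ht htc = prodSnd A (qCompl t ht htc) := by
    rw [← hm]
    have : inv c ≫ qComplMk t ht htc = prodSnd _ _ := by rw [IsIso.inv_comp_eq, h2]
    rw [show m ≫ qComplMk t ht htc = prodPair (prodFst _ _ ≫ qMk t ht htc) (prodSnd _ _) ≫
      (inv c ≫ qComplMk t ht htc) from Category.assoc _ _ _, this]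
    exact feHom_ext fun _ _ => rfl
  have h4 := congrArg (fun k : prodFEt A (qCompl t ht htc) ⟶ qCompl t ht htc =>
    k.hom.app p ((1 : A.obj.carrier p), (0 : (qCompl t ht htc).obj.carrier p))) h3
  change Ideal.Quotient.mk _ (1 : A.obj.carrier p) = 0 at h4
  obtain ⟨a, ha⟩ := Ideal.mem_span_singleton'.mp (Ideal.Quotient.eq_zero_iff_mem.mp h4)
  have ht0 : t p = 0 := by
    have : t p = a * (1 - t p) * t p := by rw [ha, one_mul]
    rw [this, mul_assoc, sub_mul, one_mul, ht p, sub_self, mul_zero]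
  refine (injective_iff_map_eq_zero _).mpr fun x hx => ?_
  obtain ⟨b, rfl⟩ := Ideal.mem_span_singleton'.mp ((hker p x).mp hx)
  rw [ht0, mul_zero]

omit he hc in
theorem exists_complement {B : FEt X} (f : A ⟶ B) (hf : ∀ p, Function.Surjective (f.hom.app p)) :
    ∃ (D : FEt X) (π : A ⟶ D), Nonempty (IsLimit (BinaryFan.mk f π)) := by
  obtain ⟨t, ht, htc, hker⟩ := exists_kerIdem hX A.property B.property f.hom
  let j : qFEt t ht htc ⟶ B := ObjectProperty.homMk (quoLift t htc f.hom fun p =>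
    (hker p _).mpr (Ideal.mem_span_singleton_self _))
  have hj : qMk t ht htc ≫ j = f := feHom_ext fun _ _ => rfl
  have : IsIso j := isIso_of_bijective _ fun p => by
    constructor
    · refine (injective_iff_map_eq_zero _).mpr fun x hx => ?_
      obtain ⟨x, rfl⟩ := Ideal.Quotient.mk_surjective x
      exact Ideal.Quotient.eq_zero_iff_mem.mpr ((hker p x).mp hx)
    · intro y
      obtain ⟨x, rfl⟩ := hf p y
      exact ⟨Ideal.Quotient.mk _ x, rfl⟩
  have := isIso_split t ht htc
  let h : IsLimit (BinaryFan.mk (qMk t ht htc) (qComplMk t ht htc)) :=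
    IsLimit.ofIsoLimit (prodIsLimit (qFEt t ht htc) (qCompl t ht htc))
      (BinaryFan.ext (asIso (prodPair (qMk t ht htc) (qComplMk t ht htc))).symm
        (by
          simp only [BinaryFan.π_app_left, BinaryFan.mk_fst, Iso.symm_hom, asIso_inv]
          exact (IsIso.eq_inv_comp _).mpr (feHom_ext fun _ _ => rfl))
        (by
          simp only [BinaryFan.π_app_right, BinaryFan.mk_snd, Iso.symm_hom, asIso_inv]
          exact (IsIso.eq_inv_comp _).mpr (feHom_ext fun _ _ => rfl)))
  refine ⟨qCompl t ht htc, qComplMk t ht htc, ⟨?_⟩⟩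
  refine BinaryFan.IsLimit.mk _ (fun g₁ g₂ => h.lift (BinaryFan.mk (g₁ ≫ inv j) g₂)) (fun g₁ g₂ => ?_)
      (fun g₁ g₂ => h.fac (BinaryFan.mk (g₁ ≫ inv j) g₂) ⟨WalkingPair.right⟩) (fun g₁ g₂ m h₁ h₂ => ?_)
  · have := h.fac (BinaryFan.mk (g₁ ≫ inv j) g₂) ⟨WalkingPair.left⟩
    refine (congrArg (h.lift (BinaryFan.mk (g₁ ≫ inv j) g₂) ≫ ·) hj.symm).trans
      ((Category.assoc _ _ _).symm.trans ((congrArg (· ≫ j) this).trans ?_))
    change (g₁ ≫ inv j) ≫ j = g₁
    rw [Category.assoc, IsIso.inv_hom_id, Category.comp_id]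
  · refine BinaryFan.IsLimit.hom_ext h ?_ ?_
    · refine Eq.trans ?_ (h.fac (BinaryFan.mk (g₁ ≫ inv j) g₂) ⟨WalkingPair.left⟩).symm
      subst h₁
      refine ((IsIso.eq_comp_inv j).mpr ?_)
      exact (Category.assoc _ _ _).trans (congrArg (m ≫ ·) hj)
    · exact h₂.trans (h.fac (BinaryFan.mk (g₁ ≫ inv j) g₂) ⟨WalkingPair.right⟩).symm

end Groth.SchFinAux
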