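import Groth.Agent.SchemeMorphisms.SchFinFibre
import Groth.Agent.SchemeMorphisms.SchFinConn
import Mathlib.RingTheory.Spectrum.Prime.FreeLocus
import Mathlib.RingTheory.Etale.Field

/-!
Ranks of étale covers; the fibre functor reflects isomorphisms.
-/

universe u

open TensorProduct CategoryTheory Limits Opposite

namespace Groth.SchFinAux

open SchFin

/-- An injective map of finite projective algebras of equal rank is surjective. -/
theorem surjective_of_injective_of_rank {R A B : Type u} [CommRing R] [CommRing A] [CommRing B]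
    [Algebra R A] [Algebra R B] [Algebra A B] [IsScalarTower R A B] [Module.Finite R A]
    [Module.Flat R A] [Module.Finite R B] [Module.Flat R B] [Module.FinitePresentation R B]
    [Module.Finite A B] [Module.Projective A B] (hinj : Function.Injective (algebraMap A B))
    (hrank : Module.rankAtStalk (R := R) A = Module.rankAtStalk (R := R) B) :
    Function.Surjective (algebraMap A B) := by
  classical
  obtain ⟨n, π, hπ⟩ := Module.Finite.exists_fin' A B
  obtain ⟨σ, hσ⟩ := Module.projective_lifting_property π LinearMap.id hπ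
  let E : Ideal A := Ideal.span (Set.range (σ 1))
  have hE : E = ⊤ := by
    by_contra hne
    obtain ⟨m, hm, hle⟩ := Ideal.exists_le_maximal E hne
    have htop : (⊤ : Submodule A B) ≤ m • ⊤ := by
      intro b _
      have h1 : (1 : B) ∈ m • (⊤ : Submodule A B) := by
        have h11 : π (σ 1) = 1 := LinearMap.congr_fun hσ 1
        rw [← h11, pi_eq_sum_univ (σ 1), map_sum]
        exact Submodule.sum_mem _ fun i _ => by
          rw [map_smul]
          exact Submodule.smul_mem_smul (hle (Submodule.subset_span ⟨i, rfl⟩)) trivial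
      refine Submodule.smul_induction_on (p := fun x => x * b ∈ m • (⊤ : Submodule A B)) h1
        (fun r hr x _ => by rw [smul_mul_assoc]; exact Submodule.smul_mem_smul hr trivial)
        (fun x y hx hy => by rw [add_mul]; exact add_mem hx hy) |> fun h => by rwa [one_mul] at h
    obtain ⟨r, hr1, hr⟩ := Submodule.exists_sub_one_mem_and_smul_eq_zero_of_fg_of_le_smul m ⊤
      Module.Finite.fg_top htop
    have hr0 : r = 0 := hinj (by rw [map_zero, Algebra.algebraMap_eq_smul_one]; exact hr 1 trivial)
    rw [hr0, zero_sub] at hr1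
    exact hm.ne_top ((Ideal.eq_top_iff_one m).mpr (neg_mem_iff.mp hr1))
  obtain ⟨c, hc⟩ := (Ideal.mem_span_range_iff_exists_fun).mp ((Ideal.eq_top_iff_one E).mp hE)
  let φ : B →ₗ[A] A := ∑ i, c i • (LinearMap.proj i ∘ₗ σ)
  have hφ : φ 1 = 1 := by simp [φ, LinearMap.sum_apply, hc]
  let φR : B →ₗ[R] A := φ.restrictScalars R
  let iR : A →ₗ[R] B := (Algebra.linearMap A B).restrictScalars R
  have hφi : ∀ a, φR (iR a) = a := fun a => by
    change φ (algebraMap A B a) = a
    rw [Algebra.algebraMap_eq_smul_one, map_smul, hφ, smul_eq_mul, mul_one]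
  let pr : B →ₗ[R] LinearMap.ker φR := (LinearMap.id - iR ∘ₗ φR).codRestrict _ fun b => by
    simp [hφi]
  have hpr : ∀ k : LinearMap.ker φR, pr k = k := fun k => Subtype.ext (by
    change (k : B) - iR (φR k) = k
    rw [show φR k = 0 from k.2, map_zero, sub_zero])
  have : Module.Finite R (LinearMap.ker φR) := Module.Finite.of_surjective pr fun k => ⟨k, hpr k⟩
  have : Module.Projective R B := Module.Flat.projective_of_finitePresentation
  have : Module.Projective R (LinearMap.ker φR) :=
    Module.Projective.of_split (LinearMap.ker φR).subtype pr (LinearMap.ext hpr)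
  let e : B ≃ₗ[R] A × LinearMap.ker φR :=
    LinearEquiv.ofLinearMap (φR.prod pr) (iR.coprod (LinearMap.ker φR).subtype)
      (LinearMap.ext fun ⟨a, k⟩ => Prod.ext (by
        change φR (iR a + k) = a
        rw [map_add, hφi, show φR k = 0 from k.2, add_zero]) (by
        change pr (iR a + k) = k
        rw [map_add, hpr, show pr (iR a) = 0 from Subtype.ext (by
          change iR a - iR (φR (iR a)) = 0
          rw [hφi, sub_self]), zero_add]))
      (LinearMap.ext fun b => by
        change iR (φR b) + (b - iR (φR b)) = b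
        abel)
  have h0 : Module.rankAtStalk (R := R) (LinearMap.ker φR) = 0 := by
    have := (Module.rankAtStalk_eq_of_equiv e).symm.trans hrank.symm
    rw [Module.rankAtStalk_prod] at this
    simpa using this
  have := Module.rankAtStalk_eq_zero_iff_subsingleton.mp h0
  intro b
  refine ⟨φ b, ?_⟩
  have h := congrArg Subtype.val (Subsingleton.elim (pr b) 0)
  exact (sub_eq_zero.mp h).symm

variable {X : RSpace.{u}} (hX : X.IsSchematic)

/-- The rank of a cover at a pair. -/
noncomputable def rk (A : FEt X) (p : X.pt) (P : PrimeSpectrum (X.ring p)) : ℕ :=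
  Module.rankAtStalk (A.obj.carrier p) P

include hX

theorem finiteFlat (A : FEt X) (p : X.pt) : Module.Finite (X.ring p) (A.obj.carrier p) ∧
    Module.Flat (X.ring p) (A.obj.carrier p) ∧ Module.FinitePresentation (X.ring p) (A.obj.carrier p) := by
  have := (A.property.2 p).1
  have := (A.property.2 p).2
  have := noetherian hX p
  exact ⟨inferInstance, inferInstance, Module.finitePresentation_of_finite _ _⟩

theorem bijective_of_rk_eq {A B : FEt X} (f : A ⟶ B)
    (hf : ∀ p, Function.Injective (f.hom.app p)) (hr : ∀ p P, rk A p P = rk B p P) (p : X.pt) :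
    Function.Bijective (f.hom.app p) := by
  refine ⟨hf p, ?_⟩
  letI : Algebra (A.obj.carrier p) (B.obj.carrier p) := (f.hom.app p).toRingHom.toAlgebra
  haveI : IsScalarTower (X.ring p) (A.obj.carrier p) (B.obj.carrier p) :=
    IsScalarTower.of_algebraMap_eq fun a => ((f.hom.app p).commutes a).symm
  obtain ⟨_, _, _⟩ := finiteFlat hX A p
  obtain ⟨_, _, _⟩ := finiteFlat hX B p
  have := (A.property.2 p).2
  have := (B.property.2 p).2
  have := noetherian hX p
  have : IsNoetherianRing (A.obj.carrier p) :=
    isNoetherianRing_iff.mpr (isNoetherian_of_tower (X.ring p) inferInstance)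
  have : Algebra.Etale (A.obj.carrier p) (B.obj.carrier p) :=
    Algebra.Etale.of_restrictScalars (X.ring p) (A.obj.carrier p) (B.obj.carrier p)
  have : Module.Finite (A.obj.carrier p) (B.obj.carrier p) :=
    Module.Finite.of_restrictScalars_finite (X.ring p) _ _
  have : Module.FinitePresentation (A.obj.carrier p) (B.obj.carrier p) :=
    Module.finitePresentation_of_finite _ _
  have : Module.Projective (A.obj.carrier p) (B.obj.carrier p) :=
    Module.Flat.projective_of_finitePresentation
  exact surjective_of_injective_of_rank (R := X.ring p) (hf p) (funext (hr p))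

theorem rk_res (A : FEt X) {p q : X.pt} (h : p ≤ q) (P : PrimeSpectrum (X.ring q)) :
    rk A q P = rk A p (PrimeSpectrum.comap (X.res h) P) := by
  letI : Algebra (X.ring p) (X.ring q) := (X.res h).toAlgebra
  letI : Module (X.ring p) (A.obj.toMod.carrier q) := Module.compHom _ (X.res h)
  haveI : IsScalarTower (X.ring p) (X.ring q) (A.obj.toMod.carrier q) :=
    IsScalarTower.of_algebraMap_smul fun _ _ => rfl
  obtain ⟨_, _, _⟩ := finiteFlat hX A q
  obtain ⟨_, _, _⟩ := finiteFlat hX A p
  have : Module.Finite (X.ring p) (A.obj.toMod.carrier p) := (A.property.2 p).1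
  have : Module.Flat (X.ring p) (A.obj.toMod.carrier p) := (finiteFlat hX A p).2.1
  have h1 : Module.rankAtStalk (R := X.ring q) (X.ring q ⊗[X.ring p] A.obj.toMod.carrier p) P =
      Module.rankAtStalk (R := X.ring q) (A.obj.toMod.carrier q) P :=
    congrFun (Module.rankAtStalk_eq_of_equiv (IsBaseChange.equiv (A.property.1 p q h))) P
  exact h1.symm.trans (Module.rankAtStalk_baseChange (M := A.obj.toMod.carrier p) P)

theorem rk_const (hW : X.IsWellConnected) (A : FEt X) {p q : X.pt} (P : PrimeSpectrum (X.ring p))
    (Q : PrimeSpectrum (X.ring q)) : rk A p P = rk A q Q := by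
  have hloc : ∀ (r : X.pt) (P P' : PrimeSpectrum (X.ring r)), rk A r P = rk A r P' := fun r P P' => by
    have := hW.2 r
    obtain ⟨_, _, _⟩ := finiteFlat hX A r
    exact (Module.isLocallyConstant_rankAtStalk (R := X.ring r) (M := A.obj.carrier r)).apply_eq_of_preconnectedSpace P P'
  obtain ⟨-, hz⟩ := ((wellConnected_iff X).mp hW).1
  have hpt : ∀ a b : X.pt, ∀ (P : PrimeSpectrum (X.ring a)) (Q : PrimeSpectrum (X.ring b)),
      rk A a P = rk A b Q := fun a b => by
    induction hz a b with
    | rel a b h => exact fun P Q => (hloc a P _).trans (rk_res hX A h Q).symm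
    | refl a => exact hloc a
    | symm a b _ ih => exact fun P Q => (ih Q P).symm
    | trans a b c _ _ ih ih' =>
      intro P Q
      have := hW.2 b
      obtain ⟨R⟩ : Nonempty (PrimeSpectrum (X.ring b)) := inferInstance
      exact (ih P R).trans (ih' R Q)
  exact hpt p q P Q

variable {Ω : Type u} [Field Ω] [IsAlgClosed Ω] (ξ : GeomPt X Ω)

theorem card_pts (A : FEt X) :
    Nat.card (Pts ξ A.obj) = rk A ξ.base ⟨RingHom.ker ξ.toField, RingHom.ker_isPrime _⟩ := by
  rw [Nat.card_congr (ptsEquiv ξ A)]
  letI : Algebra (X.ring ξ.base) Ω := ξ.toField.toAlgebra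
  obtain ⟨_, _, _⟩ := finiteFlat hX A ξ.base
  have := (A.property.2 ξ.base).2
  let E := Ω ⊗[X.ring ξ.base] A.obj.carrier ξ.base
  have e := Algebra.FormallyEtale.equivPiOfIsSepClosed Ω E
  have : Finite (PrimeSpectrum E) := inferInstanceAs (Finite (ξ.Fib A.obj))
  have := Fintype.ofFinite (PrimeSpectrum E)
  have h1 : Module.finrank Ω E = Nat.card (ξ.Fib A.obj) := by
    rw [e.toLinearEquiv.finrank_eq, Module.finrank_pi, Nat.card_eq_fintype_card.symm]
    rfl
  rw [← h1]
  have h2 : Module.rankAtStalk (R := Ω) E ⟨⊥, Ideal.isPrime_bot⟩ = Module.finrank Ω E :=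
    congrFun Module.rankAtStalk_eq_finrank_of_free _
  rw [← h2, Module.rankAtStalk_baseChange]
  exact congrArg (rk A ξ.base) (PrimeSpectrum.ext (RingHom.ker_eq_comap_bot _).symm)

theorem reflectsIso (hW : X.IsWellConnected) : ξ.fibFunctor.ReflectsIsomorphisms := by
  refine ⟨fun {Y Z} f hf => ?_⟩
  let A := Z.unop
  let B := Y.unop
  let g : A ⟶ B := f.unop
  -- pullback of points along `g` is bijective
  have hg : Function.Bijective (ptsMap ξ g.hom) := by
    have hbij : Function.Bijective (ξ.fibFunctor.map f) := (FintypeCat.equivEquivIso.symm (asIso (ξ.fibFunctor.map f))).bijective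
    constructor
    · intro φ ψ h
      refine (ptsEquiv ξ B).injective (hbij.1 ?_)
      exact (fib_map_apply ξ g φ).trans ((congrArg _ h).trans (fib_map_apply ξ g ψ).symm)
    · intro φ
      obtain ⟨z, hz⟩ := hbij.2 (ptsEquiv ξ A φ)
      obtain ⟨ψ, rfl⟩ := (ptsEquiv ξ B).surjective z
      exact ⟨ψ, (ptsEquiv ξ A).injective ((fib_map_apply ξ g ψ).symm.trans hz)⟩
  have hrk : ∀ (C C' : FEt X), Nat.card (Pts ξ C.obj) = Nat.card (Pts ξ C'.obj) →
      ∀ p P, rk C p P = rk C' p P := fun C C' h p P => by
    rw [card_pts hX, card_pts hX] at h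
    exact (rk_const hX hW C P _).trans (h.trans (rk_const hX hW C' _ P))
  obtain ⟨t, ht, htc, hker⟩ := exists_kerIdem hX A.property B.property g.hom
  let Q := qFEt t ht htc
  let π := qMk t ht htc
  let j : Q ⟶ B := ObjectProperty.homMk (quoLift t htc g.hom fun p =>
    (hker p _).mpr (Ideal.mem_span_singleton_self _))
  have hπ : Function.Bijective (ptsMap ξ π.hom) := by
    refine ⟨fun φ ψ h => Pts.ext ξ fun x => ?_, fun φ => ?_⟩
    · obtain ⟨a, rfl⟩ := quoMk_surjective t htc ξ.base x
      exact RingHom.congr_fun (congrArg Subtype.val h) a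
    · obtain ⟨ψ, rfl⟩ := hg.2 φ
      exact ⟨ptsMap ξ j.hom ψ, Pts.ext ξ fun a => rfl⟩
  have hinj : ∀ p, Function.Injective (g.hom.app p) := by
    intro p
    have hD : Subsingleton ((qCompl t ht htc).obj.carrier p) := by
      obtain ⟨_, _, _⟩ := finiteFlat hX (qCompl t ht htc) p
      obtain ⟨_, _, _⟩ := finiteFlat hX Q p
      refine (Module.rankAtStalk_eq_zero_iff_subsingleton (R := X.ring p)).mp (funext fun P => ?_)
      have := isIso_split t ht htc
      let e : A.obj.carrier p ≃ₗ[X.ring p] Q.obj.carrier p × (qCompl t ht htc).obj.carrier p :=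
        { ((prodPair (qMk t ht htc) (qComplMk t ht htc)).hom.app p).toLinearMap with
          invFun := (inv (prodPair (qMk t ht htc) (qComplMk t ht htc))).hom.app p
          left_inv := fun x => congr($(congrArg (fun k : A ⟶ A => k.hom.app p)
            (IsIso.hom_inv_id (prodPair (qMk t ht htc) (qComplMk t ht htc)))) x)
          right_inv := fun x => congr($(congrArg
            (fun k : prodFEt (qFEt t ht htc) (qCompl t ht htc) ⟶ _ => k.hom.app p)
            (IsIso.inv_hom_id (prodPair (qMk t ht htc) (qComplMk t ht htc)))) x) }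
      have h := congrFun (Module.rankAtStalk_eq_of_equiv e) P
      rw [Module.rankAtStalk_prod] at h
      have h' := hrk A Q (Nat.card_eq_of_bijective _ hπ).symm p P
      simp only [Pi.add_apply] at h
      simp only [rk] at h'
      simp only [Pi.zero_apply]
      omega
    refine (injective_iff_map_eq_zero _).mpr fun x hx => ?_
    have ht0 : t p = 0 := by
      obtain ⟨a, ha⟩ := Ideal.mem_span_singleton'.mp (Ideal.Quotient.eq_zero_iff_mem.mp
        (Subsingleton.elim (α := (qCompl t ht htc).obj.carrier p) (Ideal.Quotient.mk _ 1) 0))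
      have : t p = a * (1 - t p) * t p := by rw [ha, one_mul]
      rw [this, mul_assoc, sub_mul, one_mul, ht p, sub_self, mul_zero]
    obtain ⟨b, rfl⟩ := Ideal.mem_span_singleton'.mp ((hker p x).mp hx)
    rw [ht0, mul_zero]
  have : IsIso g := isIso_of_bijective g
    (bijective_of_rk_eq hX g hinj (hrk A B (Nat.card_eq_of_bijective _ hg).symm))
  exact (isIso_unop_iff f).mp this

end Groth.SchFinAux
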