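import Groth.Agent.SchemeMorphisms.InvSplit
import Groth.Agent.SchemeMorphisms.SchFinRank
import Mathlib.CategoryTheory.SingleObj

/-!
Invariants of finite group actions on étale covers and the Galois category axioms.
-/

universe u

open TensorProduct CategoryTheory Limits Opposite

namespace Groth.SchFinAux

open SchFin

variable {X : RSpace.{u}} {A : Alg X} {G : Type u} [Group G] (σ : G → (A ⟶ A))

/-- The pointwise fixed subalgebra. -/
def invSub (p : X.pt) : Subalgebra (X.ring p) (A.carrier p) :=
  ⨅ g, AlgHom.equalizer ((σ g).app p) (AlgHom.id _ _)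

theorem mem_invSub {p : X.pt} {x : A.carrier p} : x ∈ invSub σ p ↔ ∀ g, (σ g).app p x = x := by
  simp only [invSub, Algebra.mem_iInf]
  exact Iff.rfl

/-- The algebra of invariants. -/
def invAlg : Alg X where
  carrier p := invSub σ p
  res {p q} h := ((A.res h).comp (invSub σ p).val.toRingHom).codRestrict (invSub σ q).toSubring
    fun x => (mem_invSub σ).mpr fun g => by
      change (σ g).app q (A.res h x.1) = A.res h x.1
      rw [← (σ g).compat, (mem_invSub σ).mp x.2 g]
  res_algebraMap h a := Subtype.ext (A.res_algebraMap h a)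
  res_self p b := Subtype.ext (A.res_self p b.1)
  res_comp h h' b := Subtype.ext (A.res_comp h h' b.1)

/-- The inclusion of the invariants. -/
def invIncl : invAlg σ ⟶ A := ⟨fun p => (invSub σ p).val, fun _ _ => rfl⟩

/-- The universal property of the invariants. -/
def invLift {B : Alg X} (f : B ⟶ A) (hf : ∀ g p b, (σ g).app p (f.app p b) = f.app p b) :
    B ⟶ invAlg σ :=
  ⟨fun p => (f.app p).codRestrict (invSub σ p) fun b => (mem_invSub σ).mpr fun g => hf g p b,
    fun h b => Subtype.ext (f.compat h b)⟩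

variable [Finite G]

theorem invAlg_qcoh (hflat : ∀ {p q : X.pt} (h : p ≤ q), (X.res h).Flat) (hA : A.IsQcoh) :
    (invAlg σ).IsQcoh := by
  intro p q h
  letI : Algebra (X.ring p) (X.ring q) := (X.res h).toAlgebra
  letI : Module (X.ring p) (A.toMod.carrier q) := Module.compHom _ (X.res h)
  haveI : IsScalarTower (X.ring p) (X.ring q) (A.toMod.carrier q) :=
    IsScalarTower.of_algebraMap_smul fun _ _ => rfl
  letI : Module (X.ring p) ((invAlg σ).toMod.carrier q) := Module.compHom _ (X.res h)
  haveI : IsScalarTower (X.ring p) (X.ring q) ((invAlg σ).toMod.carrier q) :=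
    IsScalarTower.of_algebraMap_smul fun _ _ => rfl
  have : Module.Flat (X.ring p) (X.ring q) := hflat h
  let eA := IsBaseChange.equiv (hA p q h)
  let Ip : Submodule (X.ring p) (A.carrier p) := Subalgebra.toSubmodule (invSub σ p)
  let L : X.ring q ⊗[X.ring p] ↥Ip →ₗ[X.ring q] A.toMod.carrier q :=
    eA.toLinearMap ∘ₗ TensorProduct.AlgebraTensorModule.lTensor (X.ring q) (X.ring q) Ip.subtype
  have hL : ∀ t, L t = eA (Ip.subtype.lTensor (X.ring q) t) := fun _ => rfl
  have hnat : ∀ g t, eA (((σ g).app p).toLinearMap.lTensor (X.ring q) t) =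
      (show A.toMod.carrier q from (σ g).app q (show A.carrier q from eA t)) := fun g t => by
    induction t using TensorProduct.induction_on with
    | zero =>
      exact ((congrArg eA (map_zero (((σ g).app p).toLinearMap.lTensor (X.ring q)))).trans (map_zero eA)).trans
        ((congrArg ((σ g).app q) (map_zero eA)).trans (map_zero _)).symm
    | tmul s a =>
      refine (IsBaseChange.equiv_tmul (hA p q h) s (show A.toMod.carrier p from (σ g).app p a)).trans ?_
      refine Eq.trans ?_ (congrArg ((σ g).app q) (IsBaseChange.equiv_tmul (hA p q h) s a)).symm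
      change s • A.res h ((σ g).app p a) = (σ g).app q (s • A.res h a)
      rw [(σ g).compat, map_smul]
    | add t t' ht ht' =>
      exact ((congrArg eA (map_add (((σ g).app p).toLinearMap.lTensor (X.ring q)) t t')).trans
        (map_add eA _ _)).trans ((congrArg₂ (· + ·) ht ht').trans
        ((congrArg ((σ g).app q) (map_add eA t t')).trans (map_add _ _ _)).symm)
  have key := fun t => Groth.InvSplit.lTensor_fixed (M := X.ring q)
    (fun g => ((σ g).app p).toLinearMap) Ip (fun x => mem_invSub σ) t
  have hinj : Function.Injective L := fun s t hst =>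
    Groth.InvSplit.lTensor_subtype_injective (M := X.ring q) Ip (eA.injective ((hL s).symm.trans (hst.trans (hL t))))
  have hmem : ∀ t, (show A.carrier q from L t) ∈ invSub σ q := fun t => (mem_invSub σ).mpr fun g => by
    have := (key (Ip.subtype.lTensor (X.ring q) t)).mp ⟨t, rfl⟩ g
    exact ((hnat g (Ip.subtype.lTensor (X.ring q) t)).symm).trans (congrArg eA this)
  let L' : X.ring q ⊗[X.ring p] ↥Ip →ₗ[X.ring q] (invAlg σ).toMod.carrier q :=
    { toFun := fun t => (⟨_, hmem t⟩ : invSub σ q)
      map_add' := fun s t => Subtype.ext (map_add L s t)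
      map_smul' := fun r t => Subtype.ext (map_smul L r t) }
  have hbij : Function.Bijective L' := by
    refine ⟨fun s t hst => hinj (congrArg (fun z : invSub σ q => z.1) hst), fun y => ?_⟩
    obtain ⟨t, ht⟩ := eA.surjective (show A.toMod.carrier q from (show invSub σ q from y).1)
    obtain ⟨s, hs⟩ := (key t).mpr fun g => eA.injective (((hnat g t).trans
      ((congrArg ((σ g).app q) ht).trans ((mem_invSub σ).mp (show invSub σ q from y).2 g))).trans ht.symm)
    exact ⟨s, Subtype.ext (((hL s).trans (congrArg eA hs)).trans ht)⟩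
  refine IsBaseChange.of_equiv (show X.ring q ⊗[X.ring p] (invAlg σ).toMod.carrier p ≃ₗ[X.ring q]
    (invAlg σ).toMod.carrier q from LinearEquiv.ofBijective L' hbij) fun x => ?_
  refine Subtype.ext ?_
  refine (IsBaseChange.equiv_tmul (hA p q h) (1 : X.ring q)
    (show A.toMod.carrier p from (show invSub σ p from x).1)).trans ?_
  exact one_smul _ _

theorem invAlg_etCover (hX : X.IsSchematic) (hA : A.IsEtCover) (hone : ∀ p x, (σ 1).app p x = x)
    (hmul : ∀ g h p x, (σ (g * h)).app p x = (σ g).app p ((σ h).app p x))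
    (hlt : ∃ (B : Alg X) (n : ℕ), B.IsCovering ∧
      ∀ p : X.pt, Nonempty (B.carrier p ⊗[X.ring p] A.carrier p ≃ₐ[B.carrier p] (Fin n → B.carrier p))) :
    (invAlg σ).IsEtCover := by
  refine ⟨invAlg_qcoh σ (fun h => flat_res hX h) hA.1, fun p => ⟨?_, ?_⟩⟩
  · have := (hA.2 p).1
    have := noetherian hX p
    exact Module.Finite.of_injective (invSub σ p).val.toLinearMap Subtype.val_injective
  · obtain ⟨B, n, hB, he⟩ := hlt
    have := (hB.2 p).2
    obtain ⟨e⟩ := he p
    exact Groth.InvSplit.etale_invariants e (fun g => (σ g).app p) (hone p) (fun g h => hmul g h p)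
      (invSub σ p) (fun x => mem_invSub σ)

section Limits

variable (hX : X.IsSchematic)
  (hlt : ∀ A : FEt X, ∃ (B : Alg X) (n : ℕ), B.IsCovering ∧
      ∀ p : X.pt, Nonempty (B.carrier p ⊗[X.ring p] A.obj.carrier p ≃ₐ[B.carrier p] (Fin n → B.carrier p)))
include hX hlt

theorem hasLimitsOfShape_singleObj : HasLimitsOfShape (SingleObj G) (FEt X) := by
  refine ⟨fun F => ?_⟩
  let A₀ := F.obj (SingleObj.star G)
  let s : G → (A₀.obj ⟶ A₀.obj) := fun g => (F.map (X := SingleObj.star G) (Y := SingleObj.star G) g).hom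
  have hone : ∀ p x, (s 1).app p x = x := fun p x =>
    congr($(congrArg (fun k : A₀ ⟶ A₀ => k.hom.app p) (F.map_id (SingleObj.star G))) x)
  have hmul : ∀ g h p x, (s (g * h)).app p x = (s g).app p ((s h).app p x) := fun g h p x =>
    congr($(congrArg (fun k : A₀ ⟶ A₀ => k.hom.app p)
      (F.map_comp (X := SingleObj.star G) (Y := SingleObj.star G) (Z := SingleObj.star G) h g)) x)
  let I : FEt X := ⟨invAlg s, invAlg_etCover s hX A₀.property hone hmul (hlt A₀)⟩
  let incl : I ⟶ A₀ := ObjectProperty.homMk (invIncl s)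
  let c : Cone F :=
    { pt := I
      π := { app := fun _ => incl
             naturality := fun _ _ g => feHom_ext fun p x => ((mem_invSub s).mp x.2 g).symm } }
  refine HasLimit.mk ⟨c,
    { lift := fun t => ObjectProperty.homMk (invLift s (t.π.app (SingleObj.star G)).hom fun g p b =>
        congr($(congrArg (fun k : t.pt ⟶ A₀ => k.hom.app p) (t.w (j := SingleObj.star G)
          (j' := SingleObj.star G) g)) b))
      fac := fun t j => feHom_ext fun p x => rfl
      uniq := fun t m hm => feHom_ext fun p x => Subtype.ext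
        (congr($(congrArg (fun k : t.pt ⟶ A₀ => k.hom.app p) (hm (SingleObj.star G))) x)) }⟩

theorem quotient_cocone (F : SingleObj G ⥤ (FEt X)ᵒᵖ) :
    HasColimit F ∧ ∀ {Ω : Type u} [Field Ω] [IsAlgClosed Ω] (ξ : GeomPt X Ω),
      PreservesColimit F ξ.fibFunctor := by
  let A₀ := (F.obj (SingleObj.star G)).unop
  let s : G → (A₀.obj ⟶ A₀.obj) := fun g =>
    (F.map (X := SingleObj.star G) (Y := SingleObj.star G) g⁻¹).unop.hom
  have hone : ∀ p x, (s 1).app p x = x := fun p x => by
    have h : F.map (X := SingleObj.star G) (Y := SingleObj.star G) (1 : G)⁻¹ = 𝟙 _ := by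
      rw [inv_one]; exact F.map_id (SingleObj.star G)
    exact congr($(congrArg (fun k : F.obj (SingleObj.star G) ⟶ F.obj (SingleObj.star G) =>
      k.unop.hom.app p) h) x)
  have hmul : ∀ g h p x, (s (g * h)).app p x = (s g).app p ((s h).app p x) := fun g h p x => by
    have e : F.map (X := SingleObj.star G) (Y := SingleObj.star G) (g * h)⁻¹ =
        F.map (X := SingleObj.star G) (Y := SingleObj.star G) g⁻¹ ≫
          F.map (X := SingleObj.star G) (Y := SingleObj.star G) h⁻¹ := by
      rw [mul_inv_rev]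
      exact F.map_comp (X := SingleObj.star G) (Y := SingleObj.star G) (Z := SingleObj.star G) g⁻¹ h⁻¹
    exact congr($(congrArg (fun k : F.obj (SingleObj.star G) ⟶ F.obj (SingleObj.star G) =>
      k.unop.hom.app p) e) x)
  have hs : ∀ (g : G), F.map (X := SingleObj.star G) (Y := SingleObj.star G) g =
      (ObjectProperty.homMk (s g⁻¹) : A₀ ⟶ A₀).op := fun g => by
    simp only [s, inv_inv]
    rfl
  let I : FEt X := ⟨invAlg s, invAlg_etCover s hX A₀.property hone hmul (hlt A₀)⟩
  let incl : I ⟶ A₀ := ObjectProperty.homMk (invIncl s)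
  let c : Cocone F :=
    { pt := op I
      ι := { app := fun _ => incl.op
             naturality := fun _ _ g => Quiver.Hom.unop_inj (feHom_ext fun p x => by
               change (F.map (X := SingleObj.star G) (Y := SingleObj.star G) g).unop.hom.app p x.1 = x.1
               rw [hs g]
               exact (mem_invSub s).mp x.2 g⁻¹) } }
  have hc : IsColimit c :=
    { desc := fun t => (ObjectProperty.homMk (invLift s (t.ι.app (SingleObj.star G)).unop.hom fun g p b =>
        congr($(congrArg (fun k : F.obj (SingleObj.star G) ⟶ t.pt => k.unop.hom.app p)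
          (t.w (j := SingleObj.star G) (j' := SingleObj.star G) g⁻¹)) b)) : t.pt.unop ⟶ I).op
      fac := fun t j => Quiver.Hom.unop_inj (feHom_ext fun p x => rfl)
      uniq := fun t m hm => Quiver.Hom.unop_inj (feHom_ext fun p x => Subtype.ext
        (congr($(congrArg (fun k : F.obj (SingleObj.star G) ⟶ t.pt => k.unop.hom.app p)
          (hm (SingleObj.star G))) x))) }
  refine ⟨HasColimit.mk ⟨c, hc⟩, fun {Ω} _ _ ξ => preservesColimit_of_preserves_colimit_cocone hc ?_⟩
  -- the fibre of the invariants is the orbit set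
  have hact : ∀ (g : G) (φ : Pts ξ A₀.obj),
      ξ.fibFunctor.map (F.map (X := SingleObj.star G) (Y := SingleObj.star G) g) (ptsEquiv ξ A₀ φ) =
        ptsEquiv ξ A₀ (ptsMap ξ (s g⁻¹) φ) := fun g φ => by
    rw [hs g]
    exact fib_map_apply ξ (A := A₀) (B := A₀) (ObjectProperty.homMk (s g⁻¹)) φ
  have hsurj : Function.Surjective (ptsMap ξ incl.hom) := fun φ => by
    have := (A₀.property.2 ξ.base).1
    letI : Algebra (I.obj.carrier ξ.base) (A₀.obj.carrier ξ.base) :=
      (incl.hom.app ξ.base).toRingHom.toAlgebra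
    have : IsScalarTower (X.ring ξ.base) (I.obj.carrier ξ.base) (A₀.obj.carrier ξ.base) :=
      IsScalarTower.of_algebraMap_eq fun a => rfl
    have := Module.Finite.of_restrictScalars_finite (X.ring ξ.base) (I.obj.carrier ξ.base)
      (A₀.obj.carrier ξ.base)
    obtain ⟨ψ, hψ⟩ := exists_extend (A := I.obj.carrier ξ.base) (B := A₀.obj.carrier ξ.base)
      Subtype.val_injective φ.1
    exact ⟨⟨ψ, fun r => (hψ (algebraMap (X.ring ξ.base) _ r)).trans (φ.2 r)⟩, Pts.ext ξ hψ⟩
  have horb : ∀ φ φ' : Pts ξ A₀.obj, ptsMap ξ incl.hom φ = ptsMap ξ incl.hom φ' →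
      ∃ g, φ' = ptsMap ξ (s g⁻¹) φ := fun φ φ' h => by
    have := (A₀.property.2 ξ.base).1
    obtain ⟨g, hg⟩ := Groth.InvSplit.exists_smul_eq (fun g => (s g).app ξ.base) (hone ξ.base)
      (fun g h => hmul g h ξ.base) φ.1 φ'.1 fun x hx =>
        (RingHom.congr_fun (congrArg Subtype.val h) (⟨x, (mem_invSub s).mpr hx⟩ : invSub s ξ.base)).symm
    exact ⟨g⁻¹, Pts.ext ξ fun a => by rw [inv_inv]; exact hg a⟩
  let T0 := ξ.fibFunctor.obj (F.obj (SingleObj.star G))
  have hsurj' : Function.Surjective (ξ.fibMap incl.hom) := fun z => by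
    obtain ⟨φ, rfl⟩ := (ptsEquiv ξ I).surjective z
    obtain ⟨ψ, rfl⟩ := hsurj φ
    exact ⟨ptsEquiv ξ A₀ ψ, fib_map_apply ξ incl ψ⟩
  have horb' : ∀ z z' : ξ.Fib A₀.obj, ξ.fibMap incl.hom z = ξ.fibMap incl.hom z' →
      ∃ g : G, ξ.fibFunctor.map (F.map (X := SingleObj.star G) (Y := SingleObj.star G) g) z = z' :=
    fun z z' h => by
      obtain ⟨φ, rfl⟩ := (ptsEquiv ξ A₀).surjective z
      obtain ⟨φ', rfl⟩ := (ptsEquiv ξ A₀).surjective z'
      obtain ⟨g, hg⟩ := horb φ φ' ((ptsEquiv ξ I).injective
        ((fib_map_apply ξ incl φ).symm.trans (h.trans (fib_map_apply ξ incl φ'))))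
      exact ⟨g, (hact g φ).trans (congrArg _ hg.symm)⟩
  refine
    { desc := fun t => FintypeCat.homMk fun z => t.ι.app (SingleObj.star G) (Function.surjInv hsurj' z)
      fac := fun t j => FintypeCat.hom_ext _ _ fun z => ?_
      uniq := fun t m hm => FintypeCat.hom_ext _ _ fun z => ?_ }
  · obtain ⟨g, hg⟩ := horb' (Function.surjInv hsurj' (ξ.fibMap incl.hom z)) z
      (Function.surjInv_eq hsurj' _)
    change t.ι.app (SingleObj.star G) (Function.surjInv hsurj' (ξ.fibMap incl.hom z)) = _
    rw [← ConcreteCategory.congr_hom (t.w (j := SingleObj.star G) (j' := SingleObj.star G) g)]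
    exact congrArg (t.ι.app (SingleObj.star G)) hg
  · refine (congrArg m (Function.surjInv_eq hsurj' z)).symm.trans ?_
    exact ConcreteCategory.congr_hom (hm (SingleObj.star G)) (Function.surjInv hsurj' z)

end Limits

/-- The Galois category of étale covers with the fibre functor at a geometric point. -/
theorem galois (hX : X.IsSchematic) (hW : X.IsWellConnected)
    (hlt : ∀ A : FEt X, ∃ (B : Alg X) (n : ℕ), B.IsCovering ∧
      ∀ p : X.pt, Nonempty (B.carrier p ⊗[X.ring p] A.obj.carrier p ≃ₐ[B.carrier p] (Fin n → B.carrier p)))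
    (hepi : ∀ (A B : FEt X) (f : A ⟶ B), Epi f → ∀ p : X.pt, Function.Surjective (f.hom.app p))
    {Ω : Type u} [Field Ω] [IsAlgClosed Ω] (ξ : GeomPt X Ω) :
    ∃ h : PreGaloisCategory (FEt X)ᵒᵖ, @PreGaloisCategory.FiberFunctor (FEt X)ᵒᵖ _ h ξ.fibFunctor := by
  have : HasBinaryProducts (FEt X) := by
    have : ∀ A B : FEt X, HasLimit (pair A B) := fun A B => HasLimit.mk ⟨_, prodIsLimit A B⟩
    exact hasBinaryProducts_of_hasLimit_pair _
  have : HasTerminal (FEt X) :=
    (IsTerminal.ofUniqueHom (Y := (⟨zeroAlg, zeroAlg_etCover⟩ : FEt X))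
      (fun A => ObjectProperty.homMk
        ⟨fun p => { toFun := fun _ => PUnit.unit, map_one' := rfl, map_mul' := fun _ _ => rfl,
                    map_zero' := rfl, map_add' := fun _ _ => rfl, commutes' := fun _ => rfl },
          fun _ _ => rfl⟩)
      (fun A m => feHom_ext fun _ _ => rfl)).hasTerminal
  have : HasFiniteProducts (FEt X) := hasFiniteProducts_of_has_binary_and_terminal
  have : HasTerminal (FEt X)ᵒᵖ := (terminalOpOfInitial strIsInitial).hasTerminal
  have := hasPushouts_fet hX
  have hpg : PreGaloisCategory (FEt X)ᵒᵖ :=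
    { hasTerminal := inferInstance
      hasPullbacks := inferInstance
      hasFiniteCoproducts := inferInstance
      hasQuotientsByFiniteGroups := fun G _ _ => ⟨fun F => (quotient_cocone hX hlt F).1⟩
      monoInducesIsoOnDirectSummand := fun {Y Z} i _ => by
        have : Epi i.unop := unop_epi_of_mono i
        obtain ⟨D, π, ⟨hl⟩⟩ := exists_complement hX i.unop (hepi _ _ _ inferInstance)
        refine ⟨op D, π.op, ⟨BinaryCofan.IsColimit.mk _
          (fun u v => (hl.lift (BinaryFan.mk u.unop v.unop)).op)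
          (fun u v => Quiver.Hom.unop_inj (hl.fac (BinaryFan.mk u.unop v.unop) ⟨WalkingPair.left⟩))
          (fun u v => Quiver.Hom.unop_inj (hl.fac (BinaryFan.mk u.unop v.unop) ⟨WalkingPair.right⟩))
          fun u v m hu hv => Quiver.Hom.unop_inj (BinaryFan.IsLimit.hom_ext hl ?_ ?_)⟩⟩
        · exact (congrArg Quiver.Hom.unop hu).trans
            (hl.fac (BinaryFan.mk u.unop v.unop) ⟨WalkingPair.left⟩).symm
        · exact (congrArg Quiver.Hom.unop hv).trans
            (hl.fac (BinaryFan.mk u.unop v.unop) ⟨WalkingPair.right⟩).symm }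
  exact ⟨hpg,
    { preservesTerminalObjects := preservesTerminal ξ
      preservesPullbacks := preservesPullbacks ξ hX
      preservesFiniteCoproducts := preservesFiniteCoproducts ξ
      preservesEpis := preservesEpi ξ hX
      preservesQuotientsByFiniteGroups := fun G _ _ => ⟨fun {F} => (quotient_cocone hX hlt F).2 ξ⟩
      reflectsIsos := reflectsIso hX ξ hW }⟩

end Groth.SchFinAux
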