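import Groth.Agent.SchemeMorphisms.SchFinPush
import Groth.Agent.SchemeMorphisms.SchFinSplit
import Mathlib.RingTheory.Ideal.GoingUp
import Mathlib.CategoryTheory.Limits.Preserves.Shapes.Pullbacks
import Mathlib.CategoryTheory.Limits.Constructions.FiniteProductsOfBinaryProducts
import Mathlib.CategoryTheory.Limits.Shapes.Pullback.IsPullback.Defs
import Mathlib.CategoryTheory.Limits.Shapes.Opposites.Products

/-!
The fibre functor of a geometric point through points with values in the field.
-/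

universe u

open TensorProduct CategoryTheory Limits Opposite

namespace Groth.SchFinAux

open SchFin

theorem exists_algHom_ker {Ω E : Type u} [Field Ω] [IsAlgClosed Ω] [CommRing E] [Algebra Ω E]
    [Module.Finite Ω E] (M : Ideal E) [M.IsPrime] : ∃ χ : E →ₐ[Ω] Ω, RingHom.ker χ = M := by
  have : Algebra.IsIntegral Ω E := Algebra.IsIntegral.of_finite Ω E
  have hbij := IsAlgClosed.algebraMap_bijective_of_isIntegral (k := Ω) (K := E ⧸ M)
  refine ⟨(AlgEquiv.ofBijective (Algebra.ofId Ω (E ⧸ M)) hbij).symm.toAlgHom.comp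
    (Ideal.Quotient.mkₐ Ω M), ?_⟩
  exact (RingHom.ker_comp_of_injective _ (f := (AlgEquiv.ofBijective (Algebra.ofId Ω (E ⧸ M))
    hbij).symm.toAlgHom.toRingHom) (AlgEquiv.injective _)).trans Ideal.mk_ker

theorem algHom_ext_ker {Ω E : Type u} [Field Ω] [CommRing E] [Algebra Ω E] {χ χ' : E →ₐ[Ω] Ω}
    (h : RingHom.ker χ ≤ RingHom.ker χ') : χ = χ' := by
  refine AlgHom.ext fun e => ?_
  have h1 : e - algebraMap Ω E (χ e) ∈ RingHom.ker χ := by
    rw [RingHom.mem_ker, map_sub, AlgHom.commutes]; simp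
  have h2 := h h1
  rw [RingHom.mem_ker, map_sub, AlgHom.commutes, sub_eq_zero] at h2
  simpa using h2.symm

/-- Field-valued homomorphisms extend along injective integral ring maps. -/
theorem exists_extend {A B Ω : Type u} [CommRing A] [CommRing B] [Field Ω] [IsAlgClosed Ω]
    [Algebra A B] [Module.Finite A B] (hinj : Function.Injective (algebraMap A B)) (φ : A →+* Ω) :
    ∃ ψ : B →+* Ω, ∀ a, ψ (algebraMap A B a) = φ a := by
  have := RingHom.ker_isPrime φ
  have : Algebra.IsIntegral A B := Algebra.IsIntegral.of_finite A B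
  obtain ⟨P, -, hP, hPA⟩ := Ideal.exists_ideal_over_prime_of_isIntegral (S := B) (RingHom.ker φ) ⊥
    (by rw [← RingHom.ker_eq_comap_bot, (RingHom.injective_iff_ker_eq_bot _).mp hinj]; exact bot_le)
  letI := (Ideal.ResidueField.map (RingHom.ker φ) P (algebraMap A B) hPA.symm).toAlgebra
  letI := (Ideal.ResidueField.lift (RingHom.ker φ) φ le_rfl (fun a ha => by
    simpa [IsUnit.mem_submonoid_iff] using ha)).toAlgebra
  obtain ⟨m, hm⟩ := Ideal.exists_maximal (Ω ⊗[(RingHom.ker φ).ResidueField] P.ResidueField)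
  letI : Algebra A Ω := φ.toAlgebra
  have hnt : Nontrivial (Ω ⊗[A] B) := by
    let i : Ω →+* _ ⧸ m := (Ideal.Quotient.mk m).comp (Algebra.TensorProduct.includeLeft :
      Ω →ₐ[(RingHom.ker φ).ResidueField] Ω ⊗[(RingHom.ker φ).ResidueField] P.ResidueField).toRingHom
    let jj : B →+* _ ⧸ m := (Ideal.Quotient.mk m).comp ((Algebra.TensorProduct.includeRight :
      P.ResidueField →ₐ[(RingHom.ker φ).ResidueField]
        Ω ⊗[(RingHom.ker φ).ResidueField] P.ResidueField).toRingHom.comp (algebraMap B P.ResidueField))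
    have hj : ∀ a, jj (algebraMap A B a) = i (φ a) := fun a => by
      refine congrArg (Ideal.Quotient.mk m) ?_
      change (Algebra.TensorProduct.includeRight :
        P.ResidueField →ₐ[(RingHom.ker φ).ResidueField]
          Ω ⊗[(RingHom.ker φ).ResidueField] P.ResidueField) (algebraMap _ _ (algebraMap A B a)) =
        (Algebra.TensorProduct.includeLeft :
          Ω →ₐ[(RingHom.ker φ).ResidueField] Ω ⊗[(RingHom.ker φ).ResidueField] P.ResidueField) (φ a)
      rw [← Ideal.ResidueField.map_algebraMap (RingHom.ker φ) P (algebraMap A B) hPA.symm,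
        ← Ideal.ResidueField.lift_algebraMap (RingHom.ker φ) φ le_rfl (fun a ha => by
          simpa [IsUnit.mem_submonoid_iff] using ha) a]
      exact ((Algebra.TensorProduct.includeRight :
          P.ResidueField →ₐ[(RingHom.ker φ).ResidueField]
            Ω ⊗[(RingHom.ker φ).ResidueField] P.ResidueField).commutes _).trans
        ((Algebra.TensorProduct.includeLeft :
          Ω →ₐ[(RingHom.ker φ).ResidueField]
            Ω ⊗[(RingHom.ker φ).ResidueField] P.ResidueField).commutes _).symm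
    exact (Algebra.TensorProduct.lift ({ i with commutes' := fun _ => rfl } : Ω →ₐ[A] _)
      ({ jj with commutes' := hj } : B →ₐ[A] _) fun _ _ => Commute.all _ _).toRingHom.domain_nontrivial
  obtain ⟨M, hM⟩ := Ideal.exists_maximal (Ω ⊗[A] B)
  obtain ⟨χ, -⟩ := exists_algHom_ker (Ω := Ω) M
  refine ⟨χ.toRingHom.comp (Algebra.TensorProduct.includeRight : B →ₐ[A] Ω ⊗[A] B).toRingHom, fun a => ?_⟩
  exact (congrArg χ (((Algebra.TensorProduct.includeRight : B →ₐ[A] Ω ⊗[A] B).commutes a).trans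
    (IsScalarTower.algebraMap_apply A Ω (Ω ⊗[A] B) a))).trans (χ.commutes (φ a))

variable {X : RSpace.{u}} {Ω : Type u} [Field Ω] [IsAlgClosed Ω] (ξ : GeomPt X Ω)

/-- The points of an algebra over a geometric point. -/
def Pts (A : Alg X) : Type u :=
  {φ : A.carrier ξ.base →+* Ω // ∀ r, φ (algebraMap _ _ r) = ξ.toField r}

theorem Pts.ext {A : Alg X} {φ ψ : Pts ξ A} (h : ∀ a, φ.1 a = ψ.1 a) : φ = ψ :=
  Subtype.ext (RingHom.ext h)

/-- Pullback of points. -/
def ptsMap {A B : Alg X} (f : A ⟶ B) (φ : Pts ξ B) : Pts ξ A :=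
  ⟨φ.1.comp (f.app ξ.base).toRingHom, fun r => (congrArg φ.1 ((f.app ξ.base).commutes r)).trans (φ.2 r)⟩

/-- The point of the fibre of a field-valued point. -/
def ptsToFib (A : Alg X) (φ : Pts ξ A) : ξ.Fib A :=
  letI : Algebra (X.ring ξ.base) Ω := ξ.toField.toAlgebra
  ⟨RingHom.ker (Algebra.TensorProduct.lift (AlgHom.id Ω Ω)
    ({ φ.1 with commutes' := φ.2 } : A.carrier ξ.base →ₐ[X.ring ξ.base] Ω) fun _ _ => Commute.all _ _),
    RingHom.ker_isPrime _⟩

theorem fibMap_ptsToFib {A B : Alg X} (f : A ⟶ B) (φ : Pts ξ B) :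
    ξ.fibMap f (ptsToFib ξ B φ) = ptsToFib ξ A (ptsMap ξ f φ) := by
  let _ : Algebra (X.ring ξ.base) Ω := ξ.toField.toAlgebra
  refine PrimeSpectrum.ext ?_
  change Ideal.comap (Algebra.TensorProduct.map (AlgHom.id Ω Ω) (f.app ξ.base)).toRingHom
    (RingHom.ker (Algebra.TensorProduct.lift (AlgHom.id Ω Ω)
      ({ φ.1 with commutes' := φ.2 } : B.carrier ξ.base →ₐ[X.ring ξ.base] Ω) fun _ _ => Commute.all _ _).toRingHom) =
    RingHom.ker (Algebra.TensorProduct.lift (AlgHom.id Ω Ω)
      ({ (ptsMap ξ f φ).1 with commutes' := (ptsMap ξ f φ).2 } : A.carrier ξ.base →ₐ[X.ring ξ.base] Ω)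
      fun _ _ => Commute.all _ _).toRingHom
  rw [RingHom.comap_ker]
  congr 1
  exact congrArg AlgHom.toRingHom (Algebra.TensorProduct.ext' fun s a => by
    simp only [AlgHom.comp_apply, Algebra.TensorProduct.map_tmul, AlgHom.id_apply,
      Algebra.TensorProduct.lift_tmul]
    rfl : ((Algebra.TensorProduct.lift (AlgHom.id Ω Ω)
      ({ φ.1 with commutes' := φ.2 } : B.carrier ξ.base →ₐ[X.ring ξ.base] Ω) fun _ _ => Commute.all _ _).comp
        (Algebra.TensorProduct.map (AlgHom.id Ω Ω) (f.app ξ.base))) = _)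

theorem ptsToFib_bijective (A : FEt X) : Function.Bijective (ptsToFib ξ A.obj) := by
  let _ : Algebra (X.ring ξ.base) Ω := ξ.toField.toAlgebra
  have := (A.property.2 ξ.base).1
  constructor
  · intro φ ψ h
    have h' := algHom_ext_ker (congrArg PrimeSpectrum.asIdeal h).le
    refine Pts.ext ξ fun a => ?_
    have := DFunLike.congr_fun h' (1 ⊗ₜ a)
    rw [Algebra.TensorProduct.lift_tmul, Algebra.TensorProduct.lift_tmul] at this
    simpa using this
  · intro P
    obtain ⟨χ, hχ⟩ := exists_algHom_ker (Ω := Ω) P.asIdeal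
    let φ : Pts ξ A.obj := ⟨χ.toRingHom.comp (Algebra.TensorProduct.includeRight :
        A.obj.carrier ξ.base →ₐ[X.ring ξ.base] Ω ⊗[X.ring ξ.base] A.obj.carrier ξ.base).toRingHom,
      fun r => (congrArg χ (((Algebra.TensorProduct.includeRight :
          A.obj.carrier ξ.base →ₐ[X.ring ξ.base] Ω ⊗[X.ring ξ.base] A.obj.carrier ξ.base).commutes r).trans
        (IsScalarTower.algebraMap_apply (X.ring ξ.base) Ω _ r))).trans (χ.commutes _)⟩
    refine ⟨φ, PrimeSpectrum.ext (Eq.trans ?_ hχ)⟩
    refine congrArg (fun k : Ω ⊗[X.ring ξ.base] A.obj.carrier ξ.base →ₐ[Ω] Ω => RingHom.ker k)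
      (Algebra.TensorProduct.ext' fun s a => ?_)
    refine (Algebra.TensorProduct.lift_tmul _ _ _ s a).trans ?_
    rw [show (s ⊗ₜ[X.ring ξ.base] a : Ω ⊗[X.ring ξ.base] A.obj.carrier ξ.base) = s • (1 ⊗ₜ a) by
      rw [TensorProduct.smul_tmul', smul_eq_mul, mul_one], map_smul]
    rfl

/-- Points and fibre. -/
noncomputable def ptsEquiv (A : FEt X) : Pts ξ A.obj ≃ ξ.Fib A.obj :=
  Equiv.ofBijective _ (ptsToFib_bijective ξ A)

theorem ptsEquiv_symm_fibMap {A B : FEt X} (f : A ⟶ B) (z : ξ.Fib B.obj) :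
    (ptsEquiv ξ A).symm (ξ.fibMap f.hom z) = ptsMap ξ f.hom ((ptsEquiv ξ B).symm z) := by
  obtain ⟨φ, rfl⟩ := (ptsEquiv ξ B).surjective z
  rw [Equiv.symm_apply_apply, Equiv.symm_apply_eq]
  exact fibMap_ptsToFib ξ f.hom φ

theorem fib_map_apply {A B : FEt X} (f : A ⟶ B) (φ : Pts ξ B.obj) :
    ξ.fibFunctor.map f.op (ptsEquiv ξ B φ) = ptsEquiv ξ A (ptsMap ξ f.hom φ) :=
  fibMap_ptsToFib ξ f.hom φ

theorem preservesTerminal : PreservesLimitsOfShape (Discrete PEmpty.{1}) ξ.fibFunctor := by
  have hT : IsTerminal (op (⟨Alg.str X, str_etCover⟩ : FEt X)) := terminalOpOfInitial strIsInitial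
  let e := ptsEquiv ξ (⟨Alg.str X, str_etCover⟩ : FEt X)
  have : Unique (ξ.Fib (Alg.str X)) :=
    { default := e ⟨ξ.toField, fun _ => rfl⟩
      uniq := fun z => by
        obtain ⟨φ, rfl⟩ := e.surjective z
        exact congrArg e (Pts.ext ξ fun a => φ.2 a) }
  have hU : IsTerminal (ξ.fibFunctor.obj (op (⟨Alg.str X, str_etCover⟩ : FEt X))) :=
    IsTerminal.ofUniqueHom (fun T => FintypeCat.homMk fun _ => (default : ξ.Fib (Alg.str X)))
      fun T m => FintypeCat.hom_ext _ _ fun t => Unique.eq_default (α := ξ.Fib (Alg.str X)) _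
  have : PreservesLimit (Functor.empty.{0} (FEt X)ᵒᵖ) ξ.fibFunctor :=
    preservesLimit_of_preserves_limit_cone hT
      ((IsTerminal.equivOfIso (Iso.refl _)).toFun hU |> (isLimitMapConeEmptyConeEquiv ξ.fibFunctor _).symm)
  exact preservesLimitsOfShape_pempty_of_preservesTerminal _

theorem preservesInitial : PreservesColimitsOfShape (Discrete PEmpty.{1}) ξ.fibFunctor := by
  have hT' : IsTerminal (⟨zeroAlg, zeroAlg_etCover⟩ : FEt X) :=
    IsTerminal.ofUniqueHom
      (fun A => ObjectProperty.homMk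
        ⟨fun p => { toFun := fun _ => PUnit.unit, map_one' := rfl, map_mul' := fun _ _ => rfl,
                    map_zero' := rfl, map_add' := fun _ _ => rfl, commutes' := fun _ => rfl },
          fun _ _ => rfl⟩)
      (fun A m => feHom_ext fun _ _ => rfl)
  have hI : IsInitial (op (⟨zeroAlg, zeroAlg_etCover⟩ : FEt X)) := initialOpOfTerminal hT'
  have hempty : IsEmpty (ξ.Fib (zeroAlg : Alg X)) := ⟨fun z => by
    let φ := (ptsEquiv ξ (⟨zeroAlg, zeroAlg_etCover⟩ : FEt X)).symm z
    have h : φ.1 0 = φ.1 1 := congrArg φ.1 (Subsingleton.elim (α := PUnit) _ _)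
    rw [map_zero, map_one] at h
    exact zero_ne_one h⟩
  have hU : IsInitial (ξ.fibFunctor.obj (op (⟨zeroAlg, zeroAlg_etCover⟩ : FEt X))) :=
    IsInitial.ofUniqueHom (fun T => FintypeCat.homMk fun z => (hempty.false z).elim)
      fun T m => FintypeCat.hom_ext _ _ fun z => (hempty.false z).elim
  have : PreservesColimit (Functor.empty.{0} (FEt X)ᵒᵖ) ξ.fibFunctor :=
    preservesColimit_of_preserves_colimit_cocone hI
      ((isColimitMapCoconeEmptyCoconeEquiv ξ.fibFunctor _).symm hU)
  exact preservesColimitsOfShape_pempty_of_preservesInitial _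

theorem preservesBinaryCoproducts : PreservesColimitsOfShape (Discrete WalkingPair) ξ.fibFunctor := by
  refine ⟨fun {K} => ?_⟩
  suffices h : ∀ A B : FEt X, PreservesColimit (pair (op A) (op B)) ξ.fibFunctor by
    have := h (K.obj ⟨WalkingPair.left⟩).unop (K.obj ⟨WalkingPair.right⟩).unop
    exact preservesColimit_of_iso_diagram _ (diagramIsoPair K).symm
  intro A B
  let c : BinaryCofan (op A) (op B) := BinaryCofan.mk (prodFst A B).op (prodSnd A B).op
  have hc : IsColimit c := BinaryCofan.IsColimit.mk _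
    (fun u v => (prodPair u.unop v.unop).op)
    (fun u v => Quiver.Hom.unop_inj (feHom_ext fun _ _ => rfl))
    (fun u v => Quiver.Hom.unop_inj (feHom_ext fun _ _ => rfl))
    fun u v m hu hv => Quiver.Hom.unop_inj (feHom_ext fun p x => by subst hu; subst hv; rfl)
  refine preservesColimit_of_preserves_colimit_cocone hc
    ((isColimitMapCoconeBinaryCofanEquiv ξ.fibFunctor _ _).symm ?_)
  classical
  let P := prodFEt A B
  have hsum : ∀ φ : Pts ξ P.obj, (∃ α : Pts ξ A.obj, φ = ptsMap ξ (prodFst A B).hom α) ∨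
      ∃ β : Pts ξ B.obj, φ = ptsMap ξ (prodSnd A B).hom β := by
    intro φ
    let u : A.obj.carrier ξ.base × B.obj.carrier ξ.base →+* Ω := φ.1
    have hidem : IsIdempotentElem (u (1, 0)) := by
      rw [IsIdempotentElem, ← map_mul]; simp
    have hsum : u (1, 0) + u (0, 1) = 1 := by
      rw [← map_add]; exact (congrArg u (by simp)).trans (map_one u)
    have hφ : ∀ r, u (algebraMap _ _ r, algebraMap _ _ r) = ξ.toField r := φ.2
    rcases IsIdempotentElem.iff_eq_zero_or_one.mp hidem with h0 | h1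
    · right
      rw [h0, zero_add] at hsum
      let v : B.obj.carrier ξ.base →+* Ω :=
        { toFun := fun b => u (0, b)
          map_one' := hsum
          map_mul' := fun a b => by rw [← map_mul]; simp
          map_zero' := map_zero u
          map_add' := fun a b => by rw [← map_add]; simp }
      have hv : ∀ a b, u (a, b) = v b := fun a b => by
        have : u (a, b) = u (a, b) * u (0, 1) := by rw [hsum, mul_one]
        rw [this, ← map_mul]; simp [v]
      exact ⟨⟨v, fun r => (hv _ _).symm.trans (hφ r)⟩, Pts.ext ξ fun x => hv x.1 x.2⟩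
    · left
      let v : A.obj.carrier ξ.base →+* Ω :=
        { toFun := fun a => u (a, 0)
          map_one' := h1
          map_mul' := fun a b => by rw [← map_mul]; simp
          map_zero' := map_zero u
          map_add' := fun a b => by rw [← map_add]; simp }
      have hv : ∀ a b, u (a, b) = v a := fun a b => by
        have : u (a, b) = u (a, b) * u (1, 0) := by rw [h1, mul_one]
        rw [this, ← map_mul]; simp [v]
      exact ⟨⟨v, fun r => (hv _ _).symm.trans (hφ r)⟩, Pts.ext ξ fun x => hv x.1 x.2⟩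
  have hdisj : ∀ (α : Pts ξ A.obj) (β : Pts ξ B.obj),
      ptsMap ξ (prodFst A B).hom α ≠ ptsMap ξ (prodSnd A B).hom β := fun α β h => by
    have := RingHom.congr_fun (congrArg Subtype.val h)
      (show P.obj.carrier ξ.base from ((1 : A.obj.carrier ξ.base), (0 : B.obj.carrier ξ.base)))
    change α.1 1 = β.1 0 at this
    rw [map_one, map_zero] at this
    exact one_ne_zero this
  have hinjA : Function.Injective (ptsMap ξ (prodFst A B).hom) := fun α α' h => Pts.ext ξ fun a =>
    RingHom.congr_fun (congrArg Subtype.val h) (show P.obj.carrier ξ.base from (a, (0 : B.obj.carrier ξ.base)))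
  have hinjB : Function.Injective (ptsMap ξ (prodSnd A B).hom) := fun α α' h => Pts.ext ξ fun a =>
    RingHom.congr_fun (congrArg Subtype.val h) (show P.obj.carrier ξ.base from ((0 : A.obj.carrier ξ.base), a))
  let G : ξ.Fib A.obj ⊕ ξ.Fib B.obj → ξ.Fib P.obj :=
    Sum.elim (ξ.fibMap (prodFst A B).hom) (ξ.fibMap (prodSnd A B).hom)
  have hG : Function.Bijective G := by
    constructor
    · rintro (a | b) (a' | b') h
      all_goals
        have h' := congrArg (ptsEquiv ξ P).symm h
        simp only [G, Sum.elim_inl, Sum.elim_inr] at h'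
        erw [ptsEquiv_symm_fibMap, ptsEquiv_symm_fibMap] at h'
      · exact congrArg _ ((ptsEquiv ξ A).symm.injective (hinjA h'))
      · exact absurd h' (hdisj _ _)
      · exact absurd h'.symm (hdisj _ _)
      · exact congrArg _ ((ptsEquiv ξ B).symm.injective (hinjB h'))
    · intro z
      obtain ⟨φ, rfl⟩ := (ptsEquiv ξ P).surjective z
      rcases hsum φ with ⟨α, rfl⟩ | ⟨β, rfl⟩
      · exact ⟨Sum.inl (ptsEquiv ξ A α), fib_map_apply ξ (prodFst A B) α⟩
      · exact ⟨Sum.inr (ptsEquiv ξ B β), fib_map_apply ξ (prodSnd A B) β⟩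
  let eG := Equiv.ofBijective G hG
  refine BinaryCofan.IsColimit.mk _ (fun {T} u v => FintypeCat.homMk fun z =>
      Sum.elim (fun a => u a) (fun b => v b) (eG.symm z)) (fun {T} u v => ?_) (fun {T} u v => ?_)
    fun {T} u v m hu hv => ?_
  · refine FintypeCat.hom_ext _ _ fun a => ?_
    exact congrArg (Sum.elim (fun a => u a) (fun b => v b)) (eG.symm_apply_apply (Sum.inl a))
  · refine FintypeCat.hom_ext _ _ fun b => ?_
    exact congrArg (Sum.elim (fun a => u a) (fun b => v b)) (eG.symm_apply_apply (Sum.inr b))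
  · refine FintypeCat.hom_ext _ _ fun z => ?_
    obtain ⟨w, rfl⟩ := eG.surjective z
    change m (eG w) = Sum.elim _ _ (eG.symm (eG w))
    rw [eG.symm_apply_apply]
    subst hu; subst hv
    cases w <;> rfl

theorem preservesFiniteCoproducts : PreservesFiniteCoproducts ξ.fibFunctor := by
  have : HasBinaryProducts (FEt X) := by
    have : ∀ A B : FEt X, HasLimit (pair A B) := fun A B => HasLimit.mk ⟨_, prodIsLimit A B⟩
    exact hasBinaryProducts_of_hasLimit_pair _
  have : HasTerminal (FEt X) :=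
    (IsTerminal.ofUniqueHom (Y := (⟨zeroAlg, zeroAlg_etCover⟩ : FEt X))
      (fun A => ObjectProperty.homMk
        ⟨fun p => { toFun := fun _ => PUnit.unit, map_one' := rfl, map_mul' := fun _ _ => rfl,
                    map_zero' := rfl, map_add' := fun _ _ => rfl, commutes' := fun _ => rfl },
          fun _ _ => rfl⟩)
      (fun A m => feHom_ext fun _ _ => rfl)).hasTerminal
  have : HasFiniteProducts (FEt X) := hasFiniteProducts_of_has_binary_and_terminal
  have : HasFiniteCoproducts (FEt X)ᵒᵖ := inferInstance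
  have := preservesInitial ξ
  have := preservesBinaryCoproducts ξ
  exact ⟨fun n => PreservesFiniteCoproducts.of_preserves_binary_and_initial _ _⟩

theorem preservesPullbacks (hX : X.IsSchematic) :
    PreservesLimitsOfShape WalkingCospan ξ.fibFunctor := by
  refine ⟨fun {K} => ?_⟩
  suffices h : ∀ {A B C : FEt X} (f : A ⟶ B) (g : A ⟶ C),
      PreservesLimit (cospan f.op g.op) ξ.fibFunctor by
    have : PreservesLimit (cospan (K.map WalkingCospan.Hom.inl) (K.map WalkingCospan.Hom.inr))
        ξ.fibFunctor := h (K.map WalkingCospan.Hom.inl).unop (K.map WalkingCospan.Hom.inr).unop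
    exact preservesLimit_of_iso_diagram _ (diagramIsoCospan K).symm
  intro A B C f g
  have hsq : IsPushout f g (pushInl hX f g) (pushInr hX f g) :=
    IsPushout.of_isColimit (pushIsColimit hX f g)
  refine preservesLimit_of_preserves_limit_cone hsq.op.flip.isLimit
    ((isLimitMapConePullbackConeEquiv ξ.fibFunctor hsq.op.flip.w).symm ?_)
  have hbij : ∀ (β : Pts ξ B.obj) (γ : Pts ξ C.obj), ptsMap ξ f.hom β = ptsMap ξ g.hom γ →
      ∃! φ : Pts ξ (pushFEt hX f g).obj, ptsMap ξ (pushInl hX f g).hom φ = β ∧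
        ptsMap ξ (pushInr hX f g).hom φ = γ := fun β γ h => by
    have hβγ : ∀ a, β.1 (f.hom.app ξ.base a) = γ.1 (g.hom.app ξ.base a) :=
      fun a => RingHom.congr_fun (congrArg Subtype.val h) a
    refine ⟨⟨pushLift (f.hom.app ξ.base) (g.hom.app ξ.base) β.1 γ.1 hβγ, fun r =>
        (pushLift_inl (f.hom.app ξ.base) (g.hom.app ξ.base) β.1 γ.1 hβγ _).trans (β.2 r)⟩,
      ⟨Pts.ext ξ fun b => pushLift_inl (f.hom.app ξ.base) (g.hom.app ξ.base) β.1 γ.1 hβγ b,
        Pts.ext ξ fun c => pushLift_inr (f.hom.app ξ.base) (g.hom.app ξ.base) β.1 γ.1 hβγ c⟩, ?_⟩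
    rintro φ' ⟨h₁, h₂⟩
    refine Pts.ext ξ fun t => RingHom.congr_fun (f := φ'.1)
      (push_ext (f.hom.app ξ.base) (g.hom.app ξ.base) (fun b => ?_) fun c => ?_) t
    · exact (RingHom.congr_fun (congrArg Subtype.val h₁) b).trans
        (pushLift_inl (f.hom.app ξ.base) (g.hom.app ξ.base) β.1 γ.1 hβγ b).symm
    · exact (RingHom.congr_fun (congrArg Subtype.val h₂) c).trans
        (pushLift_inr (f.hom.app ξ.base) (g.hom.app ξ.base) β.1 γ.1 hβγ c).symm
  have hfib : ∀ (b : ξ.Fib B.obj) (c : ξ.Fib C.obj), ξ.fibMap f.hom b = ξ.fibMap g.hom c →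
      ∃! z : ξ.Fib (pushFEt hX f g).obj, ξ.fibMap (pushInl hX f g).hom z = b ∧
        ξ.fibMap (pushInr hX f g).hom z = c := fun b c h => by
    obtain ⟨φ, ⟨h₁, h₂⟩, huniq⟩ := hbij ((ptsEquiv ξ B).symm b) ((ptsEquiv ξ C).symm c) (by
      rw [← ptsEquiv_symm_fibMap, ← ptsEquiv_symm_fibMap, h])
    refine ⟨ptsEquiv ξ _ φ, ⟨?_, ?_⟩, fun z hz => ?_⟩
    · apply (ptsEquiv ξ B).symm.injective
      rw [ptsEquiv_symm_fibMap, Equiv.symm_apply_apply, h₁]
    · apply (ptsEquiv ξ C).symm.injective
      rw [ptsEquiv_symm_fibMap, Equiv.symm_apply_apply, h₂]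
    · rw [← Equiv.symm_apply_eq]
      exact huniq _ ⟨by rw [← ptsEquiv_symm_fibMap, hz.1], by rw [← ptsEquiv_symm_fibMap, hz.2]⟩
  choose lift hlift huniq using hfib
  refine PullbackCone.IsLimit.mk _
    (fun s => FintypeCat.homMk fun x => lift (s.fst x) (s.snd x) (ConcreteCategory.congr_hom s.condition x))
    (fun s => FintypeCat.hom_ext _ _ fun x => (hlift _ _ _).1)
    (fun s => FintypeCat.hom_ext _ _ fun x => (hlift _ _ _).2)
    fun s m h₁ h₂ => FintypeCat.hom_ext _ _ fun x =>
      huniq _ _ _ _ ⟨ConcreteCategory.congr_hom h₁ x, ConcreteCategory.congr_hom h₂ x⟩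

theorem preservesEpi (hX : X.IsSchematic) : ξ.fibFunctor.PreservesEpimorphisms where
  preserves {Y Z} f hf := by
    have : Mono f.unop := unop_mono_of_epi f
    have hinj := injective_of_mono hX f.unop ξ.base
    have hsurj : Function.Surjective (ξ.fibFunctor.map f) := by
      intro z
      obtain ⟨φ, rfl⟩ := (ptsEquiv ξ Z.unop).surjective z
      have := (Y.unop.property.2 ξ.base).1
      letI : Algebra (Z.unop.obj.carrier ξ.base) (Y.unop.obj.carrier ξ.base) :=
        (f.unop.hom.app ξ.base).toRingHom.toAlgebra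
      have : IsScalarTower (X.ring ξ.base) (Z.unop.obj.carrier ξ.base) (Y.unop.obj.carrier ξ.base) :=
        IsScalarTower.of_algebraMap_eq fun a => ((f.unop.hom.app ξ.base).commutes a).symm
      have := Module.Finite.of_restrictScalars_finite (X.ring ξ.base) (Z.unop.obj.carrier ξ.base)
        (Y.unop.obj.carrier ξ.base)
      obtain ⟨ψ, hψ⟩ := exists_extend hinj φ.1
      refine ⟨ptsEquiv ξ Y.unop ⟨ψ, fun r => ?_⟩, ?_⟩
      · rw [IsScalarTower.algebraMap_apply (X.ring ξ.base) (Z.unop.obj.carrier ξ.base), hψ]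
        exact φ.2 r
      · exact (fib_map_apply ξ f.unop _).trans (congrArg _ (Pts.ext ξ hψ))
    refine ⟨fun g h e => FintypeCat.hom_ext _ _ fun x => ?_⟩
    obtain ⟨y, rfl⟩ := hsurj x
    exact ConcreteCategory.congr_hom e y

end Groth.SchFinAux
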