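import Groth.Agent.SchemeMorphisms.BlowUpBirationalAffine
import Groth.Agent.FlatMorOne.FTIdeal
import Groth.Agent.PnCoh.OverAffine
import Groth.Agent.Chow.ProjEmb.Data
import Mathlib.AlgebraicGeometry.FunctionField
import Mathlib.AlgebraicGeometry.ResidueField
import Mathlib.RingTheory.Localization.Integer

/-!
# Birational projective morphisms to a projective variety are blow-ups

Hartshorne II 7.17.
-/

set_option autoImplicit false
universe u

open CategoryTheory CategoryTheory.Limits AlgebraicGeometry TopologicalSpace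

namespace Groth.BlowUpBirational

open Groth.BlowUpBasics Groth.Chow

/-- Sections `b` on the members of a cover `V` whose ratios do not depend on the member. -/
structure CoverFamily (Y : Scheme.{u}) (ι κ : Type*) where
  V : ι → Y.Opens
  affine : ∀ j, IsAffineOpen (V j)
  cover : ∀ y, ∃ j, y ∈ V j
  b : ∀ j, κ → Γ(Y, V j)
  agree : ∀ j j', ∃ w : Γ(Y, V j ⊓ V j'), ∀ i,
    Y.presheaf.map (homOfLE (inf_le_left : V j ⊓ V j' ≤ V j)).op (b j i) =
      w * Y.presheaf.map (homOfLE (inf_le_right : V j ⊓ V j' ≤ V j')).op (b j' i)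

/-- Gluing the ideals generated on the members of the cover. -/
theorem CoverFamily.exists_ideal {Y : Scheme.{u}} [CompactSpace Y] [QuasiSeparatedSpace Y]
    {ι κ : Type*} [Finite ι] (C : CoverFamily Y ι κ) :
    ∃ I : Y.IdealSheafData, ∀ j, I.ideal ⟨C.V j, C.affine j⟩ = Ideal.span (Set.range (C.b j)) := by
  choose L hL hext using fun j => Groth.FlatMorOne.exists_idealSheaf_of_ideal
    ⟨C.V j, C.affine j⟩ (Ideal.span (Set.range (C.b j)))
  refine ⟨⨅ j, L j, fun j => le_antisymm ?_ ?_⟩
  · rw [← hL j]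
    exact Scheme.IdealSheafData.ideal_mono (iInf_le L j) _
  · rw [Scheme.IdealSheafData.ideal_iInf, iInf_apply]
    refine le_iInf fun k => ?_
    rw [Ideal.span_le]
    rintro _ ⟨i, rfl⟩
    have := Groth.FlatMorOne.quasiCompact_ι (C.affine k).isCompact
    rw [SetLike.mem_coe, ← hext k, Groth.FlatMorOne.mem_extendFrom_iff]
    intro W hWj hWk
    obtain ⟨w, hw⟩ := C.agree j k
    have hWjk : W.1 ≤ C.V j ⊓ C.V k := le_inf hWj hWk
    have e : (Y.presheaf.map (homOfLE hWj).op).hom (C.b j i) =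
        Y.presheaf.map (homOfLE hWjk).op w * Y.presheaf.map (homOfLE hWk).op (C.b k i) := by
      have := congrArg (Y.presheaf.map (homOfLE hWjk).op) (hw i)
      rw [map_mul, ← CommRingCat.comp_apply, ← CommRingCat.comp_apply, ← Functor.map_comp,
        ← Functor.map_comp] at this
      exact this
    rw [e]
    refine Ideal.mul_mem_left _ _ ?_
    exact (L k).ideal_le_comap_ideal (U := W) (V := ⟨C.V k, C.affine k⟩) hWk
      (by rw [hL k]; exact Ideal.subset_span ⟨i, rfl⟩)

/-- Affine charts of `Y` with one invertible family of denominators. -/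
theorem exists_coverFamily {Y S : Scheme.{u}} [IsIntegral Y] [IsAffine S] {n : ℕ}
    (iY : Y ⟶ CohB1.ProjSpaceOver n S) [IsClosedImmersion iY] {κ : Type} [Finite κ]
    (g : κ → Y.functionField) :
    ∃ (C : CoverFamily Y {j : Fin (n + 1) // ((PEmb.W iY j ⊤ : Y.Opens) : Set Y).Nonempty} κ)
      (c : _ → Y.functionField),
      (∀ j, c j ≠ 0) ∧ ∀ j, ∃ _ : Nonempty (C.V j), ∀ i,
        Y.germToFunctionField (C.V j) (C.b j i) = g i * c j := by
  classical
  set J := {j : Fin (n + 1) // ((PEmb.W iY j ⊤ : Y.Opens) : Set Y).Nonempty}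
  let V : J → Y.Opens := fun j => PEmb.W iY j.1 ⊤
  have hV : ∀ j, IsAffineOpen (V j) := fun j => PEmb.isAffineOpen_W iY j.1 (isAffineOpen_top S)
  have hne : ∀ j, Nonempty (V j) := fun j => j.2.to_subtype
  have hcov : ∀ y, ∃ j, y ∈ V j := fun y => by
    obtain ⟨k, hk⟩ := Opens.mem_iSup.1 ((PEmb.iSup_W iY (⊤ : S.Opens)).ge (show y ∈ _ from trivial))
    exact ⟨⟨k, ⟨y, hk⟩⟩, hk⟩
  obtain ⟨j0, -⟩ := hcov (genericPoint Y)
  have := functionField_isFractionRing_of_isAffineOpen Y (V j0) (hV j0)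
  obtain ⟨⟨u, hu⟩, hug⟩ :=
    IsLocalization.exist_integer_multiples_of_finite (nonZeroDivisors Γ(Y, V j0)) g
  choose h hh using hug
  let T : ∀ j : J, Γ(Y, V j) := fun j => PEmb.coordOn iY j.1 j0.1 _ (PEmb.W_le_Xo iY j.1 ⊤)
  have hT : ∀ j : J, V j ⊓ V j0 = Y.basicOpen (T j) := fun j => PEmb.W_inf iY j0.1 j.1 ⊤
  have hD : ∀ j, Y.basicOpen (T j) ≤ V j0 := fun j => (hT j).ge.trans inf_le_right
  have hDne : ∀ j, Nonempty (Y.basicOpen (T j)) := fun j => by
    rw [← hT]
    exact ⟨⟨genericPoint Y, (genericPoint_specializes j.2.some).mem_open (V j).2 j.2.some_mem,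
      (genericPoint_specializes j0.2.some).mem_open (V j0).2 j0.2.some_mem⟩⟩
  let gm := fun (U : Y.Opens) [Nonempty U] => Y.germToFunctionField U
  have hres : ∀ (U U' : Y.Opens) [Nonempty U] [Nonempty U'] (hU : U' ≤ U) (x : Γ(Y, U)),
      Y.germToFunctionField U' (Y.presheaf.map (homOfLE hU).op x) = Y.germToFunctionField U x :=
    fun U U' _ _ hU x => Y.presheaf.germ_res_apply (homOfLE hU) _ _ x
  have hTne : ∀ j, Y.germToFunctionField (V j) (T j) ≠ 0 := fun j hz => by
    have := (map_eq_zero_iff _ (Y.germToFunctionField_injective (V j))).1 hz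
    have hemp : Y.basicOpen (T j) = ⊥ := by rw [this, Scheme.basicOpen_zero]
    obtain ⟨⟨y, hy⟩⟩ := hDne j
    rw [hemp] at hy
    exact hy
  have hext : ∀ (j : J) (x : Γ(Y, V j0)), ∃ M : ℕ, ∀ m ≥ M, ∃ z : Γ(Y, V j),
      Y.germToFunctionField (V j) z =
        Y.germToFunctionField (V j0) x * Y.germToFunctionField (V j) (T j) ^ m := by
    intro j x
    have := (hV j).isLocalization_basicOpen (T j)
    obtain ⟨⟨z, ⟨_, M, rfl⟩⟩, hz⟩ :=
      IsLocalization.surj (Submonoid.powers (T j)) (Y.presheaf.map (homOfLE (hD j)).op x)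
    refine ⟨M, fun m hm => ⟨z * T j ^ (m - M), ?_⟩⟩
    have := congrArg (Y.germToFunctionField (Y.basicOpen (T j))) hz
    simp only [RingHom.algebraMap_toAlgebra, map_mul, map_pow] at this
    rw [hres _ _ (hD j), hres _ _ (Y.basicOpen_le (T j)), hres _ _ (Y.basicOpen_le (T j))] at this
    rw [map_mul, map_pow, ← this, mul_assoc, ← pow_add, Nat.add_sub_cancel' hm]
  cases nonempty_fintype κ
  choose M hM using hext
  let N := Finset.univ.sup fun p : J × κ => M p.1 (h p.2)
  choose b hb using fun j i => hM j (h i) N (Finset.le_sup (f := fun p : J × κ => M p.1 (h p.2))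
    (Finset.mem_univ (j, i)))
  let c : J → Y.functionField := fun j =>
    Y.germToFunctionField (V j0) u * Y.germToFunctionField (V j) (T j) ^ N
  have hbg : ∀ j i, Y.germToFunctionField (V j) (b j i) = g i * c j := by
    intro j i
    have e : algebraMap Γ(Y, V j0) Y.functionField (h i) = u • g i := hh i
    rw [Algebra.smul_def] at e
    rw [hb]
    show Y.germToFunctionField (V j0) (h i) * _ = _
    rw [show Y.germToFunctionField (V j0) (h i) = Y.germToFunctionField (V j0) u * g i from e]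
    ring
  refine ⟨⟨V, hV, hcov, b, fun j j' => ?_⟩, c, fun j => mul_ne_zero ?_ (pow_ne_zero _ (hTne j)),
    fun j => ⟨hne j, hbg j⟩⟩
  · let W := V j ⊓ V j'
    have hWne : Nonempty W :=
      ⟨⟨genericPoint Y, (genericPoint_specializes j.2.some).mem_open (V j).2 j.2.some_mem,
        (genericPoint_specializes j'.2.some).mem_open (V j').2 j'.2.some_mem⟩⟩
    let e := PEmb.coordOn iY j.1 j'.1 W (inf_le_left.trans (PEmb.W_le_Xo iY j.1 ⊤))
    refine ⟨e ^ N, fun i => Y.germToFunctionField_injective W ?_⟩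
    have htr : Y.germToFunctionField (V j) (T j) =
        Y.germToFunctionField W e * Y.germToFunctionField (V j') (T j') := by
      rw [← hres (V j) W inf_le_left, ← hres (V j') W inf_le_right, ← map_mul]
      refine congrArg _ ?_
      simp only [T, PEmb.map_coordOn]
      exact PEmb.coordOn_transition iY j.1 j'.1 j0.1 W _ _
    rw [map_mul, map_pow, hres _ _ inf_le_left, hres _ _ inf_le_right, hbg, hbg]
    simp only [c, htr]
    ring
  · exact (map_ne_zero_iff _ (Y.germToFunctionField_injective (V j0))).2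
      (mem_nonZeroDivisors_iff_ne_zero.1 hu)

theorem fromSpec_appLE_top {Y : Scheme.{u}} {V : Y.Opens} (hV : IsAffineOpen V) :
    hV.fromSpec.appLE V ⊤ hV.fromSpec_preimage_self.ge = (Scheme.ΓSpecIso Γ(Y, V)).inv := by
  rw [Scheme.Hom.appLE, IsAffineOpen.fromSpec_app_self, Category.assoc, ← Functor.map_comp]
  exact (congrArg (_ ≫ ·) ((congrArg _ (Subsingleton.elim _ (𝟙 _))).trans
    (CategoryTheory.Functor.map_id _ _))).trans (Category.comp_id _)

/-- Transport of a blow-up of the spectrum of `Γ(Y, V)` to the affine open `V`. -/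
theorem isBlowUp_of_spec {Y X' : Scheme.{u}} (I : Y.IdealSheafData) {V : Y.Opens} (hV : IsAffineOpen V)
    (q : X' ⟶ V.toScheme) (h : BlowUp.IsBlowUp (q ≫ hV.isoSpec.hom) (sheafOf (I.ideal ⟨V, hV⟩))) :
    BlowUp.IsBlowUp q (I.comap V.ι) := by
  have e1 : I.comap hV.fromSpec = sheafOf (I.ideal ⟨V, hV⟩) := by
    refine Scheme.IdealSheafData.ext_of_isAffine ?_
    rw [sheafOf_ideal_top, ideal_comap hV.fromSpec I ⟨V, hV⟩ ⟨⊤, isAffineOpen_top _⟩
      hV.fromSpec_preimage_self.ge]
    rw [fromSpec_appLE_top hV]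
    rfl
  have e2 : hV.isoSpec.hom ≫ hV.fromSpec = V.ι := hV.isoSpec_hom_fromSpec
  have H : IsPullback q (𝟙 X') hV.isoSpec.hom (q ≫ hV.isoSpec.hom) :=
    IsPullback.of_vert_isIso ⟨(Category.id_comp _).symm⟩
  have := isBlowUp_of_isPullback h H
  rwa [← e1, ← Scheme.IdealSheafData.comap_comp, e2] at this

set_option maxHeartbeats 1000000 in
/-- **Hartshorne II 7.17.** A birational morphism from an integral scheme with a closed immersion
into `P^m_Y` to an integral closed subscheme `Y` of `P^n_S`, `S` affine, is a blow-up. -/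
theorem exists_isBlowUp_of_birational {X Y S : Scheme.{u}} [IsIntegral X] [IsIntegral Y] [IsAffine S]
    [CompactSpace Y] [QuasiSeparatedSpace Y]
    {m n : ℕ} (iY : Y ⟶ CohB1.ProjSpaceOver n S) [IsClosedImmersion iY] (f : X ⟶ Y)
    (iX : X ⟶ CohB1.ProjSpaceOver m Y) [IsClosedImmersion iX] (hiX : PEmb.strMap iX = f)
    (hgen : f (genericPoint X) = genericPoint Y)
    (hbir : Function.Bijective (f.residueFieldMap (genericPoint X)).hom) :
    ∃ I : Y.IdealSheafData, BlowUp.IsBlowUp f I := by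
  subst hiX
  set f := PEmb.strMap iX
  -- the map of function fields
  let sp : Y.functionField ⟶ Y.presheaf.stalk (f (genericPoint X)) :=
    Y.presheaf.stalkSpecializes (specializes_of_eq hgen)
  let F : Y.functionField ⟶ X.functionField := sp ≫ f.stalkMap (genericPoint X)
  have hF : ∀ (V : Y.Opens) [Nonempty V] (W : X.Opens) [Nonempty W] (hle : W ≤ f ⁻¹ᵁ V) (x : Γ(Y, V)),
      F (Y.germToFunctionField V x) = X.germToFunctionField W (f.appLE V W hle x) := by
    intro V _ W _ hle x
    have hgW : genericPoint X ∈ W := by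
      obtain ⟨⟨w, hw⟩⟩ := (inferInstance : Nonempty W)
      exact (genericPoint_specializes w).mem_open W.2 hw
    show f.stalkMap _ (Y.presheaf.stalkSpecializes _ (Y.presheaf.germ V (genericPoint Y) _ x)) = _
    rw [← CommRingCat.comp_apply (Y.presheaf.germ V _ _), TopCat.Presheaf.germ_stalkSpecializes,
      Scheme.Hom.germ_stalkMap_apply f V _ (hle hgW), Scheme.Hom.appLE, CommRingCat.comp_apply]
    exact (X.presheaf.germ_res_apply (homOfLE hle) _ hgW _).symm
  have hFsurj : Function.Surjective F := by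
    intro s
    have hres : Function.Injective (X.residue (genericPoint X)) :=
      RingHom.injective (R := X.functionField) (X.residue (genericPoint X)).hom
    obtain ⟨t, ht⟩ := hbir.2 (X.residue _ s)
    obtain ⟨t', rfl⟩ := Y.residue_surjective (f (genericPoint X)) t
    refine ⟨Y.presheaf.stalkSpecializes (specializes_of_eq hgen.symm) t', hres ?_⟩
    rw [← ht]
    refine Eq.trans ?_ (congr($(Scheme.residue_residueFieldMap f (genericPoint X)) t')).symm
    show X.residue _ (f.stalkMap _ (sp _)) = X.residue _ (f.stalkMap _ t')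
    refine congrArg _ (congrArg _ ?_)
    show Y.presheaf.stalkSpecializes _ _ = _
    rw [← CommRingCat.comp_apply, TopCat.Presheaf.stalkSpecializes_comp,
      TopCat.Presheaf.stalkSpecializes_refl]
    rfl
  -- coordinates on `X`
  obtain ⟨l0, hl0⟩ := Opens.mem_iSup.1 ((PEmb.iSup_Xo iX).ge (Opens.mem_top (genericPoint X)))
  have : Nonempty (PEmb.Xo iX l0) := ⟨⟨_, hl0⟩⟩
  choose g hg using fun i : Fin (m + 1) =>
    hFsurj (X.germToFunctionField (PEmb.Xo iX l0) (PEmb.coord iX l0 i))
  -- coordinates on `Y`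
  obtain ⟨C, c, hc, hC⟩ := exists_coverFamily iY g
  obtain ⟨I, hI⟩ := C.exists_ideal
  refine ⟨I, isBlowUp_of_cover C.V
    (top_le_iff.1 fun y _ => Opens.mem_iSup.2 (C.cover y)) fun j => ?_⟩
  refine isBlowUp_of_spec I (C.affine j) (f ∣_ C.V j) ?_
  obtain ⟨hVne, hb⟩ := hC j
  set V := C.V j
  have hV : IsAffineOpen V := C.affine j
  let Xj : Scheme.{u} := (f ⁻¹ᵁ V).toScheme
  have hgV : genericPoint X ∈ f ⁻¹ᵁ V := by
    obtain ⟨⟨v, hv⟩⟩ := hVne
    show f (genericPoint X) ∈ V
    rw [hgen]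
    exact (genericPoint_specializes v).mem_open V.2 hv
  have : Nonempty Xj := ⟨(⟨_, hgV⟩ : ↥(f ⁻¹ᵁ V))⟩
  let ι := (f ⁻¹ᵁ V).ι
  have : IsIntegral Xj := isIntegral_of_isOpenImmersion ι
  let p : Xj ⟶ Spec (CommRingCat.of Γ(Y, V)) := (f ∣_ V) ≫ hV.isoSpec.hom
  have hpf : p ≫ hV.fromSpec = ι ≫ f := by
    simp only [p, Category.assoc, IsAffineOpen.isoSpec_hom_fromSpec, morphismRestrict_ι]
    rfl
  have hphi : ∀ (U : Xj.Opens) (h : U ≤ (ι ≫ f) ⁻¹ᵁ V) (x : Γ(Y, V)),
      (ι ≫ f).appLE V U h x = phi p U x := by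
    intro U h x
    rw [phi]
    have e := fromSpec_appLE_top hV
    simp only [← hpf]
    rw [← Scheme.Hom.appLE_comp_appLE p hV.fromSpec V ⊤ U hV.fromSpec_preimage_self.ge
      (le_preimage_top p U), e]
    rfl
  let U : Fin (m + 1) → Xj.Opens := fun l => ι ⁻¹ᵁ PEmb.W iX l V
  have hWle : ∀ l, PEmb.W iX l V ≤ f ⁻¹ᵁ V := fun l => PEmb.W_le_pre iX l V
  have hphi' : ∀ l x, phi p (U l) x =
      ι.app (PEmb.W iX l V) (f.appLE V (PEmb.W iX l V) (hWle l) x) := fun l x => by
    rw [← hphi (U l) (fun z hz => hWle l hz) x, ← CommRingCat.comp_apply, ← ι.appLE_comp_appLE f V _ _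
      (hWle l) le_rfl, Scheme.Hom.app_eq_appLE]
  let r : ∀ l, Fin (m + 1) → Γ(Xj, U l) := fun l i =>
    ι.app (PEmb.W iX l V) (PEmb.coordOn iX l i _ (PEmb.W_le_Xo iX l V))
  have hiso : ∀ l, Function.Bijective (ι.app (PEmb.W iX l V)) := fun l => by
    have : IsIso (ι.app (PEmb.W iX l V)) :=
      Scheme.Hom.isIso_app ι _ (by rw [Scheme.Opens.opensRange_ι]; exact hWle l)
    exact ConcreteCategory.bijective_of_isIso _
  have hne_iff : ∀ l, C.b j l ≠ 0 ↔ (U l : Set Xj).Nonempty := by
    intro l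
    have h1 : C.b j l ≠ 0 ↔ g l ≠ 0 := by
      rw [← map_ne_zero_iff _ (Y.germToFunctionField_injective V), hb l]
      exact ⟨fun h h' => h (by rw [h', zero_mul]), fun h => mul_ne_zero h (hc j)⟩
    have h2 : g l ≠ 0 ↔ genericPoint X ∈ PEmb.Xo iX l := by
      rw [← map_ne_zero_iff F.hom (RingHom.injective (R := Y.functionField) F.hom), hg,
        map_ne_zero_iff _ (X.germToFunctionField_injective _)]
      constructor
      · intro h
        have hne : X.basicOpen (PEmb.coord iX l0 l) ≠ ⊥ := mt (basicOpen_eq_bot_iff _).1 h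
        obtain ⟨z, hz⟩ := Set.nonempty_iff_ne_empty.2 (fun h' => hne (Opens.ext h'))
        rw [SetLike.mem_coe, ← PEmb.Xo_inf] at hz
        exact (genericPoint_specializes z).mem_open (PEmb.Xo iX l).2 hz.2
      · intro h h0
        have h' : genericPoint X ∈ X.basicOpen (PEmb.coord iX l0 l) := (PEmb.Xo_inf iX l l0).le ⟨hl0, h⟩
        rw [h0, Scheme.basicOpen_zero] at h'
        exact h'
    rw [h1, h2]
    constructor
    · intro h
      exact ⟨(⟨_, hgV⟩ : ↥(f ⁻¹ᵁ V)), ⟨h, hgV⟩⟩
    · rintro ⟨z, hz⟩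
      exact (genericPoint_specializes _).mem_open (PEmb.Xo iX l).2 hz.1
  have hWne : ∀ l, C.b j l ≠ 0 → Nonempty (PEmb.W iX l V) := fun l hl => by
    obtain ⟨z, hz⟩ := (hne_iff l).1 hl
    exact ⟨⟨_, hz⟩⟩
  let D : RatioData p (C.b j) :=
    { U := U
      affine := fun l => (PEmb.isAffineOpen_W iX l hV).preimage_of_isOpenImmersion ι
        (by rw [Scheme.Opens.opensRange_ι]; exact hWle l)
      cover := fun x => by
        obtain ⟨l, hl⟩ := Opens.mem_iSup.1 ((PEmb.iSup_W iX V).ge (show ι x ∈ f ⁻¹ᵁ V from x.2))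
        exact ⟨l, hl⟩
      r := r
      inf_eq := fun l l' => by
        show ι ⁻¹ᵁ _ ⊓ ι ⁻¹ᵁ _ = _
        rw [← Scheme.preimage_basicOpen, ← PEmb.W_inf]
        rfl
      gen := fun l => by
        have h := congrArg (Subring.map (ι.app (PEmb.W iX l V)).hom) (PEmb.W_generated iX l hV)
        rw [RingHom.map_closure, Set.image_union, ← Set.range_comp, ← Set.range_comp] at h
        have : Subring.map (ι.app (PEmb.W iX l V)).hom ⊤ = ⊤ :=
          top_le_iff.1 fun z _ => by
            obtain ⟨w, hw⟩ := (hiso l).2 z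
            exact ⟨w, trivial, hw⟩
        rw [this] at h
        rw [show (phi p (U l) : Γ(Y, V) → Γ(Xj, U l)) =
          (ι.app (PEmb.W iX l V)).hom ∘ (f.appLE V (PEmb.W iX l V) (hWle l)) from funext (hphi' l)]
        exact h
      rel := fun l hl i => by
        have := hWne l hl
        rw [hphi', hphi', ← map_mul]
        refine congrArg _ (X.germToFunctionField_injective (PEmb.W iX l V) ?_)
        rw [map_mul, ← hF V _ (hWle l), ← hF V _ (hWle l), hb, hb, map_mul, map_mul, hg, hg]
        let O := PEmb.W iX l V ⊓ PEmb.Xo iX l0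
        have : Nonempty O := by
          obtain ⟨⟨z, hz⟩⟩ := hWne l hl
          exact ⟨⟨genericPoint X, (genericPoint_specializes z).mem_open (PEmb.W iX l V).2 hz, hl0⟩⟩
        have hgO : genericPoint X ∈ O := by
          obtain ⟨⟨z, hz⟩⟩ := (inferInstance : Nonempty O)
          exact (genericPoint_specializes z).mem_open O.2 hz
        have key := congrArg (X.germToFunctionField O)
          (PEmb.coordOn_transition iX l0 l i O inf_le_right (inf_le_left.trans (PEmb.W_le_Xo iX l V)))
        rw [map_mul] at key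
        have e0 : ∀ k, X.germToFunctionField O (PEmb.coordOn iX l0 k O inf_le_right) =
            X.germToFunctionField (PEmb.Xo iX l0) (PEmb.coord iX l0 k) :=
          fun k => X.presheaf.germ_res_apply (homOfLE _) _ hgO _
        have e1 : X.germToFunctionField O (PEmb.coordOn iX l i O (inf_le_left.trans (PEmb.W_le_Xo iX l V))) =
            X.germToFunctionField (PEmb.W iX l V) (PEmb.coordOn iX l i _ (PEmb.W_le_Xo iX l V)) := by
          rw [← PEmb.map_coordOn iX l i (PEmb.W_le_Xo iX l V) (inf_le_left : O ≤ _)]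
          exact X.presheaf.germ_res_apply (homOfLE _) _ hgO _
        rw [e0, e0, e1] at key
        rw [key]
        ring
      nonempty_iff := hne_iff
      injective := fun W hW x y hxy => by
        have : Nonempty W := hW.to_subtype
        have : Nonempty (ι ''ᵁ W) := ⟨⟨_, ⟨_, hW.some_mem, rfl⟩⟩⟩
        have hle : ι ''ᵁ W ≤ f ⁻¹ᵁ V := fun z ⟨w, _, hw⟩ => hw ▸ w.2
        have e : ∀ x, phi p W x = (ι.appIso W).hom (f.appLE V (ι ''ᵁ W) hle x) := fun x => by
          rw [← hphi W (fun z hz => z.2) x, ← ι.appLE_comp_appLE f V (ι ''ᵁ W) W hle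
            (ι.preimage_image_eq W).ge, Scheme.Hom.appIso_hom']
          rfl
        rw [e, e] at hxy
        have h1 := congrArg (X.germToFunctionField (ι ''ᵁ W))
          ((ConcreteCategory.bijective_of_isIso (ι.appIso W).hom).1 hxy)
        rw [← hF V _ hle, ← hF V _ hle] at h1
        exact Y.germToFunctionField_injective V (RingHom.injective (R := Y.functionField) F.hom h1) }
  have := D.isBlowUp
  rw [show D.ideal = I.ideal ⟨V, hV⟩ from (hI j).symm] at this
  exact this

end Groth.BlowUpBirational
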