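/-
Twisting sheaves over Noetherian graded rings are of finite type; relative version.
-/
import Groth.Agent.RelTwist.Gen
import Groth.Agent.RelTwist.Basic
import Groth.Agent.QCohMod.FTCriterion

set_option autoImplicit false

universe u

open CategoryTheory AlgebraicGeometry Opposite TopologicalSpace DirectSum

set_option backward.isDefEq.respectTransparency.types false

namespace Groth.SchemeMorphisms.RelTwistCoh

open Groth.PicAux Groth.RelTw

section Graded

variable {A σ : Type u} [CommRing A] [SetLike σ A] [AddSubgroupClass σ A] {𝒜 : ℕ → σ} [GradedRing 𝒜]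

theorem pow_mem' {d : ℕ} {g : A} (hg : g ∈ 𝒜 d) (k : ℕ) : g ^ k ∈ 𝒜 (k * d) := by
  simpa using SetLike.pow_mem_graded k hg

theorem pow_notMem {g : A} (k : ℕ) (x : ProjectiveSpectrum 𝒜) (hx : x ∈ Proj.basicOpen 𝒜 g) :
    g ^ k ∉ x.asHomogeneousIdeal := fun h => hx (x.isPrime.mem_of_pow_mem _ h)

/-- The function `a / g ^ k` on `D₊(g)`. -/
def fn {d : ℕ} {g : A} (hg : g ∈ 𝒜 d) (k : ℕ) {a : A} (ha : a ∈ 𝒜 (k * d)) :
    Γ(Proj 𝒜, Proj.basicOpen 𝒜 g) :=
  ⟨fun x => HomogeneousLocalization.mk ⟨k * d, ⟨a, ha⟩, ⟨g ^ k, pow_mem' hg k⟩, pow_notMem k x.1 x.2⟩,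
    fun x => ⟨Proj.basicOpen 𝒜 g, x.2, 𝟙 _, k * d, ⟨a, ha⟩, ⟨g ^ k, pow_mem' hg k⟩,
      fun y => pow_notMem k y.1 y.2, fun _ => rfl⟩⟩

theorem finite_twist_basicOpen [IsNoetherianRing A] (n : ℤ) {d : ℕ} (hd : 0 < d) {g : A} (hg : g ∈ 𝒜 d) :
    Module.Finite Γ(Proj 𝒜, Proj.basicOpen 𝒜 g) Γ(GrTwist.twist 𝒜 n, Proj.basicOpen 𝒜 g) := by
  classical
  let S : Set A := {c | ∃ (k i : ℕ), (i : ℤ) = k * d + n ∧ c ∈ 𝒜 i}
  obtain ⟨T, hTS, hT⟩ := (Submodule.fg_span_iff_fg_span_finset_subset S).mp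
    (IsNoetherian.noetherian (Submodule.span A S))
  choose k i hki hmem using fun c : T => hTS c.2
  let sec : T → Γ(GrTwist.twist 𝒜 n, Proj.basicOpen 𝒜 g) := fun c =>
    frac (hmem c) (pow_mem' hg (k c)) (by rw [hki c]; push_cast; rfl) _ (pow_notMem (k c))
  refine ⟨⟨Finset.univ.image sec, eq_top_iff.mpr fun s _ => ?_⟩⟩
  rw [Finset.coe_image, Finset.coe_univ, Set.image_univ]
  let N := Submodule.span Γ(Proj 𝒜, Proj.basicOpen 𝒜 g) (Set.range sec)
  obtain ⟨l, j, b, hlj, hb⟩ := Groth.RelTw.exists_frac 𝒜 n hd hg s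
  have hlj' : (j : ℤ) = ((l * d : ℕ) : ℤ) + n := by rw [hlj]; push_cast; rfl
  let mk : ∀ (a : A), a ∈ 𝒜 j → Γ(GrTwist.twist 𝒜 n, Proj.basicOpen 𝒜 g) := fun a ha =>
    frac ha (pow_mem' hg l) hlj' _ (pow_notMem l)
  have hs : s = mk b.1 b.2 := gval_ext fun y hy => hb ⟨y, hy⟩
  rw [hs]
  suffices key : ∀ c ∈ Submodule.span A (T : Set A), ∀ a : A,
      mk (decompose 𝒜 (a * c) j : A) (SetLike.coe_mem _) ∈ N by
    have h1 := key b.1 (hT.le (Submodule.subset_span ⟨l, j, hlj, b.2⟩)) 1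
    simp only [one_mul] at h1
    convert h1 using 2
    exact (decompose_of_mem_same 𝒜 b.2).symm
  have hmk0 : ∀ (a : A) (ha : a ∈ 𝒜 j), a = 0 → mk a ha ∈ N := fun a ha h0 => by
    have : mk a ha = 0 := gval_ext fun y hy => by
      simp only [mk, gval_frac]
      refine (Eq.trans ?_ (rfl : (0 : GrTwist.Loc 𝒜 y) = _))
      rw [h0, Localization.mk_zero]
    rw [this]
    exact zero_mem _
  intro c hc
  induction hc using Submodule.span_induction with
  | zero => exact fun a => hmk0 _ _ (by simp)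
  | smul r p _ hp =>
    intro a
    have := hp (a * r)
    simpa only [smul_eq_mul, mul_assoc] using this
  | add p q _ _ hp hq =>
    intro a
    have : mk (decompose 𝒜 (a * (p + q)) j : A) (SetLike.coe_mem _) =
        mk (decompose 𝒜 (a * p) j : A) (SetLike.coe_mem _) + mk (decompose 𝒜 (a * q) j : A) (SetLike.coe_mem _) :=
      gval_ext fun y hy => by
        refine Eq.trans ?_ (Localization.add_mk_self _ _ _).symm
        simp only [mk, gval_frac, mul_add, decompose_add, DirectSum.add_apply, AddMemClass.coe_add]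
    rw [this]
    exact add_mem (hp a) (hq a)
  | mem c hc =>
    intro a
    let c' : T := ⟨c, hc⟩
    have hci : c ∈ 𝒜 (i c') := hmem c'
    by_cases h : i c' ≤ j
    · have hdec : (decompose 𝒜 (a * c) j : A) = (decompose 𝒜 a (j - i c') : A) * c :=
        coe_decompose_mul_of_right_mem_of_le 𝒜 hci h
      have hz : ((j - i c' : ℕ) : ℤ) = ((l : ℤ) - k c') * d := by
        rw [Nat.cast_sub h, hlj, hki c', sub_mul]; ring
      have hk : k c' ≤ l := by
        by_contra hlt
        have hlt' : ((l : ℤ) - k c') ≤ -1 := by omega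
        nlinarith
      have hdeg : j - i c' = (l - k c') * d := by
        apply Int.natCast_inj.1
        rw [Nat.cast_mul, Nat.cast_sub hk, hz]
      have ha' : (decompose 𝒜 a (j - i c') : A) ∈ 𝒜 ((l - k c') * d) := hdeg ▸ SetLike.coe_mem _
      have : mk (decompose 𝒜 (a * c) j : A) (SetLike.coe_mem _) = fn hg (l - k c') ha' • sec c' :=
        gval_ext fun y hy => by
          rw [gval_smul]
          simp only [mk, sec, gval_frac, fn, HomogeneousLocalization.val_mk, hdec]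
          rw [Localization.mk_mul]
          refine congrArg₂ Localization.mk rfl (Subtype.ext ?_)
          change g ^ l = g ^ (l - k c') * g ^ k c'
          rw [← pow_add, Nat.sub_add_cancel hk]
      rw [this]
      exact Submodule.smul_mem _ _ (Submodule.subset_span ⟨c', rfl⟩)
    · exact hmk0 _ _ (coe_decompose_mul_of_right_mem_of_not_le 𝒜 hci h)

end Graded

theorem finite_of_semilinear {R R' M N : Type*} [Ring R] [Ring R'] [AddCommGroup M] [AddCommGroup N]
    [Module R M] [Module R' N] (φ : R →+* R') (hφ : Function.Surjective φ) (f : M →+ N)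
    (hf : Function.Bijective f) (hsmul : ∀ r m, f (r • m) = φ r • f m) (h : Module.Finite R' N) :
    Module.Finite R M := by
  classical
  obtain ⟨G, hG⟩ := h.fg_top
  refine ⟨⟨G.image (Function.surjInv hf.2), eq_top_iff.2 fun s _ => ?_⟩⟩
  rw [Finset.coe_image]
  have hw : f s ∈ Submodule.span R' (G : Set N) := hG ▸ Submodule.mem_top
  suffices ∀ w ∈ Submodule.span R' (G : Set N),
      ∃ t ∈ Submodule.span R (Function.surjInv hf.2 '' ↑G), f t = w by
    obtain ⟨t, ht, hts⟩ := this _ hw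
    exact hf.1 hts ▸ ht
  intro w hw
  induction hw using Submodule.span_induction with
  | mem x hx => exact ⟨_, Submodule.subset_span ⟨x, hx, rfl⟩, Function.surjInv_eq hf.2 x⟩
  | zero => exact ⟨0, zero_mem _, map_zero f⟩
  | add a b _ _ ha hb =>
    obtain ⟨a', ha', rfl⟩ := ha
    obtain ⟨b', hb', rfl⟩ := hb
    exact ⟨a' + b', add_mem ha' hb', map_add _ _ _⟩
  | smul r a _ ha =>
    obtain ⟨a', ha', rfl⟩ := ha
    obtain ⟨r', rfl⟩ := hφ r
    exact ⟨r' • a', Submodule.smul_mem _ _ ha', hsmul r' a'⟩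

theorem isFT_of_isRelTwist {S P : Scheme.{u}} {𝒮 : RelProj.QCGrAlg S} {p : P ⟶ S}
    {chart : ∀ (U : S.Opens) (hU : IsAffineOpen U), (((p ⁻¹ᵁ U : P.Opens) : Scheme.{u}) ≅ Proj (𝒮.deg U hU))}
    {n : ℤ} {L : P.Modules}
    (lam : ∀ (U : S.Opens) (hU : IsAffineOpen U),
      L ⟶ (Scheme.Modules.pushforward (RelProj.emb p chart U hU)).obj (GrTwist.twist (𝒮.deg U hU) n))
    (hL : RelProj.IsRelTwist 𝒮 p chart n L lam)
    (hN : ∀ (U : S.Opens) (_ : IsAffineOpen U), IsNoetherianRing (𝒮.presheaf.obj (op U))) :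
    CohB1.IsFT L := by
  have : L.IsQuasicoherent := Groth.RelTw.isQCoh lam hL
  refine Groth.QCohMod.isFT_of_affine_cover L fun z => ?_
  obtain ⟨U, hU, hzU, -⟩ := exists_isAffineOpen_mem_and_subset (x := p z) (U := (⊤ : S.Opens)) trivial
  obtain ⟨y, rfl⟩ := exists_emb_eq (chart := chart) U hU hzU
  obtain ⟨d, g, hd, hg, hgy⟩ := Groth.RelTw.exists_pos_notMem (𝒮.deg U hU) y
  have := hN U hU
  let j := RelProj.emb p chart U hU
  let V : P.Opens := j ''ᵁ Proj.basicOpen (𝒮.deg U hU) g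
  refine ⟨V, (Proj.isAffineOpen_basicOpen _ g hg hd).image_of_isOpenImmersion j, ⟨y, hgy, rfl⟩, ?_⟩
  have key : ∀ D : (Proj (𝒮.deg U hU)).Opens, D = Proj.basicOpen (𝒮.deg U hU) g →
      Module.Finite Γ(Proj (𝒮.deg U hU), D) Γ(GrTwist.twist (𝒮.deg U hU) n, D) := by
    rintro D rfl
    exact finite_twist_basicOpen n hd hg
  have hbij : Function.Bijective ((lam U hU).app V) :=
    hL.bijective U hU V (image_le U hU _)
  have happ : Function.Surjective (j.app V) :=
    (ConcreteCategory.bijective_of_isIso (j.app V)).2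
  let f : Γ(L, V) →+ Γ(GrTwist.twist (𝒮.deg U hU) n, j ⁻¹ᵁ V) := ((lam U hU).app V).hom
  exact finite_of_semilinear (j.app V).hom happ f hbij (fun r m => (lam U hU).app_smul r m)
    (key (j ⁻¹ᵁ V) (j.preimage_image_eq _))

end Groth.SchemeMorphisms.RelTwistCoh
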