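/-
The closed subscheme cut out by the forms vanishing on it (EGA II 5.9 style): recognising `Proj B`.
-/
import Groth.Agent.ProjClosed.Main
import Groth.Agent.Ega2Proj.TwistPow
import Groth.Agent.PicAux.Pullback
import Groth.Prelude.Def_ProjUP

set_option autoImplicit false
set_option backward.isDefEq.respectTransparency false

universe u

open CategoryTheory AlgebraicGeometry HomogeneousLocalization Opposite TopologicalSpace

namespace Groth.SchemeMorphisms.VanishingForms

open Groth.ProjClosed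

variable {R A : Type u} [CommRing R] [CommRing A] [Algebra R A] (𝒜 : ℕ → Submodule R A)
  [GradedAlgebra 𝒜]

theorem exists_iso_of_ker (s : Finset A) (hs1 : ∀ f ∈ s, f ∈ 𝒜 1)
    (hs : (HomogeneousIdeal.irrelevant 𝒜).toIdeal = Ideal.span (s : Set A))
    {Z : Scheme.{u}} (i : Z ⟶ Proj 𝒜) [IsClosedImmersion i]
    {B : Type u} [CommRing B] [Algebra R B] (ℬ : ℕ → Submodule R B) [GradedAlgebra ℬ]
    (φ : 𝒜 →+*ᵍ ℬ) (hsurj : Function.Surjective φ)
    (hφ : HomogeneousIdeal.irrelevant ℬ ≤ (HomogeneousIdeal.irrelevant 𝒜).map φ)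
    (hker' : ∀ a, φ a = 0 ↔ a ∈ idealOf i (s : Set A)) :
    ∃ e : Z ≅ Proj ℬ, e.hom ≫ Proj.map φ hφ = i := by
  classical
  let I := idealOf i (s : Set A)
  let p := Proj.map φ hφ
  have : IsClosedImmersion p := Ega2Proj.proj_map_isClosedImmersion_of_surjective φ hφ hsurj
  let U : s → (Proj 𝒜).affineOpens := fun f ↦
    ⟨Proj.basicOpen 𝒜 (f : A), Proj.isAffineOpen_basicOpen 𝒜 _ (hs1 f f.2) Nat.one_pos⟩
  have hU : ⨆ f, (U f).1 = ⊤ := Proj.iSup_basicOpen_eq_top 𝒜 (fun f : s ↦ (f : A))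
    (hs.le.trans (Ideal.span_mono fun x hx ↦ ⟨⟨x, hx⟩, rfl⟩))
  have hker : i.ker = p.ker := by
    refine Scheme.IdealSheafData.ext_of_iSup_eq_top U hU fun f ↦ ?_
    rw [Scheme.Hom.ker_apply, Scheme.Hom.ker_apply]
    have hf1 := hs1 f f.2
    have hiso : IsIso (Proj.awayToSection 𝒜 (f : A)) := by
      rw [← Proj.basicOpenIsoAway_hom 𝒜 (f : A) hf1 Nat.one_pos]
      infer_instance
    have hiso' : IsIso (Proj.awayToSection (ℬ) (φ (f : A))) := by
      rw [← Proj.basicOpenIsoAway_hom (ℬ) (φ (f : A)) (φ.2 hf1) Nat.one_pos]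
      infer_instance
    have hp : ∀ z, p.app (Proj.basicOpen 𝒜 (f : A)) (Proj.awayToSection 𝒜 (f : A) z) =
        Proj.awayToSection (ℬ) (φ (f : A)) (Away.map φ (f : A) z) := by
      intro z
      have h := ConcreteCategory.congr_hom
        (Proj.awayToSection_comp_appLE φ hφ (s := (f : A)) hf1) z
      rw [Scheme.Hom.appLE] at h
      refine Eq.trans ?_ h
      change _ = ((Proj (ℬ)).presheaf.map _)
        (p.app (Proj.basicOpen 𝒜 (f : A)) (Proj.awayToSection 𝒜 (f : A) z))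
      exact (ConcreteCategory.congr_hom ((Proj (ℬ)).presheaf.map_id
        (Opposite.op (Proj.basicOpen (ℬ) (φ (f : A))))) _).symm
    have key : ∀ z, chartHom i (f : A) z = 0 ↔ Away.map φ (f : A) z = 0 := by
      intro z
      obtain ⟨n, a, ha, rfl⟩ := fr_surjective hf1 z
      constructor
      · intro h0
        obtain ⟨k, hk⟩ := exists_pow_mul_mem_idealOf i s hs1 f.2 ha h0
        apply HomogeneousLocalization.val_injective
        rw [fr, Away.map_mk, Away.val_mk, HomogeneousLocalization.val_zero, Localization.mk_eq_mk',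
          IsLocalization.mk'_eq_zero_iff]
        refine ⟨⟨φ (f : A) ^ k, (Submonoid.mem_powers_iff _ _).2 ⟨k, rfl⟩⟩, ?_⟩
        change φ (f : A) ^ k * φ a = 0
        rw [← map_pow, ← map_mul]
        exact (hker' _).2 hk
      · intro h0
        have h0' := congrArg HomogeneousLocalization.val h0
        rw [fr, Away.map_mk, Away.val_mk, HomogeneousLocalization.val_zero, Localization.mk_eq_mk',
          IsLocalization.mk'_eq_zero_iff] at h0'
        obtain ⟨⟨_, k, rfl⟩, hk⟩ := h0'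
        change φ (f : A) ^ k * φ a = 0 at hk
        rw [← map_pow, ← map_mul] at hk
        have hk' : (f : A) ^ k * a ∈ I := (hker' _).1 hk
        have hfk : (f : A) ^ k ∈ 𝒜 k := by simpa using SetLike.pow_mem_graded k hf1
        have hmem : (f : A) ^ k * a ∈ 𝒜 (k + n) := SetLike.mul_mem_graded hfk ha
        have h1 := vanishes_of_mem i (s : Set A) hk' hmem (f : A) f.2 hf1 hmem
        have h2 : fr hf1 n a ha = fr hf1 (k + n) _ hmem := by
          apply HomogeneousLocalization.val_injective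
          simp only [val_fr, Localization.mk_eq_mk_iff, Localization.r_iff_exists]
          exact ⟨1, by simp only [OneMemClass.coe_one, one_mul, pow_add]; ring⟩
        rw [h2]
        exact h1
    ext w
    obtain ⟨z, rfl⟩ := (ConcreteCategory.bijective_of_isIso (Proj.awayToSection 𝒜 (f : A))).2 w
    simp only [RingHom.mem_ker]
    refine (key z).trans ?_
    rw [← map_eq_zero_iff (Proj.awayToSection (ℬ) (φ (f : A))).hom
      (ConcreteCategory.bijective_of_isIso _).1]
    exact Iff.of_eq (congrArg (· = 0) (hp z).symm)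
  let e := IsClosedImmersion.lift p i hker.ge
  have he : e ≫ p = i := IsClosedImmersion.lift_fac p i hker.ge
  have : IsIso e := IsClosedImmersion.isIso_of_ker_eq i p e he hker
  exact ⟨asIso e, he⟩


open Groth.PicAux Groth.Ega2Proj in
theorem vanishes_iff (s : Finset A) (hs1 : ∀ f ∈ s, f ∈ 𝒜 1)
    (hs : (HomogeneousIdeal.irrelevant 𝒜).toIdeal = Ideal.span (s : Set A))
    {Z : Scheme.{u}} (i : Z ⟶ Proj 𝒜) (d : ℕ) {a : A} (ha : a ∈ 𝒜 d) :
    Vanishes i (s : Set A) d a ↔
      ProjUP.pullSec i (Twist.twist 𝒜 (d : ℤ)) (Twist.globalOf 𝒜 ⟨a, ha⟩) = 0 := by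
  let L := Twist.twist 𝒜 (d : ℤ)
  let m : Γ(L, ⊤) := Twist.globalOf 𝒜 ⟨a, ha⟩
  change _ ↔ Groth.PicAux.pullSec i L m = 0
  have key : ∀ (f : A) (hf : f ∈ 𝒜 1), chartHom i f (fr hf d a ha) = 0 ↔
      Groth.PicAux.res _ (i.preimage_mono (le_top : Proj.basicOpen 𝒜 f ≤ ⊤)) (Groth.PicAux.pullSec i L m) = 0 := by
    intro f hf
    have hg := (gen_pwSec (N := (d : ℤ)) hf (d : ℤ) (by simp) (U := Proj.basicOpen 𝒜 f) fun _ hx => hx)
    let e := pwSec (N := (d : ℤ)) hf (d : ℤ) (by simp) (U := Proj.basicOpen 𝒜 f) fun _ hx => hx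
    have h1 : Groth.PicAux.res L (le_top : Proj.basicOpen 𝒜 f ≤ ⊤) m =
        (Proj.awayToSection 𝒜 f).hom (fr hf d a ha) • e := by
      refine wval_ext fun x hx => ?_
      refine Eq.trans ?_ (wval_smul _ e x hx).symm
      rw [wval_pwSec, zpow_natCast, Units.val_pow_eq_pow_val, coe_funit, ← map_pow,
        ← Localization.mk_one_eq_algebraMap]
      refine Eq.trans ?_ (Localization.mk_mul _ _ _ _).symm
      refine (Localization.mk_eq_mk_iff.2 (Localization.r_iff_exists.2 ⟨1, ?_⟩) :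
        Localization.mk a ⟨(1 : A), _⟩ = _)
      simp only [OneMemClass.coe_one, one_mul, mul_one]
      exact mul_comm _ _
    rw [res_pullSec i L (le_top : Proj.basicOpen 𝒜 f ≤ ⊤), h1, pullSec_smul]
    constructor
    · intro h
      rw [show (i.app (Proj.basicOpen 𝒜 f)).hom ((Proj.awayToSection 𝒜 f).hom (fr hf d a ha)) = 0 from h,
        zero_smul]
    · intro h
      refine (hg.pull i).smul_inj le_rfl ?_
      rw [Groth.PicAux.res_self, zero_smul]
      exact h
  constructor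
  · intro h
    have hcov : ⨆ f : s, Proj.basicOpen 𝒜 (f : A) = ⊤ := Proj.iSup_basicOpen_eq_top 𝒜 (fun f : s ↦ (f : A))
      (hs.le.trans (Ideal.span_mono fun x hx ↦ ⟨⟨x, hx⟩, rfl⟩))
    refine res_ext (fun f : s => i ⁻¹ᵁ Proj.basicOpen 𝒜 (f : A)) (fun f => i.preimage_mono le_top)
      (fun z _ => ?_) fun f => ?_
    · obtain ⟨f, hf⟩ := Opens.mem_iSup.1 (hcov.ge (Set.mem_univ (i z)) : i z ∈ ⨆ f : s, Proj.basicOpen 𝒜 (f : A))
      exact Opens.mem_iSup.2 ⟨f, hf⟩
    · rw [(key _ (hs1 _ f.2)).1 (h _ f.2 (hs1 _ f.2) ha)]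
      exact (map_zero _).symm
  · intro h f hfs hf ha'
    refine (key f hf).2 ?_
    rw [h]
    exact map_zero _

theorem ker_eq_idealOf (s : Finset A) (hs1 : ∀ f ∈ s, f ∈ 𝒜 1)
    (hs : (HomogeneousIdeal.irrelevant 𝒜).toIdeal = Ideal.span (s : Set A))
    {Z : Scheme.{u}} (i : Z ⟶ Proj 𝒜)
    {B : Type u} [CommRing B] [Algebra R B] (ℬ : ℕ → Submodule R B) [GradedAlgebra ℬ]
    (φ : 𝒜 →+*ᵍ ℬ)
    (hker : ∀ (d : ℕ) (F : A) (hF : F ∈ 𝒜 d),
      φ F = 0 ↔ ProjUP.pullSec i (Twist.twist 𝒜 (d : ℤ)) (Twist.globalOf 𝒜 ⟨F, hF⟩) = 0) (a : A) :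
    φ a = 0 ↔ a ∈ idealOf i (s : Set A) := by
  classical
  constructor
  · intro h
    rw [← DirectSum.sum_support_decompose 𝒜 a]
    refine Ideal.sum_mem _ fun k _ => Ideal.subset_span ⟨k, SetLike.coe_mem _, ?_⟩
    refine (vanishes_iff 𝒜 s hs1 hs i k (SetLike.coe_mem _)).2 ((hker k _ _).1 ?_)
    rw [GradedRingHom.map_directSumDecompose, h, DirectSum.decompose_zero]
    rfl
  · intro h
    have : idealOf i (s : Set A) ≤ RingHom.ker φ.toRingHom :=
      Ideal.span_le.2 fun x ⟨k, hx, hv⟩ => (hker k x hx).2 ((vanishes_iff 𝒜 s hs1 hs i k hx).1 hv)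
    exact this h

end Groth.SchemeMorphisms.VanishingForms
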