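import Groth.Agent.BlowUpBasics.Global
import Groth.Agent.BlowUpBasics.Proj
import Mathlib.AlgebraicGeometry.Morphisms.OpenImmersion
import Mathlib.AlgebraicGeometry.Morphisms.IsIso
import Mathlib.AlgebraicGeometry.FunctionField

/-!
# Recognising a blow-up of the spectrum of a domain from ratios of generators

An integral scheme `X` over `Spec B`, covered by affine opens `U l` carrying functions `r l i`
("`x_i / x_l`") which generate, such that `b i = r l i * b l` on `U l`, is the blow-up of `Spec B`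
in the ideal generated by the `b i`.
-/

set_option autoImplicit false
universe u

open CategoryTheory AlgebraicGeometry TopologicalSpace

namespace Groth.BlowUpBirational

open Groth.BlowUpBasics

set_option linter.unusedSectionVars false

variable {X : Scheme.{u}} {B : Type u} [CommRing B] {p : X ⟶ Spec (CommRingCat.of B)}

/-- Ratio data for `p : X ⟶ Spec B` and a family `b` in `B`. -/
structure RatioData (p : X ⟶ Spec (CommRingCat.of B)) {κ : Type*} (b : κ → B) where
  U : κ → X.Opens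
  affine : ∀ l, IsAffineOpen (U l)
  cover : ∀ x, ∃ l, x ∈ U l
  r : ∀ l, κ → Γ(X, U l)
  inf_eq : ∀ l m, U l ⊓ U m = X.basicOpen (r l m)
  gen : ∀ l, Subring.closure (Set.range (phi p (U l)) ∪ Set.range (r l)) = ⊤
  rel : ∀ l, b l ≠ 0 → ∀ i, phi p (U l) (b i) = r l i * phi p (U l) (b l)
  nonempty_iff : ∀ l, b l ≠ 0 ↔ (U l : Set X).Nonempty
  injective : ∀ (W : X.Opens), (W : Set X).Nonempty → Function.Injective (phi p W)

variable {κ : Type*} {b : κ → B}

lemma phi_res (p : X ⟶ Spec (CommRingCat.of B)) {U V : X.Opens} (h : V ≤ U) (x : B) :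
    X.presheaf.map (homOfLE h).op (phi p U x) = phi p V x := by
  rw [phi_restrict p h]; rfl

namespace RatioData

variable (D : RatioData p b)

include D in
lemma rel' {l : κ} (hl : b l ≠ 0) (i : κ) {W : X.Opens} (h : W ≤ D.U l) :
    phi p W (b i) = X.presheaf.map (homOfLE h).op (D.r l i) * phi p W (b l) := by
  rw [← phi_res p h, D.rel l hl, map_mul, phi_res p h]

/-- The ideal generated by `b`. -/
noncomputable def ideal (_D : RatioData p b) : Ideal B := Ideal.span (Set.range b)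

lemma mem_ideal (l : κ) : b l ∈ D.ideal := Ideal.subset_span ⟨l, rfl⟩

lemma map_ideal {l : κ} (hl : b l ≠ 0) {W : X.Opens} (h : W ≤ D.U l) :
    D.ideal.map (phi p W) = Ideal.span {phi p W (b l)} := by
  refine le_antisymm ?_ ?_
  · rw [ideal, Ideal.map_span, Ideal.span_le]
    rintro _ ⟨_, ⟨i, rfl⟩, rfl⟩
    exact Ideal.mem_span_singleton'.2 ⟨_, (D.rel' hl i h).symm⟩
  · rw [Ideal.span_singleton_le_iff_mem]
    exact Ideal.mem_map_of_mem _ (D.mem_ideal l)

variable [IsIntegral X]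

lemma phi_ne_zero (D : RatioData p b) {l : κ} (hl : b l ≠ 0) {W : X.Opens}
    (hW : (W : Set X).Nonempty) : phi p W (b l) ≠ 0 := fun h =>
  hl (D.injective W hW (h.trans (map_zero _).symm))

lemma isEffCartier : BlowUp.IsEffCartierIdeal ((sheafOf D.ideal).comap p) := by
  intro x
  obtain ⟨l, hl⟩ := D.cover x
  have hb : b l ≠ 0 := (D.nonempty_iff l).2 ⟨x, hl⟩
  have : Nonempty (D.U l) := ⟨⟨x, hl⟩⟩
  refine ⟨⟨D.U l, D.affine l⟩, hl, phi p _ (b l),
    mem_nonZeroDivisors_iff_ne_zero.2 (D.phi_ne_zero hb ⟨x, hl⟩), ?_⟩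
  rw [ideal_comap_sheafOf, D.map_ideal hb le_rfl]

/-- The index set of the useful charts. -/
abbrev Idx (_D : RatioData p b) := {l : κ // b l ≠ 0}

/-- The element of the ideal attached to an index. -/
def el (l : κ) : D.ideal := ⟨b l, D.mem_ideal l⟩

lemma covers {X' : Scheme.{u}} {q : X' ⟶ Spec (CommRingCat.of B)} (T : Atlas D.ideal q) (y : X') :
    ∃ l : D.Idx, y ∈ Set.range (T.j (D.el l.1)) := by
  obtain ⟨a, z, rfl⟩ := T.covers y
  by_contra hc
  simp only [not_exists] at hc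
  have hmem : ∀ i, frac D.ideal (a : B) (b i) (D.mem_ideal i) ∈ z.asIdeal := by
    intro i
    by_cases hi : b i = 0
    · have : frac D.ideal (a : B) (b i) (D.mem_ideal i) = 0 := Subtype.ext (by simp [hi])
      rw [this]; exact Ideal.zero_mem _
    · by_contra hz
      exact hc ⟨i, hi⟩ (T.overlap (D.el i) a z hz)
  have hall : ∀ (x : B) (hx : x ∈ Ideal.span (Set.range b)),
      frac D.ideal (a : B) x hx ∈ z.asIdeal := by
    intro x hx
    induction hx using Submodule.span_induction with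
    | mem x hx => obtain ⟨i, rfl⟩ := hx; exact hmem i
    | zero =>
      have : frac D.ideal (a : B) 0 (D.ideal.zero_mem) = 0 := Subtype.ext (by simp)
      rw [this]; exact Ideal.zero_mem _
    | add x y hx hy ihx ihy =>
      have : frac D.ideal (a : B) (x + y) (D.ideal.add_mem hx hy) =
          frac D.ideal (a : B) x hx + frac D.ideal (a : B) y hy :=
        Subtype.ext (by
          push_cast
          rw [coe_frac, coe_frac, coe_frac, IsLocalization.mk'_eq_iff_eq_mul]
          rw [add_mul, IsLocalization.mk'_spec, IsLocalization.mk'_spec, map_add])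
      rw [this]; exact Ideal.add_mem _ ihx ihy
    | smul c x hx ih =>
      have : frac D.ideal (a : B) (c • x) (D.ideal.smul_mem c hx) =
          algebraMap B _ c * frac D.ideal (a : B) x hx :=
        Subtype.ext (by
          push_cast
          rw [coe_frac, coe_frac, IsLocalization.mk'_eq_iff_eq_mul]
          rw [mul_assoc, IsLocalization.mk'_spec, smul_eq_mul, map_mul])
      rw [this]; exact Ideal.mul_mem_left _ _ ih
  refine z.isPrime.ne_top ((Ideal.eq_top_iff_one _).2 ?_)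
  have h1 : frac D.ideal (a : B) (a : B) a.2 = 1 :=
    Subtype.ext (by simp)
  rw [← h1]; exact hall _ a.2

section Lift

variable {X' : Scheme.{u}} {q : X' ⟶ Spec (CommRingCat.of B)} (T : Atlas D.ideal q)
  (v : X ⟶ X') (hv : v ≫ q = p)

include hv in
lemma fromSpec_fac {W : X.Opens} (hW : IsAffineOpen W) :
    (hW.fromSpec ≫ v) ≫ q = Spec.map (CommRingCat.ofHom (phi p W)) := by
  rw [Category.assoc, hv, fromSpec_comp p hW]

include hv in
theorem preimage_eq (l : D.Idx) : v ⁻¹ᵁ (T.j (D.el l.1)).opensRange = D.U l.1 := by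
  refine le_antisymm (fun x hx => ?_) (fun x hx => ?_)
  · obtain ⟨m, hm⟩ := D.cover x
    have hbm : b m ≠ 0 := (D.nonempty_iff m).2 ⟨x, hm⟩
    obtain ⟨_, ⟨W, hW, rfl⟩, hxW, hWle⟩ := X.isBasis_affineOpens.exists_subset_of_mem_open
      (show x ∈ v ⁻¹ᵁ (T.j (D.el l.1)).opensRange ⊓ D.U m from ⟨hx, hm⟩)
      (v ⁻¹ᵁ (T.j (D.el l.1)).opensRange ⊓ D.U m).isOpen
    have hWl : W ≤ v ⁻¹ᵁ (T.j (D.el l.1)).opensRange := fun y hy => (hWle hy).1
    have hWm : W ≤ D.U m := fun y hy => (hWle hy).2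
    obtain ⟨ψ, hψ, -⟩ := T.exists_algHom (phi p W) (hW.fromSpec ≫ v) (fromSpec_fac v hv hW)
      (D.el l.1) (by
        rintro _ ⟨y, rfl⟩
        exact hWl (hW.range_fromSpec.le ⟨y, rfl⟩))
    have : Nonempty W := ⟨⟨x, hxW⟩⟩
    set c := ψ (frac D.ideal (D.el l.1 : B) (b m) (D.mem_ideal m))
    have hc : c * phi p W (b l.1) = phi p W (b m) := by
      rw [← hψ, RingHom.comp_apply, RingHom.comp_apply]
      exact (map_mul ψ _ _).symm.trans (congrArg ψ (frac_mul_algebraMap (b m) (D.mem_ideal m)))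
    have hr := D.rel' hbm l.1 hWm
    have hu : IsUnit (X.presheaf.map (homOfLE hWm).op (D.r m l.1)) := by
      refine IsUnit.of_mul_eq_one c ?_
      have h0 : phi p W (b m) ≠ 0 := D.phi_ne_zero hbm ⟨x, hxW⟩
      refine mul_right_cancel₀ h0 ?_
      rw [one_mul, mul_comm _ c, mul_assoc, ← hr, hc]
    have hx' : x ∈ X.basicOpen (X.presheaf.map (homOfLE hWm).op (D.r m l.1)) := by
      rw [X.basicOpen_of_isUnit hu]; exact hxW
    rw [Scheme.basicOpen_res] at hx'
    exact ((D.inf_eq m l.1).ge hx'.2).2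
  · obtain ⟨m, hm⟩ := D.covers T (v x)
    obtain ⟨_, ⟨W, hW, rfl⟩, hxW, hWle⟩ := X.isBasis_affineOpens.exists_subset_of_mem_open
      (show x ∈ D.U l.1 ⊓ v ⁻¹ᵁ (T.j (D.el m.1)).opensRange from ⟨hx, hm⟩)
      (D.U l.1 ⊓ v ⁻¹ᵁ (T.j (D.el m.1)).opensRange).isOpen
    have hWl : W ≤ D.U l.1 := fun y hy => (hWle hy).1
    have hWm : W ≤ v ⁻¹ᵁ (T.j (D.el m.1)).opensRange := fun y hy => (hWle hy).2
    obtain ⟨ψ, hψ, hψh⟩ := T.exists_algHom (phi p W) (hW.fromSpec ≫ v) (fromSpec_fac v hv hW)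
      (D.el m.1) (by
        rintro _ ⟨y, rfl⟩
        exact hWm (hW.range_fromSpec.le ⟨y, rfl⟩))
    have : Nonempty W := ⟨⟨x, hxW⟩⟩
    set c := ψ (frac D.ideal (D.el m.1 : B) (b l.1) (D.mem_ideal l.1))
    have hc : c * phi p W (b m.1) = phi p W (b l.1) := by
      rw [← hψ, RingHom.comp_apply, RingHom.comp_apply]
      exact (map_mul ψ _ _).symm.trans (congrArg ψ (frac_mul_algebraMap (b l.1) (D.mem_ideal l.1)))
    have hu : IsUnit c := by
      refine IsUnit.of_mul_eq_one (X.presheaf.map (homOfLE hWl).op (D.r l.1 m.1)) ?_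
      have h0 : phi p W (b l.1) ≠ 0 := D.phi_ne_zero l.2 ⟨x, hxW⟩
      refine mul_right_cancel₀ h0 ?_
      rw [one_mul, mul_assoc, ← D.rel' l.2 m.1 hWl, hc]
    obtain ⟨y, rfl⟩ : x ∈ Set.range hW.fromSpec := hW.range_fromSpec ▸ hxW
    show v (hW.fromSpec y) ∈ Set.range (T.j (D.el l.1))
    rw [show v (hW.fromSpec y) = (hW.fromSpec ≫ v) y from rfl, ← hψh]
    refine T.overlap (D.el l.1) (D.el m.1) _ ?_
    intro hmem
    exact y.isPrime.ne_top (Ideal.eq_top_of_isUnit_mem _ hmem hu)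

include hv in
theorem exists_isOpenImmersion (l : D.Idx) :
    IsOpenImmersion ((D.affine l.1).fromSpec ≫ v) ∧
      Set.range ((D.affine l.1).fromSpec ≫ v) = Set.range (T.j (D.el l.1)) := by
  set U := D.U l.1
  have hU := D.affine l.1
  obtain ⟨x, hx⟩ := (D.nonempty_iff l.1).1 l.2
  have : Nonempty U := ⟨⟨x, hx⟩⟩
  obtain ⟨ψ, hψ, hψh⟩ := T.exists_algHom (phi p U) (hU.fromSpec ≫ v) (fromSpec_fac v hv hU)
    (D.el l.1) (by
      rintro _ ⟨y, rfl⟩
      exact (D.preimage_eq T v hv l).ge (hU.range_fromSpec.le ⟨y, rfl⟩))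
  have h0 : phi p U (b l.1) ≠ 0 := D.phi_ne_zero l.2 ⟨x, hx⟩
  have hbij : Function.Bijective ψ := by
    refine ⟨(injective_iff_map_eq_zero ψ).2 fun z hz => ?_, fun s => ?_⟩
    · obtain ⟨⟨β, ⟨_, n, rfl⟩⟩, hβ⟩ := IsLocalization.surj (Submonoid.powers (D.el l.1 : B))
        (z : Localization.Away (D.el l.1 : B))
      simp only at hβ
      have hC : z * algebraMap B _ ((D.el l.1 : B) ^ n) = algebraMap B _ β := Subtype.ext hβ
      have : phi p U β = 0 := by
        rw [← hψ, RingHom.comp_apply, ← hC, map_mul, hz, zero_mul]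
      have hβ0 : β = 0 := D.injective U ⟨x, hx⟩ (this.trans (map_zero _).symm)
      rw [hβ0, map_zero] at hβ
      exact Subtype.ext (((IsLocalization.Away.algebraMap_isUnit (S := Localization.Away (D.el l.1 : B))
        (D.el l.1 : B)).pow n).mul_left_eq_zero.1 (by rwa [map_pow] at hβ))
    · suffices ⊤ ≤ ψ.range from this (Subring.mem_top s)
      rw [← D.gen l.1, Subring.closure_le]
      rintro _ (⟨c, rfl⟩ | ⟨i, rfl⟩)
      · exact ⟨algebraMap B _ c, by rw [← hψ]; rfl⟩
      · refine ⟨frac D.ideal (D.el l.1 : B) (b i) (D.mem_ideal i), mul_right_cancel₀ h0 ?_⟩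
        rw [← D.rel l.1 l.2 i]
        conv_lhs => rw [← hψ, RingHom.comp_apply]
        rw [← hψ, RingHom.comp_apply]
        exact (map_mul ψ _ _).symm.trans (congrArg ψ (frac_mul_algebraMap (b i) (D.mem_ideal i)))
  let e := (RingEquiv.ofBijective ψ hbij).toCommRingCatIso
  have he : Spec.map e.hom ≫ T.j (D.el l.1) = hU.fromSpec ≫ v := hψh
  rw [← he]
  exact ⟨inferInstance, by
    rw [Scheme.Hom.comp_base, TopCat.coe_comp, Set.range_comp,
      Set.range_eq_univ.2 (Spec.map e.hom).surjective, Set.image_univ]⟩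

include T hv in
theorem isIso_lift : IsIso v := by
  have hcov : ⨆ l : D.Idx, (T.j (D.el l.1)).opensRange = ⊤ := top_le_iff.1 fun y _ => by
    obtain ⟨l, hl⟩ := D.covers T y
    exact Opens.mem_iSup.2 ⟨l, hl⟩
  refine (isIso_iff_isOpenImmersion_and_surjective v).2 ⟨?_, ⟨fun y => ?_⟩⟩
  · refine (IsZariskiLocalAtTarget.iff_of_iSup_eq_top (P := @IsOpenImmersion)
      (fun l : D.Idx => (T.j (D.el l.1)).opensRange) hcov).2 fun l => ?_
    have h1 := (D.exists_isOpenImmersion T v hv l).1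
    have h2 : IsOpenImmersion ((D.U l.1).ι ≫ v) := by
      rw [← (D.affine l.1).isoSpec_hom_fromSpec, Category.assoc]; infer_instance
    have h3 : IsOpenImmersion ((v ⁻¹ᵁ (T.j (D.el l.1)).opensRange).ι ≫ v) := by
      rw [D.preimage_eq T v hv l]; exact h2
    rw [← morphismRestrict_ι] at h3
    exact IsOpenImmersion.of_comp _ (Scheme.Opens.ι _)
  · obtain ⟨l, hl⟩ := D.covers T y
    obtain ⟨z, hz⟩ := (D.exists_isOpenImmersion T v hv l).2.ge hl
    exact ⟨_, hz⟩

end Lift

include D in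
/-- **Recognition of blow-ups.** -/
theorem isBlowUp : BlowUp.IsBlowUp p (sheafOf D.ideal) := by
  obtain ⟨v, hv⟩ := (projAtlas D.ideal).exists_lift p D.isEffCartier
  have := D.isIso_lift (projAtlas D.ideal) v hv
  exact (congrArg (fun m => BlowUp.IsBlowUp m (sheafOf D.ideal)) hv).mp
    (isBlowUp_iso_source (isBlowUp_projBase D.ideal) (asIso v))

end RatioData

end Groth.BlowUpBirational
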