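import Groth.Agent.EGA43Valuative.DominatingDVR
import Groth.Agent.S9398
import Groth.Prelude.Def_Found
import Mathlib.RingTheory.EssentialFiniteness
import Mathlib.RingTheory.Localization.AsSubring
import Mathlib.FieldTheory.IntermediateField.Basic

/-!
# Discrete valuation rings essentially of finite type over a universally Japanese base

A Noetherian local ring essentially of finite type over a universally Japanese ring, mapping to a field
essentially of finite type over it with non-zero image of the maximal ideal, is dominated by a discrete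
valuation ring of the field essentially of finite type over the base.
-/

set_option autoImplicit false
set_option linter.style.haveILetI false

universe u

namespace Groth.EssDvr

open IsLocalRing

theorem essFiniteType_comp {R S T : Type*} [CommRing R] [CommRing S] [CommRing T] {f : R →+* S} {g : S →+* T}
    (hf : f.EssFiniteType) (hg : g.EssFiniteType) : (g.comp f).EssFiniteType := by
  algebraize [f, g, g.comp f]
  exact Algebra.EssFiniteType.comp R S T

/-- Adjoining generators or their inverses inside a valuation ring. -/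
theorem exists_fg_le_valuationSubring {O L : Type u} [CommRing O] [Field L] [Algebra O L]
    [Algebra.EssFiniteType O L] (V : ValuationSubring L) (hV : ∀ r, algebraMap O L r ∈ V) :
    ∃ R₁ : Subalgebra O L, R₁.FG ∧ (∀ x ∈ R₁, x ∈ V) ∧ IsFractionRing R₁ L := by
  classical
  let T := Algebra.EssFiniteType.finset O L
  let T' : Finset L := T.image fun t => if t ∈ V then t else t⁻¹
  let R₁ := Algebra.adjoin O (T' : Set L)
  have hle : ∀ x ∈ R₁, x ∈ V := by
    intro x hx
    induction hx using Algebra.adjoin_induction with
    | mem x hx =>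
      obtain ⟨t, -, rfl⟩ := Finset.mem_image.1 (Finset.mem_coe.1 hx)
      split_ifs with h
      · exact h
      · exact (V.mem_or_inv_mem t).resolve_left h
    | algebraMap r => exact hV r
    | add x y _ _ hx hy => exact V.add_mem _ _ hx hy
    | mul x y _ _ hx hy => exact V.mul_mem _ _ hx hy
  refine ⟨R₁, ⟨T', rfl⟩, hle, IsFractionRing.of_field R₁ L fun z => ?_⟩
  let F : Subfield L := Subfield.closure (R₁ : Set L)
  have hF : ∀ x ∈ Algebra.EssFiniteType.subalgebra O L, x ∈ F := by
    intro x hx
    induction hx using Algebra.adjoin_induction with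
    | mem t ht =>
      have h : (if t ∈ V then t else t⁻¹) ∈ F :=
        Subfield.subset_closure (Algebra.subset_adjoin (Finset.mem_coe.2 (Finset.mem_image_of_mem _ ht)))
      split_ifs at h
      · exact h
      · simpa using F.inv_mem h
    | algebraMap r => exact Subfield.subset_closure (R₁.algebraMap_mem r)
    | add x y _ _ hx hy => exact F.add_mem hx hy
    | mul x y _ _ hx hy => exact F.mul_mem hx hy
  obtain ⟨⟨a, s⟩, hs⟩ := IsLocalization.surj (Algebra.EssFiniteType.submonoid O L) z
  have hs0 : ((s : Algebra.EssFiniteType.subalgebra O L) : L) ≠ 0 :=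
    (IsLocalization.map_units L s).ne_zero
  have hz : z ∈ F := by
    rw [show z = (a : L) / ((s : Algebra.EssFiniteType.subalgebra O L) : L) from (eq_div_iff hs0).2 hs]
    exact F.div_mem (hF _ a.2) (hF _ s.1.2)
  obtain ⟨y, hy, w, hw, rfl⟩ := Subfield.mem_closure_iff.1 hz
  have hcl : Subring.closure (R₁ : Set L) ≤ R₁.toSubring := Subring.closure_le.2 fun _ h => h
  exact ⟨⟨y, hcl hy⟩, ⟨w, hcl hw⟩, rfl⟩

/-- An N-2 domain has finite integral closure in its fraction field. -/
theorem finite_integralClosure_self (A L : Type u) [CommRing A] [IsDomain A] [Field L] [Algebra A L]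
    [IsFractionRing A L] (h : CAlg.IsN2 A) : Module.Finite A (integralClosure A L) := by
  letI : Algebra (FractionRing A) L := FractionRing.liftAlgebra A L
  haveI : IsScalarTower A (FractionRing A) L := FractionRing.isScalarTower_liftAlgebra A L
  refine h L (Module.Finite.of_surjective (Algebra.linearMap (FractionRing A) L) fun z => ?_)
  obtain ⟨a, b, hb, rfl⟩ := IsFractionRing.div_surjective (A := A) z
  refine ⟨algebraMap A (FractionRing A) a / algebraMap A (FractionRing A) b, ?_⟩
  rw [Algebra.linearMap_apply, map_div₀, ← IsScalarTower.algebraMap_apply, ← IsScalarTower.algebraMap_apply]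

/-- The localisation of a Dedekind domain at a maximal ideal inside a field. -/
theorem exists_dvr_of_dedekind (C L : Type u) [CommRing C] [IsDedekindDomain C] [Field L] [Algebra C L]
    [IsFractionRing C L] (M : Ideal C) [M.IsMaximal] (hM : M ≠ ⊥) :
    ∃ (A : Type u) (_ : CommRing A) (_ : IsDomain A) (_ : IsDiscreteValuationRing A) (_ : Algebra A L)
      (_ : IsFractionRing A L) (χ : C →+* A), (algebraMap A L).comp χ = algebraMap C L ∧ χ.EssFiniteType ∧
      ∀ c, IsUnit (χ c) ↔ c ∉ M := by
  let A := Localization.subalgebra.ofField L M.primeCompl M.primeCompl_le_nonZeroDivisors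
  haveI : IsLocalization.AtPrime A M := Localization.subalgebra.isLocalization_ofField L _ _
  exact ⟨A, inferInstance, inferInstance,
    IsLocalization.AtPrime.isDiscreteValuationRing_of_dedekind_domain C hM A, inferInstance, inferInstance,
    algebraMap C A, rfl,
    RingHom.essFiniteType_algebraMap.2 (Algebra.EssFiniteType.of_isLocalization A M.primeCompl),
    fun c => IsLocalization.AtPrime.isUnit_to_map_iff A M c⟩

/-- A Noetherian local universally Japanese domain which is not a field is dominated by a discrete
valuation ring of its fraction field essentially of finite type over it. -/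
theorem exists_dvr_of_isFractionRing (R L : Type u) [CommRing R] [IsDomain R] [IsNoetherianRing R]
    [IsLocalRing R] [Field L] [Algebra R L] [IsFractionRing R L] (hR : CAlg.IsUniversallyJapanese R)
    (hRf : ¬ IsField R) :
    ∃ (A : Type u) (_ : CommRing A) (_ : IsDomain A) (_ : IsDiscreteValuationRing A) (_ : Algebra A L)
      (_ : IsFractionRing A L) (φ : R →+* A), IsLocalHom φ ∧
      (algebraMap A L).comp φ = algebraMap R L ∧ φ.EssFiniteType := by
  classical
  obtain ⟨B, P, hBfg, hP, hPh, hPm⟩ := Groth.EGA43Val.exists_height_one_dominating R L hRf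
  haveI := hP
  haveI : Algebra.FiniteType R B := (Subalgebra.fg_iff_finiteType B).1 hBfg
  haveI : IsNoetherianRing B := Algebra.FiniteType.isNoetherianRing R B
  let A₀ := Localization.subalgebra.ofField (A := B) L P.primeCompl P.primeCompl_le_nonZeroDivisors
  haveI : IsLocalization.AtPrime A₀ P := Localization.subalgebra.isLocalization_ofField L _ _
  haveI : IsLocalRing A₀ := IsLocalization.AtPrime.isLocalRing A₀ P
  haveI : IsNoetherianRing A₀ := IsLocalization.isNoetherianRing P.primeCompl A₀ inferInstance
  have hdimA : ringKrullDim A₀ = 1 := by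
    rw [IsLocalization.AtPrime.ringKrullDim_eq_height P A₀, hPh]; rfl
  haveI : Ring.KrullDimLE 1 A₀ := Ring.krullDimLE_iff.2 (by simp [hdimA])
  have hAm : maximalIdeal A₀ ≠ ⊥ := fun h => by
    rw [ringKrullDim_eq_zero_of_isField (isField_iff_maximalIdeal_eq.2 h)] at hdimA
    exact zero_ne_one hdimA
  let φ₀ : R →+* A₀ := (algebraMap B A₀).comp (algebraMap R B)
  have hφ₀ : φ₀.EssFiniteType :=
    essFiniteType_comp (RingHom.essFiniteType_algebraMap.2 inferInstance)
      (RingHom.essFiniteType_algebraMap.2 (Algebra.EssFiniteType.of_isLocalization A₀ P.primeCompl))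
  have hUJ : CAlg.IsUniversallyJapanese A₀ :=
    letI := φ₀.toAlgebra
    haveI : Algebra.EssFiniteType R A₀ := hφ₀
    Groth.Agent.S9398.result R hR A₀
  haveI hfin : Module.Finite A₀ (integralClosure A₀ L) := finite_integralClosure_self A₀ L (hUJ A₀ inferInstance)
  let C := integralClosure A₀ L
  haveI : IsDedekindDomain C := Groth.EGA43Val.isDedekindDomain_integralClosure A₀ L L
  haveI : IsFractionRing C L := integralClosure.isFractionRing_of_finite_extension L L
  have hinjA : Function.Injective (algebraMap A₀ C) :=
    fun x y h => Subtype.val_injective (show (x : L) = (y : L) from congrArg (fun c : C => (c : L)) h)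
  obtain ⟨M, hM, hMA⟩ := Ideal.exists_ideal_over_maximal_of_isIntegral
    (S := C) (maximalIdeal A₀) (by rw [(RingHom.injective_iff_ker_eq_bot _).1 hinjA]; exact bot_le)
  haveI := hM
  have hM0 : M ≠ ⊥ := by
    rintro rfl
    exact hAm (hMA.symm.trans (Ideal.comap_bot_of_injective _ hinjA))
  obtain ⟨A, iA, iD, iV, iAL, iF, χ, hcomp, hess, hM'⟩ := exists_dvr_of_dedekind C L M hM0
  refine ⟨A, iA, iD, iV, iAL, iF, χ.comp ((algebraMap A₀ C).comp φ₀), ⟨fun r hr => ?_⟩, ?_,
    essFiniteType_comp (essFiniteType_comp hφ₀
      (RingHom.essFiniteType_algebraMap.2 (inferInstance : Algebra.EssFiniteType A₀ C))) hess⟩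
  · rw [← IsLocalRing.notMem_maximalIdeal]
    intro hrm
    rw [← hPm] at hrm
    have h3 : φ₀ r ∈ maximalIdeal A₀ := (IsLocalization.AtPrime.to_map_mem_maximal_iff A₀ P _).2 hrm
    rw [← hMA] at h3
    exact (hM' _).1 hr h3
  · rw [← RingHom.comp_assoc, hcomp]
    rfl

variable {k O L : Type u} [CommRing k] [CommRing O] [IsNoetherianRing O] [IsLocalRing O] [Field L]
  [Algebra k O] [Algebra.EssFiniteType k O] [Algebra O L] [Algebra.EssFiniteType O L]

/-- The dominating discrete valuation ring, essentially of finite type over the base. -/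
theorem exists_dvr_essFiniteType (hk : CAlg.IsUniversallyJapanese k)
    (h0 : ∃ r ∈ maximalIdeal O, algebraMap O L r ≠ 0) :
    ∃ (A : Type u) (_ : CommRing A) (_ : IsDomain A) (_ : IsDiscreteValuationRing A) (_ : Algebra A L)
      (_ : IsFractionRing A L) (φ : O →+* A), IsLocalHom φ ∧
      (algebraMap A L).comp φ = algebraMap O L ∧ (φ.comp (algebraMap k O)).EssFiniteType := by
  classical
  obtain ⟨V, hVle, hVloc⟩ := (LocalSubring.range (algebraMap O L)).exists_le_valuationSubring
  have hV : ∀ r, algebraMap O L r ∈ V := fun r => hVle ⟨r, rfl⟩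
  have hval : ∀ r ∈ maximalIdeal O, V.valuation (algebraMap O L r) < 1 := by
    intro r hr
    refine (V.valuation_lt_one_iff ⟨_, hV r⟩).1 (by_contra fun hu => ?_)
    rw [IsLocalRing.notMem_maximalIdeal] at hu
    have hu' := hVloc.map_nonunit ⟨_, r, rfl⟩ hu
    have : IsLocalHom (algebraMap O L).rangeRestrict :=
      IsLocalHom.of_surjective _ (algebraMap O L).rangeRestrict_surjective
    exact hr (IsUnit.of_map (algebraMap O L).rangeRestrict r hu')
  obtain ⟨R₁, hR₁fg, hR₁V, hR₁L⟩ := exists_fg_le_valuationSubring V hV
  haveI : Algebra.FiniteType O R₁ := (Subalgebra.fg_iff_finiteType R₁).1 hR₁fg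
  haveI : IsNoetherianRing R₁ := Algebra.FiniteType.isNoetherianRing O R₁
  let ι : R₁ →+* V := (R₁.val.toRingHom).codRestrict V.toSubring fun x => hR₁V x x.2
  let q : Ideal R₁ := (maximalIdeal V).comap ι
  haveI : q.IsPrime := Ideal.IsPrime.comap _
  have hq : q.comap (algebraMap O R₁) = maximalIdeal O := by
    refine le_antisymm (le_maximalIdeal (Ideal.comap_ne_top _ (Ideal.IsPrime.ne_top inferInstance))) fun r hr => ?_
    exact (V.valuation_lt_one_iff (ι (algebraMap O R₁ r))).2 (hval r hr)
  let R₂ := Localization.subalgebra.ofField L q.primeCompl q.primeCompl_le_nonZeroDivisors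
  haveI : IsLocalization.AtPrime R₂ q := Localization.subalgebra.isLocalization_ofField L _ _
  haveI : IsLocalRing R₂ := IsLocalization.AtPrime.isLocalRing R₂ q
  haveI : IsNoetherianRing R₂ := IsLocalization.isNoetherianRing q.primeCompl R₂ inferInstance
  have hR₂ : ¬ IsField R₂ := fun hf => by
    obtain ⟨r, hr, hr0⟩ := h0
    have h1 : algebraMap R₁ R₂ (algebraMap O R₁ r) ∈ maximalIdeal R₂ :=
      (IsLocalization.AtPrime.to_map_mem_maximal_iff R₂ q _).2 (Ideal.mem_comap.1 (hq.ge hr))
    rw [isField_iff_maximalIdeal_eq.1 hf, Ideal.mem_bot] at h1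
    exact hr0 (congrArg Subtype.val h1)
  have hψ : (((algebraMap R₁ R₂).comp (algebraMap O R₁)).comp (algebraMap k O)).EssFiniteType :=
    essFiniteType_comp (RingHom.essFiniteType_algebraMap.2 inferInstance)
      (essFiniteType_comp (RingHom.essFiniteType_algebraMap.2 inferInstance)
        (RingHom.essFiniteType_algebraMap.2 (Algebra.EssFiniteType.of_isLocalization R₂ q.primeCompl)))
  have hUJ : CAlg.IsUniversallyJapanese R₂ :=
    letI := (((algebraMap R₁ R₂).comp (algebraMap O R₁)).comp (algebraMap k O)).toAlgebra
    haveI : Algebra.EssFiniteType k R₂ := hψ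
    Groth.Agent.S9398.result k hk R₂
  obtain ⟨A, iA, iD, iV, iAL, iF, φ, hloc, hcomp, hess⟩ := exists_dvr_of_isFractionRing R₂ L hUJ hR₂
  refine ⟨A, iA, iD, iV, iAL, iF, φ.comp ((algebraMap R₁ R₂).comp (algebraMap O R₁)), ⟨fun r hr => ?_⟩, ?_,
    by rw [RingHom.comp_assoc]; exact essFiniteType_comp hψ hess⟩
  · rw [← IsLocalRing.notMem_maximalIdeal]
    intro hrm
    have h2 : algebraMap R₁ R₂ (algebraMap O R₁ r) ∈ maximalIdeal R₂ :=
      (IsLocalization.AtPrime.to_map_mem_maximal_iff R₂ q _).2 (Ideal.mem_comap.1 (hq.ge hrm))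
    exact h2 (hloc.map_nonunit _ hr)
  · rw [← RingHom.comp_assoc, hcomp]
    rfl

end Groth.EssDvr
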