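import Mathlib.RingTheory.Etale.Pi
import Mathlib.RingTheory.Etale.Descent
import Mathlib.RingTheory.Localization.Away.Lemmas
import Mathlib.RingTheory.Flat.Basic
import Mathlib.LinearAlgebra.TensorProduct.Pi
import Mathlib.RingTheory.MvPolynomial.Basic
import Mathlib.Algebra.Order.BigOperators.Ring.Finset

/-!
Invariants of finite groups acting on finite split algebras; points of invariant rings.
-/

universe u

open TensorProduct

namespace Groth.InvSplit

section Split

variable {B G : Type u} [CommRing B] [Group G] [Fintype G] {n : ℕ}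
  (σ : G → ((Fin n → B) →ₐ[B] (Fin n → B)))

/-- The fixed subalgebra. -/
def fixed : Subalgebra B (Fin n → B) := ⨅ g, AlgHom.equalizer (σ g) (AlgHom.id B _)

omit [Fintype G] [Group G] in
theorem mem_fixed {x : Fin n → B} : x ∈ fixed σ ↔ ∀ g, σ g x = x := by
  simp only [fixed, Algebra.mem_iInf]
  exact Iff.rfl

/-- The join of the translates of a coordinate idempotent. -/
def orbitIdem (i : Fin n) : Fin n → B := 1 - ∏ g, (1 - σ g (Pi.single i 1))

omit [Group G] [Fintype G] in
theorem idem_single (g : G) (i : Fin n) : IsIdempotentElem (σ g (Pi.single i 1)) := by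
  rw [IsIdempotentElem, ← map_mul]
  congr 1
  ext j
  by_cases h : j = i <;> simp [h]

omit [Group G] in
theorem idem_prod (i : Fin n) : IsIdempotentElem (∏ g, (1 - σ g (Pi.single i 1))) := by
  rw [IsIdempotentElem, ← Finset.prod_mul_distrib]
  exact Finset.prod_congr rfl fun g _ => (idem_single σ g i).one_sub.eq

omit [Group G] in
theorem idem_orbit (i : Fin n) : IsIdempotentElem (orbitIdem σ i) := (idem_prod σ i).one_sub

theorem orbit_fixed (hmul : ∀ g h x, σ (g * h) x = σ g (σ h x)) (i : Fin n) :
    orbitIdem σ i ∈ fixed σ := by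
  rw [mem_fixed]
  intro h
  rw [orbitIdem, map_sub, map_one, map_prod]
  congr 1
  refine Fintype.prod_equiv (Equiv.mulLeft h) _ _ fun g => ?_
  rw [map_sub, map_one, ← hmul]
  rfl

theorem single_mul_orbit (hone : ∀ x, σ 1 x = x) (i : Fin n) :
    Pi.single i 1 * orbitIdem σ i = Pi.single i 1 := by
  have h0 : Pi.single i (1 : B) * (1 - σ 1 (Pi.single i 1)) = 0 := by
    rw [hone, mul_sub, mul_one]
    ext j
    by_cases h : j = i <;> simp [h]
  classical
  rw [orbitIdem, mul_sub, mul_one, ← Finset.mul_prod_erase Finset.univ _ (Finset.mem_univ (1 : G)),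
    ← mul_assoc, h0, zero_mul, sub_zero]

/-- Orthogonal refinement. -/
def orth (i : Fin n) : Fin n → B :=
  orbitIdem σ i * ∏ j ∈ Finset.univ.filter (· < i), (1 - orbitIdem σ j)

theorem orth_fixed (hmul : ∀ g h x, σ (g * h) x = σ g (σ h x)) (i : Fin n) : orth σ i ∈ fixed σ :=
  mul_mem (orbit_fixed σ hmul i) (prod_mem fun j _ => sub_mem (one_mem _) (orbit_fixed σ hmul j))

omit [Group G] in
theorem idem_orth (i : Fin n) : IsIdempotentElem (orth σ i) := by
  rw [IsIdempotentElem, orth, mul_mul_mul_comm, idem_orbit σ i, ← Finset.prod_mul_distrib]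
  congr 1
  exact Finset.prod_congr rfl fun j _ => (idem_orbit σ j).one_sub.eq

omit [Group G] in
theorem orth_mul_orth {i j : Fin n} (h : i ≠ j) : orth σ i * orth σ j = 0 := by
  rcases lt_or_gt_of_ne h with hlt | hlt
  · rw [orth, orth, mul_mul_mul_comm,
      ← Finset.mul_prod_erase (Finset.univ.filter (· < j)) (fun k => 1 - orbitIdem σ k)
        (show i ∈ Finset.univ.filter (· < j) by simpa using hlt)]
    linear_combination (orbitIdem σ j * (∏ k ∈ Finset.univ.filter (· < i), (1 - orbitIdem σ k)) *
      ∏ k ∈ (Finset.univ.filter (· < j)).erase i, (1 - orbitIdem σ k)) * (idem_orbit σ i).mul_one_sub_self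
  · rw [orth, orth, mul_mul_mul_comm,
      ← Finset.mul_prod_erase (Finset.univ.filter (· < i)) (fun k => 1 - orbitIdem σ k)
        (show j ∈ Finset.univ.filter (· < i) by simpa using hlt)]
    linear_combination (orbitIdem σ i * (∏ k ∈ Finset.univ.filter (· < j), (1 - orbitIdem σ k)) *
      ∏ k ∈ (Finset.univ.filter (· < i)).erase j, (1 - orbitIdem σ k)) * (idem_orbit σ j).mul_one_sub_self

theorem sum_orth (hone : ∀ x, σ 1 x = x) : ∑ i, orth σ i = 1 := by
  have h0 : ∏ i : Fin n, (1 - orbitIdem σ i) = 0 := by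
    rw [← one_mul (∏ i : Fin n, (1 - orbitIdem σ i)),
      show (1 : Fin n → B) = ∑ j, Pi.single j 1 from (Finset.univ_sum_single (1 : Fin n → B)).symm,
      Finset.sum_mul]
    refine Finset.sum_eq_zero fun j _ => ?_
    rw [show (∑ i, Pi.single i (1 : B)) = (1 : Fin n → B) from Finset.univ_sum_single (1 : Fin n → B),
      ← Finset.mul_prod_erase Finset.univ _ (Finset.mem_univ j), ← mul_assoc, mul_sub, mul_one,
      single_mul_orbit σ hone, sub_self, zero_mul]
  have h1 := Finset.prod_one_sub_ordered (Finset.univ : Finset (Fin n)) (orbitIdem σ)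
  rw [h0] at h1
  exact (sub_eq_zero.mp h1.symm).symm

/-- The fixed algebra is a product of quotients by idempotents. -/
def toQuot : fixed σ →ₐ[B] ((i : Fin n) → B ⧸ Ideal.span {1 - orth σ i i}) :=
  (Pi.algHom B (fun i : Fin n => B ⧸ Ideal.span {1 - orth σ i i}) fun i =>
    (Ideal.Quotient.mkₐ B _).comp (Pi.evalAlgHom B (fun _ : Fin n => B) i)).comp (fixed σ).val

theorem toQuot_injective (hone : ∀ x, σ 1 x = x) (hmul : ∀ g h x, σ (g * h) x = σ g (σ h x)) :
    Function.Injective (toQuot σ) := by
  refine (injective_iff_map_eq_zero _).mpr fun x hx => Subtype.ext ?_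
  change (x : Fin n → B) = 0
  rw [← mul_one (x : Fin n → B), ← sum_orth σ hone, Finset.mul_sum]
  refine Finset.sum_eq_zero fun i _ => ?_
  obtain ⟨a, ha⟩ := Ideal.mem_span_singleton'.mp
    (Ideal.Quotient.eq_zero_iff_mem.mp (congrFun hx i : Ideal.Quotient.mk _ (x.1 i) = 0))
  have he : orth σ i i * orth σ i i = orth σ i i := congrFun (idem_orth σ i) i
  have h1 : (x.1 * orth σ i) * Pi.single i 1 = 0 := by
    ext j
    by_cases h : j = i
    · subst h
      simp only [Pi.mul_apply, Pi.single_eq_same, Pi.zero_apply, mul_one]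
      have ha' : a * (1 - orth σ j j) = x.1 j := ha
      rw [← ha']
      linear_combination (-a) * he
    · simp [h]
  have hfix : ∀ g, σ g (x.1 * orth σ i) = x.1 * orth σ i :=
    (mem_fixed σ).mp (mul_mem x.2 (orth_fixed σ hmul i))
  have h2 : ∀ g, (x.1 * orth σ i) * σ g (Pi.single i 1) = 0 := fun g => by
    rw [← hfix g, ← map_mul, h1, map_zero]
  have h3 : (x.1 * orth σ i) * ∏ g, (1 - σ g (Pi.single i 1)) = x.1 * orth σ i := by
    refine Finset.prod_induction _ (fun t => (x.1 * orth σ i) * t = x.1 * orth σ i)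
      (fun a b ha hb => by rw [← mul_assoc, ha, hb]) (mul_one _) fun g _ => ?_
    rw [mul_sub, mul_one, h2, sub_zero]
  have h4 : orth σ i * orbitIdem σ i = orth σ i := by
    rw [orth, mul_comm, ← mul_assoc, idem_orbit σ i]
  rw [← h4, ← mul_assoc, orbitIdem, mul_sub, mul_one, h3, sub_self]

theorem toQuot_surjective (hmul : ∀ g h x, σ (g * h) x = σ g (σ h x)) :
    Function.Surjective (toQuot σ) := by
  intro y
  choose b hb using fun i => Ideal.Quotient.mk_surjective (y i)
  refine ⟨⟨∑ i, algebraMap B (Fin n → B) (b i) * orth σ i,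
    sum_mem fun i _ => mul_mem (Subalgebra.algebraMap_mem _ _) (orth_fixed σ hmul i)⟩, funext fun j => ?_⟩
  rw [← hb j]
  refine Ideal.Quotient.eq.mpr (Ideal.mem_span_singleton'.mpr
    ⟨(∑ i, algebraMap B (Fin n → B) (b i) * orth σ i) j - b j, ?_⟩)
  have hz : ((∑ i, algebraMap B (Fin n → B) (b i) * orth σ i) j - b j) * orth σ j j = 0 := by
    rw [sub_mul, Finset.sum_apply, Finset.sum_mul, Finset.sum_eq_single j]
    · have he : orth σ j j * orth σ j j = orth σ j j := congrFun (idem_orth σ j) j
      simp only [Pi.mul_apply, Pi.algebraMap_apply, Algebra.algebraMap_self, RingHom.id_apply]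
      rw [mul_assoc, he, sub_self]
    · intro i _ hij
      have := congrFun (orth_mul_orth σ hij) j
      simp only [Pi.mul_apply, Pi.zero_apply] at this ⊢
      rw [mul_assoc, this, mul_zero]
    · simp
  change ((∑ i, algebraMap B (Fin n → B) (b i) * orth σ i) j - b j) * (1 - orth σ j j) = _
  rw [mul_sub, mul_one, hz, sub_zero]
  rfl

theorem fixed_etale (hone : ∀ x, σ 1 x = x) (hmul : ∀ g h x, σ (g * h) x = σ g (σ h x)) :
    Algebra.Etale B (fixed σ) := by
  have : ∀ i : Fin n, Algebra.Etale B (B ⧸ Ideal.span {1 - orth σ i i}) := fun i => by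
    have : IsLocalization.Away (orth σ i i) (B ⧸ Ideal.span {1 - orth σ i i}) :=
      IsLocalization.away_of_isIdempotentElem (congrFun (idem_orth σ i) i) Ideal.mk_ker
        Ideal.Quotient.mk_surjective
    exact Algebra.Etale.of_isLocalizationAway (orth σ i i)
  exact Algebra.Etale.of_equiv
    (AlgEquiv.ofBijective (toQuot σ) ⟨toQuot_injective σ hone hmul, toQuot_surjective σ hmul⟩).symm

end Split

section Tensor

variable {R M A : Type u} [CommRing R] [AddCommGroup M] [Module R M] [Module.Flat R M]
  [AddCommGroup A] [Module R A] {ι : Type u} [Finite ι] (σ : ι → A →ₗ[R] A) (I : Submodule R A)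
  (hI : ∀ x, x ∈ I ↔ ∀ g, σ g x = x)

include hI in
/-- Flat base change commutes with taking fixed points. -/
theorem lTensor_fixed (t : M ⊗[R] A) :
    t ∈ LinearMap.range (I.subtype.lTensor M) ↔ ∀ g, (σ g).lTensor M t = t := by
  classical
  have := Fintype.ofFinite ι
  let d : A →ₗ[R] ι → A := LinearMap.pi fun g => σ g - LinearMap.id
  have hex : Function.Exact I.subtype d := fun x => by
    constructor
    · intro h
      exact ⟨⟨x, (hI x).mpr fun g => sub_eq_zero.mp (congrFun h g)⟩, rfl⟩
    · rintro ⟨y, rfl⟩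
      exact funext fun g => sub_eq_zero.mpr ((hI _).mp y.2 g)
  have hcomp : ∀ g, TensorProduct.piRight R R M (fun _ : ι => A) (d.lTensor M t) g =
      (σ g).lTensor M t - t := fun g => by
    induction t using TensorProduct.induction_on with
    | zero => simp
    | tmul m a => simp [d, TensorProduct.tmul_sub]
    | add s t hs ht =>
      rw [map_add, map_add, Pi.add_apply, hs, ht, map_add]
      abel
  rw [LinearMap.mem_range, ← Set.mem_range, ← Module.Flat.lTensor_exact (M := M) hex t]
  refine ⟨fun h g => ?_, fun h => ?_⟩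
  · have := hcomp g
    rw [h, map_zero, Pi.zero_apply] at this
    exact sub_eq_zero.mp this.symm
  · apply (TensorProduct.piRight R R M fun _ : ι => A).injective
    rw [map_zero]
    exact funext fun g => (hcomp g).trans (sub_eq_zero.mpr (h g))

omit [Finite ι] in
theorem lTensor_subtype_injective : Function.Injective (I.subtype.lTensor M) :=
  Module.Flat.lTensor_preserves_injective_linearMap _ I.injective_subtype

end Tensor

section Descent

variable {R B A G : Type u} [CommRing R] [CommRing B] [Algebra R B] [CommRing A] [Algebra R A]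
  [Group G] [Finite G] {n : ℕ}

/-- Invariants of a finite group on an algebra split by a faithfully flat extension are étale. -/
theorem etale_invariants [Module.FaithfullyFlat R B] (e : B ⊗[R] A ≃ₐ[B] (Fin n → B))
    (σ : G → A →ₐ[R] A) (hone : ∀ x, σ 1 x = x) (hmul : ∀ g h x, σ (g * h) x = σ g (σ h x))
    (I : Subalgebra R A) (hI : ∀ x, x ∈ I ↔ ∀ g, σ g x = x) : Algebra.Etale R I := by
  have := Fintype.ofFinite G
  let τ : G → ((Fin n → B) →ₐ[B] (Fin n → B)) := fun g =>
    e.toAlgHom.comp ((Algebra.TensorProduct.map (AlgHom.id B B) (σ g)).comp e.symm.toAlgHom)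
  have hτ : ∀ g t, τ g (e t) = e (Algebra.TensorProduct.map (AlgHom.id B B) (σ g) t) := fun g t => by
    change e (Algebra.TensorProduct.map (AlgHom.id B B) (σ g) (e.symm (e t))) = _
    rw [e.symm_apply_apply]
  have hmapL : ∀ g t, Algebra.TensorProduct.map (AlgHom.id B B) (σ g) t =
      (σ g).toLinearMap.lTensor B t := fun g t => by
    induction t using TensorProduct.induction_on with
    | zero => simp
    | tmul b a => simp
    | add s t hs ht => rw [map_add, map_add, hs, ht]
  have hone' : ∀ y, τ 1 y = y := fun y => by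
    obtain ⟨t, rfl⟩ := e.surjective y
    rw [hτ, hmapL, show (σ 1).toLinearMap = LinearMap.id from LinearMap.ext hone, LinearMap.lTensor_id]
    rfl
  have hmul' : ∀ g h y, τ (g * h) y = τ g (τ h y) := fun g h y => by
    obtain ⟨t, rfl⟩ := e.surjective y
    rw [hτ, hτ, hτ, hmapL, hmapL, hmapL, show (σ (g * h)).toLinearMap =
      (σ g).toLinearMap ∘ₗ (σ h).toLinearMap from LinearMap.ext (hmul g h), LinearMap.lTensor_comp]
    rfl
  let j : B ⊗[R] I →ₐ[B] (Fin n → B) :=
    e.toAlgHom.comp (Algebra.TensorProduct.map (AlgHom.id B B) I.val)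
  have hj : ∀ t, Algebra.TensorProduct.map (AlgHom.id B B) I.val t =
      (Subalgebra.toSubmodule I).subtype.lTensor B t := fun t => by
    induction t using TensorProduct.induction_on with
    | zero => exact (map_zero _).trans (map_zero ((Subalgebra.toSubmodule I).subtype.lTensor B)).symm
    | tmul b a => rfl
    | add s t hs ht =>
      exact (map_add _ s t).trans ((congrArg₂ (· + ·) hs ht).trans
        (map_add ((Subalgebra.toSubmodule I).subtype.lTensor B) s t).symm)
  have hjinj : Function.Injective j := fun s t h => by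
    have h' := e.injective h
    rw [AlgHom.coe_toRingHom, hj, hj] at h' <;>
    exact lTensor_subtype_injective (M := B) (Subalgebra.toSubmodule I) h'
  have hrange : j.range = fixed τ := by
    ext y
    obtain ⟨t, rfl⟩ := e.surjective y
    rw [mem_fixed, AlgHom.mem_range]
    have key := lTensor_fixed (M := B) (fun g => (σ g).toLinearMap) (Subalgebra.toSubmodule I)
      (fun x => hI x) t
    constructor
    · rintro ⟨s, hs⟩ g
      rw [hτ, hmapL]
      congr 1
      exact key.mp ⟨s, (hj s).symm.trans (e.injective hs)⟩ g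
    · intro h
      obtain ⟨s, hs⟩ := key.mpr fun g => by
        rw [← hmapL]
        exact e.injective ((hτ g t).symm.trans (h g))
      exact ⟨s, congrArg e ((hj s).trans hs)⟩
  have : Algebra.Etale B (fixed τ) := fixed_etale τ hone' hmul'
  have : Algebra.Etale B (B ⊗[R] I) := Algebra.Etale.of_equiv
    ((AlgEquiv.ofInjective j hjinj).trans (Subalgebra.equivOfEq _ _ hrange)).symm
  exact Algebra.Etale.of_etale_tensorProduct_of_faithfullyFlat B

end Descent

section Points

open MvPolynomial

/-- Field-valued points agreeing on the invariants differ by a group element. -/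
theorem exists_smul_eq {R A G Ω : Type u} [CommRing R] [CommRing A] [Algebra R A] [Module.Finite R A]
    [Field Ω] [Group G] [Finite G] (σ : G → A →ₐ[R] A) (hone : ∀ x, σ 1 x = x)
    (hmul : ∀ g h x, σ (g * h) x = σ g (σ h x)) (φ φ' : A →+* Ω)
    (heq : ∀ x, (∀ g, σ g x = x) → φ' x = φ x) : ∃ g, ∀ a, φ' a = φ (σ g a) := by
  classical
  have := Fintype.ofFinite G
  obtain ⟨n, a, ha⟩ := Module.Finite.exists_fin (R := R) (M := A)
  let c : MvPolynomial (Option (Fin n)) A :=
    ∏ g, (X none - ∑ i, X (some i) * C (σ g (a i)))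
  have hc : ∀ h, MvPolynomial.map (σ h).toRingHom c = c := fun h => by
    simp only [c, map_prod, map_sub, map_sum, map_mul, map_X, map_C]
    refine Fintype.prod_equiv (Equiv.mulLeft h) _ _ fun g => ?_
    simp only [Equiv.coe_mulLeft, hmul]
    rfl
  have hmap : MvPolynomial.map φ' c = MvPolynomial.map φ c := by
    refine MvPolynomial.ext _ _ fun m => ?_
    rw [coeff_map, coeff_map]
    refine heq _ fun g => ?_
    exact (MvPolynomial.coeff_map (σ g).toRingHom c m).symm.trans (by rw [hc])
  let Λ : MvPolynomial (Fin n) Ω := ∑ i, X i * C (φ' (a i))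
  let ev : MvPolynomial (Option (Fin n)) Ω →+* MvPolynomial (Fin n) Ω :=
    eval₂Hom C (fun o => Option.elim o Λ X)
  have h0 : ev (MvPolynomial.map φ' c) = 0 := by
    simp only [c, map_prod]
    refine Finset.prod_eq_zero (Finset.mem_univ 1) ?_
    simp [ev, Λ, map_sum, hone]
  rw [hmap] at h0
  simp only [c, map_prod, Finset.prod_eq_zero_iff, Finset.mem_univ, true_and] at h0
  obtain ⟨g, hg⟩ := h0
  have hco : ∀ i, φ' (a i) = φ (σ g (a i)) := fun i => by
    simp only [map_sub, map_sum, map_mul, map_X, map_C, ev, eval₂Hom_X', eval₂Hom_C, Option.elim,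
      Λ, sub_eq_zero] at hg
    have := congrArg (MvPolynomial.eval (Pi.single i (1 : Ω))) hg
    simpa [Pi.single_apply, Finset.sum_ite_eq'] using this
  refine ⟨g, fun x => ?_⟩
  induction (ha.ge (Submodule.mem_top : x ∈ ⊤)) using Submodule.span_induction with
  | mem x hx => obtain ⟨i, rfl⟩ := hx; exact hco i
  | zero => simp
  | add x y _ _ hx hy => rw [map_add, map_add, map_add, hx, hy]
  | smul r x _ hx =>
    rw [Algebra.smul_def, map_mul, map_mul, map_mul, hx, AlgHom.commutes,
      heq _ fun g => (σ g).commutes r]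

end Points

end Groth.InvSplit
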