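import Groth.Agent.SchemeMorphisms.SchFinPairs
import Mathlib.RingTheory.Etale.Pi
import Mathlib.RingTheory.Finiteness.Prod
import Mathlib.LinearAlgebra.Prod
import Mathlib.RingTheory.Smooth.Flat
import Mathlib.RingTheory.Localization.Away.Lemmas
import Mathlib.RingTheory.Flat.EquationalCriterion
import Mathlib.RingTheory.Nakayama

/-!
Constructions in the category of étale covers of a schematic finite space.
-/

universe u

open TensorProduct CategoryTheory

namespace Groth.SchFinAux

open SchFin

variable {X : RSpace.{u}}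

/-- Quasi-coherence of an algebra as a universal property of the restriction maps. -/
theorem qcoh_iff_univ (A : Alg X) :
    A.IsQcoh ↔ ∀ (p q : X.pt) (h : p ≤ q) (T : Type u) [CommRing T] [Algebra (X.ring q) T]
      (g : A.carrier p →+* T), (∀ a, g (algebraMap _ _ a) = algebraMap (X.ring q) T (X.res h a)) →
        ∃! g' : A.carrier q →ₐ[X.ring q] T, ∀ x, g' (A.res h x) = g x := by
  constructor
  · intro hA p q h T _ _ g hg
    letI : Algebra (X.ring p) (X.ring q) := (X.res h).toAlgebra
    letI : Algebra (X.ring p) (A.carrier q) :=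
      ((algebraMap (X.ring q) (A.carrier q)).comp (X.res h)).toAlgebra
    haveI : IsScalarTower (X.ring p) (X.ring q) (A.carrier q) := IsScalarTower.of_algebraMap_eq fun _ => rfl
    letI : Algebra (X.ring p) T := ((algebraMap (X.ring q) T).comp (X.res h)).toAlgebra
    haveI : IsScalarTower (X.ring p) (X.ring q) T := IsScalarTower.of_algebraMap_eq fun _ => rfl
    let ι : A.carrier p →ₐ[X.ring p] A.carrier q := { A.res h with commutes' := A.res_algebraMap h }
    let gR : A.carrier p →ₐ[X.ring p] T := { g with commutes' := hg }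
    let e₀ : X.ring q ⊗[X.ring p] A.carrier p →ₐ[X.ring q] A.carrier q :=
      Algebra.TensorProduct.lift (Algebra.ofId _ _) ι fun _ _ => Commute.all _ _
    have hbij : Function.Bijective e₀ := by
      letI : Module (X.ring p) (A.toMod.carrier q) := Module.compHom _ (X.res h)
      haveI : IsScalarTower (X.ring p) (X.ring q) (A.toMod.carrier q) :=
        IsScalarTower.of_algebraMap_smul fun _ _ => rfl
      let hbc := IsBaseChange.equiv (hA p q h)
      have : (e₀ : _ → A.carrier q) = (hbc : _ → A.carrier q) := by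
        funext t
        induction t using TensorProduct.induction_on with
        | zero => exact (map_zero e₀).trans (map_zero hbc).symm
        | tmul s a =>
          exact (Algebra.TensorProduct.lift_tmul _ _ _ s a).trans
            ((Algebra.smul_def s (A.res h a)).symm.trans (IsBaseChange.equiv_tmul (hA p q h) s a).symm)
        | add t t' ht ht' => exact (map_add e₀ t t').trans ((congrArg₂ (· + ·) ht ht').trans (map_add hbc t t').symm)
      rw [this]
      exact hbc.bijective
    let e := AlgEquiv.ofBijective e₀ hbij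
    let G : X.ring q ⊗[X.ring p] A.carrier p →ₐ[X.ring q] T :=
      Algebra.TensorProduct.lift (Algebra.ofId _ _) gR fun _ _ => Commute.all _ _
    have he : ∀ x, e (1 ⊗ₜ x) = A.res h x := fun x => by
      change e₀ (1 ⊗ₜ x) = _
      rw [Algebra.TensorProduct.lift_tmul, map_one, one_mul]; rfl
    refine ⟨G.comp e.symm.toAlgHom, fun x => ?_, fun g' hg' => ?_⟩
    · change G (e.symm (A.res h x)) = g x
      rw [← he, e.symm_apply_apply, Algebra.TensorProduct.lift_tmul, map_one, one_mul]; rfl
    · have : g'.comp e.toAlgHom = G := by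
        refine Algebra.TensorProduct.ext (AlgHom.ext fun s => (AlgHom.commutes _ s).trans (AlgHom.commutes _ s).symm) ?_
        ext x
        change g' (e (1 ⊗ₜ x)) = G (1 ⊗ₜ x)
        rw [he, hg', Algebra.TensorProduct.lift_tmul, map_one, one_mul]; rfl
      rw [← this]
      ext x
      change g' x = g' (e (e.symm x))
      rw [e.apply_symm_apply]
  · intro hA p q h
    letI : Algebra (X.ring p) (X.ring q) := (X.res h).toAlgebra
    letI : Algebra (X.ring p) (A.carrier q) :=
      ((algebraMap (X.ring q) (A.carrier q)).comp (X.res h)).toAlgebra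
    haveI : IsScalarTower (X.ring p) (X.ring q) (A.carrier q) := IsScalarTower.of_algebraMap_eq fun _ => rfl
    let ι : A.carrier p →ₐ[X.ring p] A.carrier q := { A.res h with commutes' := A.res_algebraMap h }
    let e₀ : X.ring q ⊗[X.ring p] A.carrier p →ₐ[X.ring q] A.carrier q :=
      Algebra.TensorProduct.lift (Algebra.ofId _ _) ι fun _ _ => Commute.all _ _
    obtain ⟨i, hi, -⟩ := hA p q h (X.ring q ⊗[X.ring p] A.carrier p)
      (Algebra.TensorProduct.includeRight : A.carrier p →ₐ[X.ring p] X.ring q ⊗[X.ring p] A.carrier p).toRingHom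
      fun a => ((Algebra.TensorProduct.includeRight :
        A.carrier p →ₐ[X.ring p] X.ring q ⊗[X.ring p] A.carrier p).commutes a).trans
          (IsScalarTower.algebraMap_apply (X.ring p) (X.ring q) _ a)
    have h1 : e₀.comp i = AlgHom.id _ _ := by
      obtain ⟨u, -, hu⟩ := hA p q h (A.carrier q) (A.res h) (A.res_algebraMap h)
      refine (hu _ fun x => ?_).trans (hu _ fun x => rfl).symm
      change e₀ (i (A.res h x)) = _
      rw [hi]
      exact (Algebra.TensorProduct.lift_tmul _ _ _ 1 x).trans (by rw [map_one, one_mul]; rfl)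
    have h2 : i.comp e₀ = AlgHom.id _ _ := by
      refine Algebra.TensorProduct.ext (AlgHom.ext fun s => (AlgHom.commutes _ s).trans (AlgHom.commutes _ s).symm) ?_
      ext x
      change i (e₀ (1 ⊗ₜ x)) = 1 ⊗ₜ x
      rw [Algebra.TensorProduct.lift_tmul, map_one, one_mul]
      exact hi x
    let e := AlgEquiv.ofAlgHom e₀ i h1 h2
    letI : Module (X.ring p) (A.toMod.carrier q) := Module.compHom _ (X.res h)
    haveI : IsScalarTower (X.ring p) (X.ring q) (A.toMod.carrier q) :=
      IsScalarTower.of_algebraMap_smul fun _ _ => rfl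
    refine IsBaseChange.of_equiv
      (show X.ring q ⊗[X.ring p] A.toMod.carrier p ≃ₗ[X.ring q] A.toMod.carrier q from e.toLinearEquiv)
      fun x => ?_
    change e₀ ((1 : X.ring q) ⊗ₜ[X.ring p] (show A.carrier p from x)) = A.res h x
    rw [Algebra.TensorProduct.lift_tmul, map_one, one_mul]
    rfl

theorem univ_unique {A : Alg X} (hA : A.IsQcoh) {p q : X.pt} (h : p ≤ q) {T : Type u} [CommRing T]
    [Algebra (X.ring q) T] {g₁ g₂ : A.carrier q →ₐ[X.ring q] T}
    (hg : ∀ x, g₁ (A.res h x) = g₂ (A.res h x)) : g₁ = g₂ :=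
  ((qcoh_iff_univ A).mp hA p q h T (g₂.toRingHom.comp (A.res h)) fun a => by
    change g₂ (A.res h (algebraMap _ _ a)) = _
    rw [A.res_algebraMap, AlgHom.commutes]).unique hg fun _ => rfl

theorem feHom_ext {A B : FEt X} {f g : A ⟶ B} (h : ∀ p x, f.hom.app p x = g.hom.app p x) : f = g :=
  InducedCategory.hom_ext (Alg.hom_ext _ _ fun p => AlgHom.ext (h p))

/-- The family with two members. -/
def pairFam (A B : Type u) : Bool → Type u
  | true => A
  | false => B

instance (A B : Type u) [CommRing A] [CommRing B] : ∀ b, CommRing (pairFam A B b)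
  | true => ‹CommRing A›
  | false => ‹CommRing B›

instance (R A B : Type u) [CommRing R] [CommRing A] [CommRing B] [Algebra R A] [Algebra R B] :
    ∀ b, Algebra R (pairFam A B b)
  | true => ‹Algebra R A›
  | false => ‹Algebra R B›

theorem etale_prod (R A B : Type u) [CommRing R] [CommRing A] [CommRing B] [Algebra R A] [Algebra R B]
    [Algebra.Etale R A] [Algebra.Etale R B] : Algebra.Etale R (A × B) := by
  have : ∀ b, Algebra.Etale R (pairFam A B b)
    | true => ‹Algebra.Etale R A›
    | false => ‹Algebra.Etale R B›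
  exact Algebra.Etale.of_equiv
    ({ toFun := fun f => (f true, f false)
       invFun := fun x b => match b with
         | true => x.1
         | false => x.2
       left_inv := fun f => funext fun b => by cases b <;> rfl
       right_inv := fun _ => rfl
       map_mul' := fun _ _ => rfl
       map_add' := fun _ _ => rfl
       commutes' := fun _ => rfl } : ((b : Bool) → pairFam A B b) ≃ₐ[R] A × B)

section Prod

/-- The product of two algebras. -/
def prodAlg (A B : Alg X) : Alg X where
  carrier p := A.carrier p × B.carrier p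
  res h := RingHom.prodMap (A.res h) (B.res h)
  res_algebraMap h a := Prod.ext (A.res_algebraMap h a) (B.res_algebraMap h a)
  res_self p b := Prod.ext (A.res_self p b.1) (B.res_self p b.2)
  res_comp h h' b := Prod.ext (A.res_comp h h' b.1) (B.res_comp h h' b.2)

theorem prodAlg_qcoh {A B : Alg X} (hA : A.IsQcoh) (hB : B.IsQcoh) : (prodAlg A B).IsQcoh := by
  intro p q h
  refine bc_mk (fun Q _ _ ψ => ?_) (fun Q _ _ L₁ L₂ hL => ?_)
  · let ψ' : (A.toMod.carrier p × B.toMod.carrier p) →ₛₗ[X.res h] Q := ψ
    obtain ⟨L₁, hL₁⟩ := bc_exists_lift (hA p q h)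
      (ψ'.comp (LinearMap.inl (X.ring p) (A.toMod.carrier p) (B.toMod.carrier p)))
    obtain ⟨L₂, hL₂⟩ := bc_exists_lift (hB p q h)
      (ψ'.comp (LinearMap.inr (X.ring p) (A.toMod.carrier p) (B.toMod.carrier p)))
    refine ⟨(show (prodAlg A B).toMod.carrier q →ₗ[X.ring q] Q from LinearMap.coprod L₁ L₂),
      fun m => ?_⟩
    change L₁ (A.toMod.res h m.1) + L₂ (B.toMod.res h m.2) = ψ' m
    rw [hL₁, hL₂, LinearMap.comp_apply, LinearMap.comp_apply, ← map_add]
    exact congrArg ψ' (Prod.ext (add_zero _) (zero_add _))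
  · let K₁ : (A.toMod.carrier q × B.toMod.carrier q) →ₗ[X.ring q] Q := L₁
    let K₂ : (A.toMod.carrier q × B.toMod.carrier q) →ₗ[X.ring q] Q := L₂
    have hK : ∀ m : A.toMod.carrier p × B.toMod.carrier p,
        K₁ (A.toMod.res h m.1, B.toMod.res h m.2) = K₂ (A.toMod.res h m.1, B.toMod.res h m.2) :=
      fun m => hL m
    refine (LinearMap.prod_ext ?_ ?_ : K₁ = K₂)
    · refine bc_ext (hA p q h) fun a => ?_
      have := hK (a, 0)
      rw [map_zero] at this
      exact this
    · refine bc_ext (hB p q h) fun a => ?_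
      have := hK (0, a)
      rw [map_zero] at this
      exact this

theorem prodAlg_etCover {A B : Alg X} (hA : A.IsEtCover) (hB : B.IsEtCover) :
    (prodAlg A B).IsEtCover := by
  refine ⟨prodAlg_qcoh hA.1 hB.1, fun p => ?_⟩
  have := (hA.2 p).1; have := (hA.2 p).2; have := (hB.2 p).1; have := (hB.2 p).2
  exact ⟨inferInstanceAs (Module.Finite (X.ring p) (A.carrier p × B.carrier p)),
    etale_prod (X.ring p) (A.carrier p) (B.carrier p)⟩

/-- The product of two étale covers. -/
def prodFEt (A B : FEt X) : FEt X := ⟨prodAlg A.obj B.obj, prodAlg_etCover A.property B.property⟩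

def prodFst (A B : FEt X) : prodFEt A B ⟶ A :=
  ObjectProperty.homMk ⟨fun p => AlgHom.fst (X.ring p) (A.obj.carrier p) (B.obj.carrier p), fun _ _ => rfl⟩

def prodSnd (A B : FEt X) : prodFEt A B ⟶ B :=
  ObjectProperty.homMk ⟨fun p => AlgHom.snd (X.ring p) (A.obj.carrier p) (B.obj.carrier p), fun _ _ => rfl⟩

def prodPair {T A B : FEt X} (f : T ⟶ A) (g : T ⟶ B) : T ⟶ prodFEt A B :=
  ObjectProperty.homMk ⟨fun p => (f.hom.app p).prod (g.hom.app p),
    fun h b => Prod.ext (f.hom.compat h b) (g.hom.compat h b)⟩

/-- The product cone is a limit. -/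
def prodIsLimit (A B : FEt X) : Limits.IsLimit (Limits.BinaryFan.mk (prodFst A B) (prodSnd A B)) :=
  Limits.BinaryFan.IsLimit.mk _ (fun f g => prodPair f g) (fun f g => feHom_ext fun _ _ => rfl)
    (fun f g => feHom_ext fun _ _ => rfl) fun f g m hf hg => feHom_ext fun p x => by
      subst hf; subst hg; rfl

/-- The zero algebra. -/
def zeroAlg : Alg X where
  carrier _ := PUnit
  res _ := RingHom.id _
  res_algebraMap _ _ := rfl
  res_self _ _ := rfl
  res_comp _ _ _ := rfl

theorem zeroAlg_etCover : (zeroAlg : Alg X).IsEtCover := by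
  refine ⟨(qcoh_iff_univ _).mpr fun p q h T _ _ g hg => ?_, fun p => ⟨?_, ?_⟩⟩
  · have : Subsingleton T := subsingleton_of_zero_eq_one
      (((map_zero g).symm.trans (congrArg g (Subsingleton.elim (α := PUnit) _ _))).trans (map_one g))
    exact ⟨{ toFun := fun _ => 0, map_one' := Subsingleton.elim _ _, map_mul' := fun _ _ => Subsingleton.elim _ _,
             map_zero' := rfl, map_add' := fun _ _ => Subsingleton.elim _ _,
             commutes' := fun _ => Subsingleton.elim _ _ },
      fun _ => Subsingleton.elim _ _, fun _ _ => AlgHom.ext fun _ => Subsingleton.elim _ _⟩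
  · exact inferInstanceAs (Module.Finite (X.ring p) PUnit)
  · exact Algebra.Etale.of_equiv
      ({ toFun := fun _ => PUnit.unit, invFun := fun _ => fun i => i.elim0,
         left_inv := fun _ => funext fun i => i.elim0, right_inv := fun _ => rfl,
         map_mul' := fun _ _ => rfl, map_add' := fun _ _ => rfl, commutes' := fun _ => rfl } :
        (Fin 0 → X.ring p) ≃ₐ[X.ring p] (zeroAlg : Alg X).carrier p)

end Prod

section Str

theorem str_etCover : (Alg.str X).IsEtCover := by
  refine ⟨(qcoh_iff_univ _).mpr fun p q h T _ _ g hg => ⟨Algebra.ofId (X.ring q) T, fun x => (hg x).symm,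
    fun g' _ => AlgHom.ext fun s => g'.commutes s⟩, fun p => ⟨?_, ?_⟩⟩
  · exact inferInstanceAs (Module.Finite (X.ring p) (X.ring p))
  · exact inferInstanceAs (Algebra.Etale (X.ring p) (X.ring p))

/-- The unit morphism from the structure algebra. -/
def strTo (A : Alg X) : Alg.str X ⟶ A :=
  ⟨fun p => Algebra.ofId (X.ring p) (A.carrier p), fun h a => A.res_algebraMap h a⟩

theorem strTo_unique {A : Alg X} (f : Alg.str X ⟶ A) : f = strTo A :=
  Alg.hom_ext _ _ fun p => AlgHom.ext fun a => (f.app p).commutes a

end Str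

section Quo

variable {A : Alg X} (e : ∀ p, A.carrier p) (hc : ∀ {p q : X.pt} (h : p ≤ q), A.res h (e p) = e q)

/-- The quotient by a compatible family of idempotents. -/
def quo : Alg X where
  carrier p := A.carrier p ⧸ Ideal.span {e p}
  res {p q} h := Ideal.Quotient.lift _ ((Ideal.Quotient.mk _).comp (A.res h)) fun a ha => by
    obtain ⟨b, rfl⟩ := Ideal.mem_span_singleton'.mp ha
    exact Ideal.Quotient.eq_zero_iff_mem.mpr
      (Ideal.mem_span_singleton'.mpr ⟨A.res h b, by rw [← hc h, ← map_mul]⟩)
  res_algebraMap {p q} h a := congrArg (Ideal.Quotient.mk _) (A.res_algebraMap h a)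
  res_self p b := by
    obtain ⟨b, rfl⟩ := Ideal.Quotient.mk_surjective b
    exact congrArg (Ideal.Quotient.mk _) (A.res_self p b)
  res_comp h h' b := by
    obtain ⟨b, rfl⟩ := Ideal.Quotient.mk_surjective b
    exact congrArg (Ideal.Quotient.mk _) (A.res_comp h h' b)

/-- The projection to the quotient. -/
def quoMk : A ⟶ quo e hc := ⟨fun p => Ideal.Quotient.mkₐ (X.ring p) _, fun _ _ => rfl⟩

theorem quoMk_surjective (p : X.pt) : Function.Surjective ((quoMk e hc).app p) :=
  Ideal.Quotient.mk_surjective

theorem quoMk_eq_zero_iff (p : X.pt) (x : A.carrier p) :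
    (quoMk e hc).app p x = 0 ↔ x ∈ Ideal.span {e p} :=
  Ideal.Quotient.eq_zero_iff_mem

theorem quo_etCover (hA : A.IsEtCover) (he : ∀ p, IsIdempotentElem (e p)) :
    (quo e hc).IsEtCover := by
  refine ⟨(qcoh_iff_univ _).mpr fun p q h T _ _ g hg => ?_, fun p => ⟨?_, ?_⟩⟩
  · obtain ⟨g', hg', huniq⟩ := (qcoh_iff_univ A).mp hA.1 p q h T
      (g.comp (Ideal.Quotient.mk _)) hg
    have h0 : g' (e q) = 0 := by
      rw [← hc h, hg']
      exact (congrArg g (Ideal.Quotient.eq_zero_iff_mem.mpr (Ideal.mem_span_singleton_self _))).trans (map_zero g)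
    refine ⟨Ideal.Quotient.liftₐ _ g' fun a ha => ?_, fun x => ?_, fun g'' hg'' => ?_⟩
    · obtain ⟨b, rfl⟩ := Ideal.mem_span_singleton'.mp ha
      rw [map_mul, h0, mul_zero]
    · obtain ⟨x, rfl⟩ := Ideal.Quotient.mk_surjective x
      exact hg' x
    · refine AlgHom.ext fun x => ?_
      obtain ⟨x, rfl⟩ := Ideal.Quotient.mk_surjective x
      exact DFunLike.congr_fun (huniq (g''.comp (Ideal.Quotient.mkₐ (X.ring q) _)) fun y =>
        hg'' (Ideal.Quotient.mk _ y)) x
  · have := (hA.2 p).1
    exact Module.Finite.of_surjective (Ideal.Quotient.mkₐ (X.ring p) (Ideal.span {e p})).toLinearMap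
      Ideal.Quotient.mk_surjective
  · have := (hA.2 p).2
    have : IsLocalization.Away (1 - e p) (A.carrier p ⧸ Ideal.span {e p}) :=
      IsLocalization.away_of_isIdempotentElem (he p).one_sub
        (by rw [sub_sub_cancel]; exact Ideal.mk_ker) Ideal.Quotient.mk_surjective
    have := Algebra.Etale.of_isLocalizationAway (A := A.carrier p ⧸ Ideal.span {e p}) (1 - e p)
    exact Algebra.Etale.comp (X.ring p) (A.carrier p) (A.carrier p ⧸ Ideal.span {e p})

/-- Morphisms killing the idempotents factor through the quotient. -/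
def quoLift {B : Alg X} (f : A ⟶ B) (hf : ∀ p, f.app p (e p) = 0) : quo e hc ⟶ B :=
  ⟨fun p => Ideal.Quotient.liftₐ _ (f.app p) fun a ha => by
      obtain ⟨b, rfl⟩ := Ideal.mem_span_singleton'.mp ha
      rw [map_mul, hf, mul_zero],
    fun h b => by
      obtain ⟨b, rfl⟩ := Ideal.Quotient.mk_surjective b
      exact f.compat h b⟩

end Quo

theorem idem_span_inj {R : Type*} [CommRing R] {a b : R} (ha : IsIdempotentElem a)
    (hb : IsIdempotentElem b) (h : Ideal.span {a} = Ideal.span ({b} : Set R)) : a = b := by
  obtain ⟨c, hc⟩ := Ideal.mem_span_singleton'.mp (h ▸ Ideal.mem_span_singleton_self a)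
  obtain ⟨d, hd⟩ := Ideal.mem_span_singleton'.mp (h.symm ▸ Ideal.mem_span_singleton_self b)
  calc a = c * b := hc.symm
    _ = c * b * b := by rw [mul_assoc, hb]
    _ = a * b := by rw [hc]
    _ = d * a * a := by rw [hd, mul_comm]
    _ = b := by rw [mul_assoc, ha, hd]

/-- The kernel of a finite projective algebra is generated by an idempotent. -/
theorem exists_ker_idem {A B : Type u} [CommRing A] [CommRing B] [Algebra A B] [Module.Finite A B]
    [Module.Projective A B] :
    ∃ t : A, IsIdempotentElem t ∧ RingHom.ker (algebraMap A B) = Ideal.span {t} := by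
  obtain ⟨n, π, hπ⟩ := Module.Finite.exists_fin' A B
  obtain ⟨σ, hσ⟩ := Module.projective_lifting_property π LinearMap.id hπ
  let τ : Ideal A := Ideal.span (Set.range fun x : B × Fin n => σ x.1 x.2)
  have hKτ : ∀ k ∈ RingHom.ker (algebraMap A B), ∀ t ∈ τ, k * t = 0 := by
    intro k hk t ht
    induction ht using Submodule.span_induction with
    | mem t ht =>
      obtain ⟨⟨b, i⟩, rfl⟩ := ht
      have h0 : σ (k • b) i = 0 := by
        rw [Algebra.smul_def, RingHom.mem_ker.mp hk, zero_mul, map_zero]; rfl
      rw [map_smul, Pi.smul_apply, smul_eq_mul] at h0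
      exact h0
    | zero => exact mul_zero _
    | add a b _ _ ha hb => rw [mul_add, ha, hb, add_zero]
    | smul c a _ ha => rw [smul_eq_mul, mul_left_comm, ha, mul_zero]
  have htop : (⊤ : Submodule A B) ≤ τ • ⊤ := by
    intro b _
    have hb : π (σ b) = b := LinearMap.congr_fun hσ b
    rw [← hb, pi_eq_sum_univ (σ b), map_sum]
    refine Submodule.sum_mem _ fun i _ => ?_
    rw [map_smul]
    exact Submodule.smul_mem_smul (Submodule.subset_span ⟨(b, i), rfl⟩) trivial
  obtain ⟨r, hr1, hr⟩ := Submodule.exists_sub_one_mem_and_smul_eq_zero_of_fg_of_le_smul τ ⊤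
    Module.Finite.fg_top htop
  have hrK : r ∈ RingHom.ker (algebraMap A B) := by
    rw [RingHom.mem_ker, Algebra.algebraMap_eq_smul_one]
    exact hr 1 trivial
  refine ⟨r, ?_, le_antisymm (fun k hk => Ideal.mem_span_singleton'.mpr ⟨k, ?_⟩)
    ((Ideal.span_singleton_le_iff_mem _).mpr hrK)⟩
  · have h := hKτ r hrK (r - 1) hr1
    rwa [mul_sub, mul_one, sub_eq_zero] at h
  · have h := hKτ k hk (r - 1) hr1
    rwa [mul_sub, mul_one, sub_eq_zero] at h

variable (hX : X.IsSchematic)
include hX

/-- The kernel of a morphism of étale covers is cut out by compatible idempotents. -/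
theorem exists_kerIdem {A B : Alg X} (hA : A.IsEtCover) (hB : B.IsEtCover) (f : A ⟶ B) :
    ∃ e : ∀ p, A.carrier p, (∀ p, IsIdempotentElem (e p)) ∧
      (∀ {p q : X.pt} (h : p ≤ q), A.res h (e p) = e q) ∧
      ∀ p x, f.app p x = 0 ↔ x ∈ Ideal.span {e p} := by
  have key : ∀ p, ∃ t : A.carrier p, IsIdempotentElem t ∧
      ∀ x, f.app p x = 0 ↔ x ∈ Ideal.span {t} := by
    intro p
    letI : Algebra (A.carrier p) (B.carrier p) := (f.app p).toRingHom.toAlgebra
    haveI : IsScalarTower (X.ring p) (A.carrier p) (B.carrier p) :=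
      IsScalarTower.of_algebraMap_eq fun a => ((f.app p).commutes a).symm
    have := (hA.2 p).1; have := (hA.2 p).2; have := (hB.2 p).1; have := (hB.2 p).2
    have := noetherian hX p
    have : IsNoetherianRing (A.carrier p) :=
      isNoetherianRing_iff.mpr (isNoetherian_of_tower (X.ring p) inferInstance)
    have : Algebra.Etale (A.carrier p) (B.carrier p) :=
      Algebra.Etale.of_restrictScalars (X.ring p) (A.carrier p) (B.carrier p)
    have : Module.Finite (A.carrier p) (B.carrier p) :=
      Module.Finite.of_restrictScalars_finite (X.ring p) _ _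
    have : Module.FinitePresentation (A.carrier p) (B.carrier p) :=
      Module.finitePresentation_of_finite _ _
    have : Module.Projective (A.carrier p) (B.carrier p) := Module.Flat.projective_of_finitePresentation
    obtain ⟨t, ht, hker⟩ := exists_ker_idem (A := A.carrier p) (B := B.carrier p)
    exact ⟨t, ht, fun x => by rw [← hker]; exact Iff.rfl⟩
  choose e he hker using key
  refine ⟨e, he, fun {p q} h => ?_, hker⟩
  refine idem_span_inj ((he p).map (A.res h)) (he q) (le_antisymm ?_ ?_)
  · rw [Ideal.span_singleton_le_iff_mem, ← hker, ← f.compat,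
      (hker p (e p)).mpr (Ideal.mem_span_singleton_self _), map_zero]
  · rw [Ideal.span_singleton_le_iff_mem]
    letI : Algebra (X.ring p) (X.ring q) := (X.res h).toAlgebra
    letI : Module (X.ring p) (A.toMod.carrier q) := Module.compHom _ (X.res h)
    haveI : IsScalarTower (X.ring p) (X.ring q) (A.toMod.carrier q) :=
      IsScalarTower.of_algebraMap_smul fun _ _ => rfl
    letI : Module (X.ring p) (B.toMod.carrier q) := Module.compHom _ (X.res h)
    haveI : IsScalarTower (X.ring p) (X.ring q) (B.toMod.carrier q) :=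
      IsScalarTower.of_algebraMap_smul fun _ _ => rfl
    have : Module.Flat (X.ring p) (X.ring q) := flat_res hX h
    let μ : A.carrier p →ₗ[X.ring p] A.carrier p := LinearMap.mulLeft (X.ring p) (e p)
    have hex : Function.Exact μ (f.app p).toLinearMap := fun x => by
      change f.app p x = 0 ↔ x ∈ Set.range μ
      rw [hker, Ideal.mem_span_singleton']
      exact ⟨fun ⟨a, ha⟩ => ⟨a, (mul_comm _ _).trans ha⟩, fun ⟨a, ha⟩ => ⟨a, (mul_comm _ _).trans ha⟩⟩
    let eA := IsBaseChange.equiv (hA.1 p q h)
    let eB := IsBaseChange.equiv (hB.1 p q h)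
    have hnat : ∀ t, eB ((f.app p).toLinearMap.lTensor (X.ring q) t) = f.app q (eA t) := fun t => by
      induction t using TensorProduct.induction_on with
      | zero =>
        exact ((congrArg eB (map_zero ((f.app p).toLinearMap.lTensor (X.ring q)))).trans (map_zero eB)).trans
          ((congrArg (f.app q) (map_zero eA)).trans (map_zero _)).symm
      | tmul s a =>
        change eB (s ⊗ₜ f.app p a) = _
        rw [IsBaseChange.equiv_tmul]
        change s • B.res h (f.app p a) = f.app q (eA (s ⊗ₜ a))
        rw [f.compat, IsBaseChange.equiv_tmul]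
        exact (map_smul (f.app q) s (A.res h a)).symm
      | add t t' ht ht' =>
        exact ((congrArg eB (map_add ((f.app p).toLinearMap.lTensor (X.ring q)) t t')).trans
          (map_add eB _ _)).trans ((congrArg₂ (· + ·) ht ht').trans
          ((congrArg (f.app q) (map_add eA t t')).trans (map_add _ _ _)).symm)
    have hmul : ∀ u, eA (μ.lTensor (X.ring q) u) = A.res h (e p) * (show A.carrier q from eA u) :=
      fun u => by
      induction u using TensorProduct.induction_on with
      | zero =>
        exact ((congrArg eA (map_zero (μ.lTensor (X.ring q)))).trans (map_zero eA)).trans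
          ((congrArg (A.res h (e p) * ·) (map_zero eA)).trans (mul_zero _)).symm
      | tmul s a =>
        refine (IsBaseChange.equiv_tmul (hA.1 p q h) s (show A.toMod.carrier p from e p * a)).trans ?_
        refine Eq.trans ?_ (congrArg (fun z : A.carrier q => A.res h (e p) * z)
          (IsBaseChange.equiv_tmul (hA.1 p q h) s (show A.toMod.carrier p from a))).symm
        change s • A.res h (e p * a) = A.res h (e p) * (s • A.res h a)
        rw [map_mul, mul_smul_comm]
      | add t t' ht ht' =>
        exact ((congrArg eA (map_add (μ.lTensor (X.ring q)) t t')).trans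
          (map_add eA _ _)).trans ((congrArg₂ (· + ·) ht ht').trans
          (((congrArg (fun z : A.carrier q => A.res h (e p) * z) (map_add eA t t')).trans
            (mul_add (A.res h (e p)) (show A.carrier q from eA t) (show A.carrier q from eA t'))).symm))
    obtain ⟨t, ht⟩ := eA.surjective (show A.toMod.carrier q from e q)
    have h0 : (f.app p).toLinearMap.lTensor (X.ring q) t = 0 := by
      apply eB.injective
      rw [hnat, ht]
      exact ((hker q (e q)).mpr (Ideal.mem_span_singleton_self _)).trans (map_zero eB).symm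
    obtain ⟨u, rfl⟩ := (Module.Flat.lTensor_exact (M := X.ring q) hex t).mp h0
    exact Ideal.mem_span_singleton'.mpr ⟨_, ((mul_comm _ _).trans (hmul u).symm).trans ht⟩

end Groth.SchFinAux
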