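import Groth.Prelude.Def_SchFin2
import Mathlib.RingTheory.Localization.AtPrime.Basic
import Mathlib.RingTheory.Flat.Localization

/-!
Basic facts on schematic finite spaces: base change along ring maps, cohomology in degree zero,
epimorphic restrictions, common points of pairs.
-/

universe u

open TensorProduct

namespace Groth.SchFinAux

open SchFin

section BC

variable {R S : Type u} [CommRing R] [CommRing S] {g : R →+* S} {M N : Type u}
  [AddCommGroup M] [AddCommGroup N] [Module R M] [Module S N] {f : M →ₛₗ[g] N}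

theorem bc_exists_lift (hf : IsBCAlong g f) {Q : Type u} [AddCommGroup Q] [Module S Q]
    (ψ : M →ₛₗ[g] Q) : ∃ L : N →ₗ[S] Q, ∀ m, L (f m) = ψ m := by
  letI : Algebra R S := g.toAlgebra
  letI : Module R N := Module.compHom N g
  haveI : IsScalarTower R S N := IsScalarTower.of_algebraMap_smul fun _ _ => rfl
  letI : Module R Q := Module.compHom Q g
  haveI : IsScalarTower R S Q := IsScalarTower.of_algebraMap_smul fun _ _ => rfl
  let ψ' : M →ₗ[R] Q := { toFun := ψ, map_add' := ψ.map_add, map_smul' := ψ.map_smulₛₗ }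
  exact ⟨IsBaseChange.lift hf ψ', fun m => IsBaseChange.lift_eq hf ψ' m⟩

theorem bc_ext (hf : IsBCAlong g f) {Q : Type u} [AddCommGroup Q] [Module S Q]
    {L₁ L₂ : N →ₗ[S] Q} (h : ∀ m, L₁ (f m) = L₂ (f m)) : L₁ = L₂ := by
  letI : Algebra R S := g.toAlgebra
  letI : Module R N := Module.compHom N g
  haveI : IsScalarTower R S N := IsScalarTower.of_algebraMap_smul fun _ _ => rfl
  exact IsBaseChange.algHom_ext hf L₁ L₂ h

theorem bc_mk
    (h₁ : ∀ (Q : Type u) [AddCommGroup Q] [Module S Q] (ψ : M →ₛₗ[g] Q),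
      ∃ L : N →ₗ[S] Q, ∀ m, L (f m) = ψ m)
    (h₂ : ∀ (Q : Type u) [AddCommGroup Q] [Module S Q] (L₁ L₂ : N →ₗ[S] Q),
      (∀ m, L₁ (f m) = L₂ (f m)) → L₁ = L₂) : IsBCAlong g f := by
  letI : Algebra R S := g.toAlgebra
  letI : Module R N := Module.compHom N g
  haveI : IsScalarTower R S N := IsScalarTower.of_algebraMap_smul fun _ _ => rfl
  let fl : M →ₗ[R] N := { toFun := f, map_add' := f.map_add, map_smul' := f.map_smulₛₗ }
  let mk' : M →ₛₗ[g] S ⊗[R] M :=
    { toFun := fun m => 1 ⊗ₜ m
      map_add' := fun a b => TensorProduct.tmul_add _ _ _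
      map_smul' := fun r m => by
        rw [TensorProduct.tmul_smul, ← IsScalarTower.algebraMap_smul S r]
        rfl }
  obtain ⟨L, hL⟩ := h₁ (S ⊗[R] M) mk'
  change IsBaseChange S fl
  refine IsBaseChange.of_equiv (LinearEquiv.ofLinearMap
    (TensorProduct.AlgebraTensorModule.lift ((LinearMap.toSpanSingleton S (M →ₗ[R] N) fl))) L ?_ ?_)
    fun x => ?_
  · refine h₂ N _ _ fun m => ?_
    rw [LinearMap.comp_apply, hL, LinearMap.id_apply]
    exact (one_smul S (f m) :)
  · ext m
    change L ((1 : S) • f m) = 1 ⊗ₜ[R] m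
    rw [one_smul, hL]
    rfl
  · exact (one_smul S (f x) :)

theorem bc_flat (hf : IsBCAlong g f) [Module.Flat R M] : Module.Flat S N := by
  letI : Algebra R S := g.toAlgebra
  letI : Module R N := Module.compHom N g
  haveI : IsScalarTower R S N := IsScalarTower.of_algebraMap_smul fun _ _ => rfl
  exact Module.Flat.of_linearEquiv (IsBaseChange.equiv hf).symm

end BC

variable {X : RSpace.{u}}

section H0

variable {U : Set X.pt} {R : Type u} [CommRing R] (φ : Coef X U R) (M : OMod X)

/-- The chain with one point. -/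
def single (q : U) : Chain U 0 :=
  OrderEmbedding.ofStrictMono (fun _ => q) fun i j hij => absurd hij (by
    rw [Fin.lt_def]; have := i.isLt; have := j.isLt; omega)

theorem eq_single (σ : Chain U 0) : σ = single (σ (Fin.last 0)) := by
  refine RelEmbedding.ext fun i => ?_
  rw [show i = Fin.last 0 from Fin.ext (by have := i.isLt; simp only [Fin.val_last]; omega)]
  rfl

/-- The value of a class of degree zero at a point. -/
def ev (q : U) : H φ M 0 →ₛₗ[φ.map q] M.carrier q.1 :=
  Submodule.liftQ _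
    { toFun := fun c : cocycles φ M 0 => c.1 (single q)
      map_add' := fun _ _ => rfl
      map_smul' := fun _ _ => rfl }
    fun c hc => congrFun ((Submodule.mem_bot R).mp hc : c.1 = 0) (single q)

variable {φ M}

theorem ev_mk (q : U) (c : cocycles φ M 0) : ev φ M q (H.mk φ M 0 c) = c.1 (single q) := rfl

theorem res_apply_chain (c : Cochain φ M 0) (σ : Chain U 0) (q : U) (hq : σ (Fin.last 0) = q)
    {r : X.pt} (h : (σ (Fin.last 0)).1 ≤ r) :
    M.res h (c σ) = M.res (show q.1 ≤ r from hq ▸ h) (c (single q)) := by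
  obtain ⟨q', rfl⟩ : ∃ q', σ = single q' := ⟨_, eq_single σ⟩
  subst hq
  rfl

theorem cocycle_res (c : cocycles φ M 0) (q q' : U) (h : q.1 ≤ q'.1) :
    M.res h (c.1 (single q)) = c.1 (single q') := by
  rcases eq_or_lt_of_le h with heq | hlt
  · obtain rfl : q = q' := Subtype.ext heq
    exact M.res_self _ _
  · let τ : Chain U 1 := OrderEmbedding.ofStrictMono ![q, q'] (by
      intro i j hij
      fin_cases i <;> fin_cases j <;> first | exact absurd hij (lt_irrefl _) | exact hlt | exact absurd hij (by decide))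
    have h0 : (diff φ M 0 c.1) τ = 0 := congrFun (show diff φ M 0 c.1 = 0 from c.2) τ
    change (∑ j : Fin 2, ((-1 : ℤ) ^ (j : ℕ)) • c.1.faceVal τ j) = 0 at h0
    rw [Fin.sum_univ_two] at h0
    simp only [Fin.val_zero, pow_zero, one_smul, Fin.val_one, pow_one, neg_smul,
      ← sub_eq_add_neg, sub_eq_zero] at h0
    have e0 : c.1.faceVal τ 0 = c.1 (single q') :=
      (res_apply_chain c.1 _ q' rfl _).trans (M.res_self _ _)
    have e1 : c.1.faceVal τ 1 = M.res h (c.1 (single q)) := res_apply_chain c.1 _ q rfl _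
    rw [← e1, ← h0, e0]

theorem ev_res (z : H φ M 0) (q q' : U) (h : q.1 ≤ q'.1) :
    M.res h (ev φ M q z) = ev φ M q' z := by
  obtain ⟨c, rfl⟩ := Submodule.mkQ_surjective _ z
  exact cocycle_res c q q' h

theorem ev_ext {z z' : H φ M 0} (h : ∀ q, ev φ M q z = ev φ M q z') : z = z' := by
  obtain ⟨c, rfl⟩ := Submodule.mkQ_surjective _ z
  obtain ⟨c', rfl⟩ := Submodule.mkQ_surjective _ z'
  refine congrArg _ (Subtype.ext (funext fun σ => ?_))
  rw [eq_single σ]
  exact h _

theorem exists_of_compatible (s : ∀ q : U, M.carrier q.1)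
    (hs : ∀ (q q' : U) (h : q.1 ≤ q'.1), M.res h (s q) = s q') :
    ∃ z : H φ M 0, ∀ q, ev φ M q z = s q := by
  refine ⟨H.mk φ M 0 ⟨fun σ => s (σ (Fin.last 0)), ?_⟩, fun q => rfl⟩
  change diff φ M 0 _ = 0
  funext τ
  change (∑ j : Fin 2, ((-1 : ℤ) ^ (j : ℕ)) • Cochain.faceVal (fun σ => s (σ (Fin.last 0))) τ j) = 0
  rw [Fin.sum_univ_two]
  simp only [Fin.val_zero, pow_zero, one_smul, Fin.val_one, pow_one, neg_smul,
    ← sub_eq_add_neg, sub_eq_zero]
  exact (hs _ _ _).trans (hs _ _ _).symm

theorem ev_resH {U' : Set X.pt} {R' : Type u} [CommRing R'] {φ' : Coef X U' R'} (s : Coef.Sub φ φ')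
    (z : H φ M 0) (q : U') : ev φ' M q (resH M s 0 z) = ev φ M ⟨q.1, s.le q.2⟩ z := by
  obtain ⟨c, rfl⟩ := Submodule.mkQ_surjective _ z
  rfl

end H0

/-- The coefficient structure over `up x ∩ up y` with values in the ring of `x`. -/
abbrev wCoef (X : RSpace.{u}) (x y : X.pt) :=
  Coef.ofLE (X := X) x ((Hom.id X).wedge x y) ((Hom.id X).wedge_subset_up x y)

variable (hX : X.IsSchematic)
include hX

theorem noetherian (x : X.pt) : IsNoetherianRing (X.ring x) := hX.1.1 x

theorem flat_res {x y : X.pt} (h : x ≤ y) : (X.res h).Flat := hX.1.2 x y h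

theorem bc_src {x x' : X.pt} (h : x ≤ x') (y : X.pt) :
    IsBCAlong (X.res h) (resH X.str ((Hom.id X).subSrc h y) 0) :=
  (hX.2.2 0 x x' h y y le_rfl).1

/-- Ring maps out of the ring of `y ≥ x` are determined on the ring of `x`. -/
theorem res_epi {x y : X.pt} (h : x ≤ y) {T : Type u} [CommRing T] (g₁ g₂ : X.ring y →+* T)
    (hg : g₁.comp (X.res h) = g₂.comp (X.res h)) : g₁ = g₂ := by
  letI : Module (X.ring y) T := Module.compHom T g₁
  -- evaluate classes over `up x ∩ up y` at `y`
  let q₀ : (Hom.id X).wedge x y := ⟨y, h, le_rfl⟩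
  let q₁ : (Hom.id X).wedge y y := ⟨y, le_rfl, le_rfl⟩
  let ψ : H (wCoef X x y) X.str 0 →ₛₗ[X.res h] T :=
    { toFun := fun z => g₂ (ev (wCoef X x y) X.str q₀ z)
      map_add' := fun a b => by rw [map_add]; exact map_add g₂ _ _
      map_smul' := fun r a => by
        rw [LinearMap.map_smulₛₗ]
        change g₂ (X.res h r * _) = g₁ (X.res h r) * _
        rw [map_mul]
        exact congrArg (· * _) (RingHom.congr_fun hg r).symm }
  obtain ⟨L, hL⟩ := bc_exists_lift (bc_src hX h y) ψ
  refine RingHom.ext fun a => ?_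
  have key : ∀ b : X.ring y, ∃ z : H (wCoef X x y) X.str 0, ev (wCoef X x y) X.str q₀ z = b := by
    intro b
    obtain ⟨z, hz⟩ := exists_of_compatible (φ := wCoef X x y) (M := X.str)
      (fun q => X.res q.2.2 b) fun q q' hqq => X.res_comp _ _ b
    exact ⟨z, (hz q₀).trans (X.res_self _ _)⟩
  have ext1 : ∀ w w' : H (wCoef X y y) X.str 0,
      ev (wCoef X y y) X.str q₁ w = ev (wCoef X y y) X.str q₁ w' → w = w' := fun w w' hw =>
    ev_ext fun q => by rw [← ev_res w q₁ q q.2.1, ← ev_res w' q₁ q q.2.1, hw]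
  obtain ⟨z, hz⟩ := key a
  obtain ⟨e, he⟩ := key 1
  have hre : resH X.str ((Hom.id X).subSrc h y) 0 z =
      a • resH X.str ((Hom.id X).subSrc h y) 0 e := by
    refine ext1 _ _ ?_
    rw [LinearMap.map_smulₛₗ, ev_resH, ev_resH]
    change (show X.ring y from ev (wCoef X x y) X.str q₀ z) =
      X.res le_rfl a * (show X.ring y from ev (wCoef X x y) X.str q₀ e)
    erw [hz, he, mul_one, X.res_self]
  have h3 := (congrArg L hre).symm.trans (hL z)
  erw [map_smul, hL] at h3
  change g₁ a * g₂ (ev (wCoef X x y) X.str q₀ e) = g₂ (ev (wCoef X x y) X.str q₀ z) at h3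
  erw [he, hz, map_one, mul_one] at h3
  exact h3

/-- Ring maps with the same restriction agree on every algebra of the restriction. -/
theorem algHom_res_unique {x y : X.pt} (h : x ≤ y) {T : Type u} [CommRing T]
    (g₁ g₂ : X.ring y →+* T) (hg : ∀ a, g₁ (X.res h a) = g₂ (X.res h a)) : g₁ = g₂ :=
  res_epi hX h g₁ g₂ (RingHom.ext hg)

/-- Two primes above `x` and `y` with the same trace at `s` force `up x ∩ up y` to be nonempty. -/
theorem exists_common {s x y : X.pt} (hx : s ≤ x) (hy : s ≤ y) {T : Type u} [CommRing T]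
    [Nontrivial T] (g₁ : X.ring x →+* T) (g₂ : X.ring y →+* T)
    (hg : g₁.comp (X.res hx) = g₂.comp (X.res hy)) :
    (X.up x ∩ X.up y).Nonempty ∧ ∃ L : X.sectRing (X.up x ∩ X.up y) →+* T,
      (∀ a, L (X.resSect x (X.up x ∩ X.up y) Set.inter_subset_left a) = g₁ a) ∧
      ∀ b, L (X.resSect y (X.up x ∩ X.up y) Set.inter_subset_right b) = g₂ b := by
  letI : Module (X.ring x) T := Module.compHom T g₁
  let q₀ : (Hom.id X).wedge s y := ⟨y, hy, le_rfl⟩
  let ψ : H (wCoef X s y) X.str 0 →ₛₗ[X.res hx] T :=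
    { toFun := fun z => g₂ (ev (wCoef X s y) X.str q₀ z)
      map_add' := fun a b => by rw [map_add]; exact map_add g₂ _ _
      map_smul' := fun r a => by
        rw [LinearMap.map_smulₛₗ]
        change g₂ (X.res hy r * _) = g₁ (X.res hx r) * _
        rw [map_mul]
        exact congrArg (· * _) (RingHom.congr_fun hg r).symm }
  obtain ⟨L, hL⟩ := bc_exists_lift (bc_src hX hx y) ψ
  have key : ∀ b : X.ring y, ∃ z : H (wCoef X s y) X.str 0, ∀ q : (Hom.id X).wedge s y,
      ev (wCoef X s y) X.str q z = X.res q.2.2 b := fun b =>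
    exists_of_compatible (φ := wCoef X s y) (M := X.str) (fun q => X.res q.2.2 b) fun q q' hqq =>
      X.res_comp _ _ b
  choose sec hsec using key
  have hsec0 : ∀ b, ev (wCoef X s y) X.str q₀ (sec b) = b := fun b =>
    (hsec b q₀).trans (X.res_self _ _)
  -- classes over `up x ∩ up y` are the sections there
  have hw : ∀ w : H (wCoef X x y) X.str 0,
      (fun q : ↥(X.up x ∩ X.up y) => ev (wCoef X x y) X.str ⟨q.1, q.2⟩ w) ∈
        X.sectRing (X.up x ∩ X.up y) := fun w q q' h => ev_res w _ _ h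
  have hmk : ∀ σ : X.sectRing (X.up x ∩ X.up y), ∃ w : H (wCoef X x y) X.str 0,
      ∀ q : (Hom.id X).wedge x y, ev (wCoef X x y) X.str q w = σ.1 ⟨q.1, q.2⟩ := fun σ =>
    exists_of_compatible (φ := wCoef X x y) (M := X.str) (fun q => σ.1 ⟨q.1, q.2⟩)
      fun q q' hqq => σ.2 _ _ hqq
  choose cls hcls using hmk
  have hLsec : ∀ b, L (resH X.str ((Hom.id X).subSrc hx y) 0 (sec b)) = g₂ b := fun b =>
    (hL _).trans (congrArg g₂ (hsec0 b))
  -- the unit
  have h1 : resH X.str ((Hom.id X).subSrc hx y) 0 (sec 1) = cls 1 := ev_ext fun q => by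
    rw [ev_resH, hsec, hcls, map_one]; rfl
  have hne : (X.up x ∩ X.up y).Nonempty := by
    by_contra hemp
    have : resH X.str ((Hom.id X).subSrc hx y) 0 (sec 1) = 0 :=
      ev_ext fun q => absurd ⟨q.1, q.2⟩ hemp
    have h0 := hLsec 1
    rw [this, map_zero, map_one] at h0
    exact zero_ne_one h0
  -- multiplicativity of `L` follows from that on a spanning set
  let Φ : X.sectRing (X.up x ∩ X.up y) →+ T :=
    { toFun := fun σ => L (cls σ)
      map_zero' := by
        rw [show cls 0 = 0 from ev_ext fun q => by rw [hcls, map_zero]; rfl, map_zero]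
      map_add' := fun σ τ => by
        rw [← map_add]
        exact congrArg L (ev_ext fun q => by rw [map_add, hcls, hcls, hcls]; rfl) }
  have hsmul : ∀ (a : X.ring x) σ, Φ (X.resSect x (X.up x ∩ X.up y) Set.inter_subset_left a * σ) =
      g₁ a * Φ σ := fun a σ => by
    change L (cls _) = a • L (cls σ)
    rw [← map_smul]
    exact congrArg L (ev_ext fun q => by rw [LinearMap.map_smulₛₗ, hcls, hcls]; rfl)
  have hy' : ∀ b, Φ (X.resSect y (X.up x ∩ X.up y) Set.inter_subset_right b) = g₂ b := fun b => by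
    change L (cls _) = _
    rw [← hLsec b]
    exact congrArg L (ev_ext fun q => by rw [hcls, ev_resH, hsec]; rfl)
  -- the set of sections on which `Φ` is multiplicative against everything
  have hcls' : ∀ w, cls ⟨_, hw w⟩ = w := fun w => ev_ext fun q => hcls _ q
  have span : ∀ (P : X.sectRing (X.up x ∩ X.up y) → Prop),
      (∀ (a : X.ring x) (b : X.ring y), P (X.resSect x (X.up x ∩ X.up y) Set.inter_subset_left a *
        X.resSect y (X.up x ∩ X.up y) Set.inter_subset_right b)) →
      (∀ σ τ, P σ → P τ → P (σ + τ)) → P 0 → ∀ σ, P σ := by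
    intro P hP hadd hzero σ
    letI : Algebra (X.ring s) (X.ring x) := (X.res hx).toAlgebra
    letI : Module (X.ring s) (H (wCoef X x y) X.str 0) :=
      Module.compHom _ (X.res hx)
    haveI : IsScalarTower (X.ring s) (X.ring x) (H (wCoef X x y) X.str 0) :=
      IsScalarTower.of_algebraMap_smul fun _ _ => rfl
    suffices ∀ w, P ⟨_, hw w⟩ by
      have h2 : σ = ⟨_, hw (cls σ)⟩ := Subtype.ext (funext fun q => (hcls σ _).symm)
      rw [h2]; exact this _
    intro w
    obtain ⟨t, rfl⟩ := (IsBaseChange.equiv (bc_src hX hx y)).surjective w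
    induction t using TensorProduct.induction_on with
    | zero =>
      refine (congrArg P (Subtype.ext (funext fun q => ?_))).mpr hzero
      change ev _ _ _ _ = _
      rw [map_zero, map_zero]; rfl
    | tmul a z =>
      refine (congrArg P (Subtype.ext (funext fun q => ?_))).mpr (hP a (ev (wCoef X s y) X.str q₀ z))
      change ev _ _ _ _ = _
      rw [IsBaseChange.equiv_tmul, LinearMap.map_smulₛₗ]
      refine congrArg₂ (fun u v : X.ring q.1 => u * v) rfl ?_
      exact (ev_resH _ _ _).trans (ev_res z q₀ ⟨q.1, hx.trans q.2.1, q.2.2⟩ q.2.2).symm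
    | add t t' ht ht' =>
      refine (congrArg P (Subtype.ext (funext fun q => ?_))).mpr (hadd _ _ ht ht')
      change ev _ _ _ _ = _
      rw [map_add, map_add]; rfl
  have hone : Φ 1 = 1 := by
    have h0 := hy' 1
    rw [map_one] at h0
    exact h0.trans (map_one g₂)
  have hmul : ∀ σ τ, Φ (σ * τ) = Φ σ * Φ τ := by
    refine span _ (fun a b => ?_) (fun σ σ' h h' τ => by rw [add_mul, map_add, map_add, h, h', add_mul])
      (fun τ => by rw [zero_mul, map_zero, zero_mul])
    refine span _ (fun a' b' => ?_) (fun τ τ' h h' => by rw [mul_add, map_add, map_add, h, h', mul_add])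
      (by rw [mul_zero, map_zero, mul_zero])
    rw [mul_mul_mul_comm, ← map_mul, ← map_mul, hsmul, hsmul, hsmul, hy', hy', hy', map_mul,
      map_mul]
    ring
  refine ⟨hne, { Φ with map_one' := hone, map_mul' := hmul }, fun a => ?_, hy'⟩
  have := hsmul a 1
  rwa [mul_one, hone, mul_one] at this

/-- With faithfully flat products over intersections, pairs with the same trace are related. -/
theorem pairRel_of_comap_eq
    (hff : ∀ s a b : X.pt, s ≤ a → s ≤ b → (X.up a ∩ X.up b).Nonempty →
      Module.FaithfullyFlat (X.sectRing (X.up a ∩ X.up b)) ((q : ↥(X.up a ∩ X.up b)) → X.ring q.1))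
    {s x y : X.pt} (hx : s ≤ x) (hy : s ≤ y) (P : PrimeSpectrum (X.ring x))
    (Q : PrimeSpectrum (X.ring y))
    (hPQ : PrimeSpectrum.comap (X.res hx) P = PrimeSpectrum.comap (X.res hy) Q) :
    X.PairRel ⟨x, P⟩ ⟨y, Q⟩ := by
  classical
  set K := (PrimeSpectrum.comap (X.res hx) P).asIdeal with hK
  have hKy : K = Q.asIdeal.comap (X.res hy) := congrArg PrimeSpectrum.asIdeal hPQ
  let i₁ := Ideal.ResidueField.map K P.asIdeal (X.res hx) rfl
  let i₂ := Ideal.ResidueField.map K Q.asIdeal (X.res hy) hKy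
  letI := i₁.toAlgebra
  letI := i₂.toAlgebra
  let T := P.asIdeal.ResidueField ⊗[K.ResidueField] Q.asIdeal.ResidueField
  obtain ⟨m, hm⟩ := Ideal.exists_maximal T
  let F := T ⧸ m
  letI : Field F := Ideal.Quotient.field m
  let g₁ : X.ring x →+* F := (Ideal.Quotient.mk m).comp
    ((Algebra.TensorProduct.includeLeft : P.asIdeal.ResidueField →ₐ[K.ResidueField] T).toRingHom.comp
      (algebraMap (X.ring x) P.asIdeal.ResidueField))
  let g₂ : X.ring y →+* F := (Ideal.Quotient.mk m).comp
    ((Algebra.TensorProduct.includeRight : Q.asIdeal.ResidueField →ₐ[K.ResidueField] T).toRingHom.comp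
      (algebraMap (X.ring y) Q.asIdeal.ResidueField))
  have hg : g₁.comp (X.res hx) = g₂.comp (X.res hy) := by
    ext a
    change Ideal.Quotient.mk m ((Algebra.TensorProduct.includeLeft :
        P.asIdeal.ResidueField →ₐ[K.ResidueField] T) (algebraMap _ _ (X.res hx a))) =
      Ideal.Quotient.mk m ((Algebra.TensorProduct.includeRight :
        Q.asIdeal.ResidueField →ₐ[K.ResidueField] T) (algebraMap _ _ (X.res hy a)))
    rw [← Ideal.ResidueField.map_algebraMap K P.asIdeal (X.res hx) rfl,
      ← Ideal.ResidueField.map_algebraMap K Q.asIdeal (X.res hy) hKy]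
    exact congrArg _ (((Algebra.TensorProduct.includeLeft :
      P.asIdeal.ResidueField →ₐ[K.ResidueField] T).commutes _).trans
      ((Algebra.TensorProduct.includeRight :
        Q.asIdeal.ResidueField →ₐ[K.ResidueField] T).commutes _).symm)
  have hker₁ : RingHom.ker g₁ = P.asIdeal := by
    refine Eq.trans ?_ (Ideal.ker_algebraMap_residueField P.asIdeal)
    exact RingHom.ker_comp_of_injective _ (f := ((Ideal.Quotient.mk m).comp
      (Algebra.TensorProduct.includeLeft : P.asIdeal.ResidueField →ₐ[K.ResidueField] T).toRingHom))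
      (RingHom.injective _)
  have hker₂ : RingHom.ker g₂ = Q.asIdeal := by
    refine Eq.trans ?_ (Ideal.ker_algebraMap_residueField Q.asIdeal)
    exact RingHom.ker_comp_of_injective _ (f := ((Ideal.Quotient.mk m).comp
      (Algebra.TensorProduct.includeRight : Q.asIdeal.ResidueField →ₐ[K.ResidueField] T).toRingHom))
      (RingHom.injective _)
  obtain ⟨hne, L, hL₁, hL₂⟩ := exists_common hX hx hy g₁ g₂ hg
  have := hff s x y hx hy hne
  obtain ⟨w, hw⟩ := PrimeSpectrum.comap_surjective_of_faithfullyFlat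
    (B := (q : ↥(X.up x ∩ X.up y)) → X.ring q.1)
    (⟨RingHom.ker L, RingHom.ker_isPrime L⟩ : PrimeSpectrum (X.sectRing (X.up x ∩ X.up y)))
  obtain ⟨q, r, rfl⟩ := PrimeSpectrum.exists_comap_evalRingHom_eq w
  refine ⟨q.1, q.2.1, q.2.2, r, ?_, ?_⟩
  · refine PrimeSpectrum.ext ((?_ : _ = RingHom.ker g₁).trans hker₁)
    rw [show g₁ = L.comp (X.resSect x _ Set.inter_subset_left) from RingHom.ext fun a => (hL₁ a).symm,
      ← RingHom.comap_ker, ← show _ = RingHom.ker L from congrArg PrimeSpectrum.asIdeal hw]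
    rfl
  · refine PrimeSpectrum.ext ((?_ : _ = RingHom.ker g₂).trans hker₂)
    rw [show g₂ = L.comp (X.resSect y _ Set.inter_subset_right) from RingHom.ext fun a => (hL₂ a).symm,
      ← RingHom.comap_ker, ← show _ = RingHom.ker L from congrArg PrimeSpectrum.asIdeal hw]
    rfl

/-- A ring map to a field out of the ring of `x` and one out of a larger point with the same trace. -/
theorem exists_field_hom {s x' : X.pt} (h : s ≤ x') {Ω : Type u} [Field Ω] (g : X.ring s →+* Ω)
    (R : Ideal (X.ring x')) [R.IsPrime] (hR : R.comap (X.res h) = RingHom.ker g) :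
    ∃ (F : Type u) (_ : Field F) (i : Ω →+* F) (j : X.ring x' →+* F),
      j.comp (X.res h) = i.comp g := by
  have : (RingHom.ker g).IsPrime := RingHom.ker_isPrime g
  letI := (Ideal.ResidueField.map (RingHom.ker g) R (X.res h) hR.symm).toAlgebra
  letI := (Ideal.ResidueField.lift (RingHom.ker g) g le_rfl (fun a ha => by
    simpa [IsUnit.mem_submonoid_iff] using ha)).toAlgebra
  let T := Ω ⊗[(RingHom.ker g).ResidueField] R.ResidueField
  obtain ⟨m, hm⟩ := Ideal.exists_maximal T
  refine ⟨T ⧸ m, Ideal.Quotient.field m,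
    (Ideal.Quotient.mk m).comp (Algebra.TensorProduct.includeLeft :
      Ω →ₐ[(RingHom.ker g).ResidueField] T).toRingHom,
    (Ideal.Quotient.mk m).comp ((Algebra.TensorProduct.includeRight :
      R.ResidueField →ₐ[(RingHom.ker g).ResidueField] T).toRingHom.comp
      (algebraMap (X.ring x') R.ResidueField)), ?_⟩
  ext a
  change Ideal.Quotient.mk m ((Algebra.TensorProduct.includeRight :
      R.ResidueField →ₐ[(RingHom.ker g).ResidueField] T) (algebraMap _ _ (X.res h a))) =
    Ideal.Quotient.mk m ((Algebra.TensorProduct.includeLeft :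
      Ω →ₐ[(RingHom.ker g).ResidueField] T) (g a))
  rw [← Ideal.ResidueField.map_algebraMap (RingHom.ker g) R (X.res h) hR.symm,
    ← Ideal.ResidueField.lift_algebraMap (RingHom.ker g) g le_rfl (fun a ha => by
      simpa [IsUnit.mem_submonoid_iff] using ha) a]
  exact congrArg _ (((Algebra.TensorProduct.includeRight :
      R.ResidueField →ₐ[(RingHom.ker g).ResidueField] T).commutes _).trans
    ((Algebra.TensorProduct.includeLeft :
      Ω →ₐ[(RingHom.ker g).ResidueField] T).commutes _).symm)

end Groth.SchFinAux
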